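import Cfsg.Agent.H72.Asch.UnitaryShape
import Cfsg.Agent.H91.RankOne.Assembly
import Cfsg.Agent.H28.ZTSetup
import Cfsg.Agent.S1137
import Cfsg.Agent.S1138
import Cfsg.Agent.S1139

/-!
The three shapes of a rank-one set-up generated by `Q` and `t`: `Q` elementary, `Q` of Suzuki type
(squaring injective modulo the involutions, commutator maps with at least three values), or `Q` of
order `q ^ 3` with an element of the two-point stabiliser centralising exactly the involutions.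
-/

set_option autoImplicit false
set_option linter.style.haveILetI false

namespace Cfsg.Agent.H72.Asch

open MulAction
open scoped commutatorElement

universe u v

/-- The number `q`: involutions of the point stabiliser and one. -/
noncomputable def lineOrder (G : Type u) {Ω : Type v} [Group G] [MulAction G Ω] (a : Ω) : ℕ :=
  Nat.card (Cfsg.involutionsIn (stabilizer G a : Set G)) + 1

variable {G : Type u} {Ω : Type v} [Group G] [MulAction G Ω]

/-- The shapes of a rank-one set-up generated by `Q` and `t`. -/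
structure RankOneShape (a : Ω) (t : G) (Q : Subgroup G) : Prop where
  isPGroup : IsPGroup 2 Q
  sq_sq : ∀ g ∈ Q, g * g * (g * g) = 1
  comm_sq : ∀ g ∈ Q, ∀ k ∈ Q, ⁅g, k⁆ * ⁅g, k⁆ = 1
  four_le : 4 ≤ lineOrder G a
  cyclic : IsCyclic ↥(stabilizer G a ⊓ stabilizer G (t • a))
  trans : ∀ s ∈ Cfsg.involutionsIn (stabilizer G a : Set G),
    ∀ s' ∈ Cfsg.involutionsIn (stabilizer G a : Set G),
      ∃ d ∈ stabilizer G a ⊓ stabilizer G (t • a), d * s * d⁻¹ = s'
  cases : ((∀ g ∈ Q, g * g = 1) ∧ Nat.card Q = lineOrder G a) ∨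
    (Nat.card Q = lineOrder G a ^ 2 ∧ 8 ≤ lineOrder G a ∧
      (∀ g ∈ Q, ∀ k ∈ Q, g * g = k * k → g * k⁻¹ * (g * k⁻¹) = 1) ∧
      ∀ g ∈ Q, g * g ≠ 1 → ∃ k ∈ Q, ∃ l ∈ Q, ⁅g, k⁆ ≠ 1 ∧ ⁅g, l⁆ ≠ 1 ∧ ⁅g, k⁆ ≠ ⁅g, l⁆) ∨
    (Nat.card Q = lineOrder G a ^ 3 ∧ fixI a t ≠ ⊥ ∧
      ∀ w ∈ fixI a t, w ≠ 1 → ∀ g ∈ Q, Commute w g → g * g = 1)
  aut : ∀ φ : MulAut G, (∀ x ∈ Q, φ x ∈ Q) → (∀ z ∈ Q, z * z = 1 → φ z = z) →
    (∀ d ∈ stabilizer G a ⊓ stabilizer G (t • a), φ d ∈ stabilizer G a ⊓ stabilizer G (t • a)) →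
    (∀ w ∈ fixI a t, φ w = w) ∨ ∀ w ∈ fixI a t, φ w = w⁻¹

variable [Finite G] [FaithfulSMul G Ω] {a : Ω} {t : G} {Q : Subgroup G}

omit [FaithfulSMul G Ω] in
theorem exists_trans (hS : Cfsg.IsRankOneSetup G Ω a t Q)
    {s s' : G} (hs : s ∈ Cfsg.involutionsIn (stabilizer G a : Set G))
    (hs' : s' ∈ Cfsg.involutionsIn (stabilizer G a : Set G)) :
    ∃ d ∈ stabilizer G a ⊓ stabilizer G (t • a), d * s * d⁻¹ = s' := by
  obtain ⟨k, hk, hks⟩ := (S1122.result hS).2 s hs s' hs'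
  exact ⟨k⁻¹, inv_mem hk.1, by rwa [inv_inv]⟩

/-- Without an element of the two-point stabiliser centralising `t` only the first two shapes
occur. -/
theorem shape_of_free (hS : Cfsg.IsRankOneSetup G Ω a t Q)
    (h2 : ∃ x y : G, x ≠ 1 ∧ y ≠ 1 ∧ x ≠ y ∧ x * x = 1 ∧ y * y = 1 ∧ x * y = y * x)
    (hgen : Subgroup.closure ((Q : Set G) ∪ {t}) = ⊤)
    (hV : ∀ d ∈ stabilizer G a ⊓ stabilizer G (t • a), d * t = t * d → d = 1) :
    RankOneShape a t Q := by
  classical
  cases nonempty_fintype G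
  set D := stabilizer G a ⊓ stabilizer G (t • a) with hD
  have hne := (H38.t_smul_ne hS).symm
  have hinv : ∀ d ∈ D, d ∈ Cfsg.invertedBy D t := fun d hd =>
    ⟨hd, by simpa [H38.t_inv hS] using H91.RankOne.inverted hS hV d hd⟩
  have hcardD : Nat.card D = Nat.card (Cfsg.involutionsIn (stabilizer G a : Set G)) := by
    rw [← (S1122.result hS).1]
    exact Nat.card_congr ⟨fun d => ⟨d, hinv d d.2⟩, fun d => ⟨d, d.2.1⟩, fun _ => rfl, fun _ => rfl⟩
  obtain ⟨C, hC, hcyc, -⟩ := S1131.result hS h2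
  have hDC : D = C := SetLike.coe_injective
    (by rw [hC]; exact Set.ext fun d => ⟨hinv d, fun h => h.1⟩)
  obtain ⟨x₀, y₀, hx₀Q, -, hx₀, hy₀, hxy₀, hxx₀, -, -⟩ := H91.RankOne.exists_four_in_stab hS h2
  have hW : fixI a t = ⊥ := by
    rw [eq_bot_iff]
    intro d hd
    by_contra hd1
    have h := (mem_fixI.mp hd).2 x₀ ⟨hS.le hx₀Q, hx₀, hxx₀⟩
    have h' := S1128.result hS h2 d (hinv d hd.1) fun e => hd1 (Subgroup.mem_bot.mpr e)
    exact hx₀ (Subgroup.mem_bot.mp
      (h' ▸ ⟨hx₀Q, Subgroup.mem_centralizer_singleton_iff.mpr h.eq.symm⟩))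
  have haut : ∀ φ : MulAut G, (∀ w ∈ fixI a t, φ w = w) ∨ ∀ w ∈ fixI a t, φ w = w⁻¹ := fun φ =>
    Or.inl fun w hw => by rw [hW, Subgroup.mem_bot] at hw; rw [hw, map_one]
  have hcycD : IsCyclic ↥D := hDC ▸ hcyc
  have htwo : 2 ≤ Nat.card (Cfsg.involutionsIn (stabilizer G a : Set G)) := by
    obtain ⟨s, s', hs, hs', hne'⟩ := H38.two_le_invol hS h2
    exact Finite.one_lt_card_iff_nontrivial.2
      ⟨⟨s, hs⟩, ⟨s', hs'⟩, fun e => hne' (congrArg Subtype.val e)⟩
  have hker : H28.Zass.IsKer a Q :=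
    ⟨hS.le, (H38.card_pts hS).symm, fun u hu hu1 c hc => H38.Q_fix_only hS hu hu1 hc⟩
  have hZ := H91.RankOne.zassenhaus hS h2 hV
  have hΩ : Finite Ω := H38.finite_pts hS
  by_cases hcomm : ∀ u ∈ Q, ∀ v ∈ Q, u * v = v * u
  · have hcard : Nat.card Q = lineOrder G a := by
      rcases H28.Zass.kernel_cases hker hZ hne hcomm with he | he
      · rw [lineOrder, ← hcardD, he]
      · exfalso
        have := hS.even_card
        rw [← he, Nat.even_add_one] at this
        exact this (even_two_mul _)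
    let e : Option (Cfsg.involutionsIn (stabilizer G a : Set G)) → Q := fun o =>
      o.elim 1 fun s => ⟨s, H38.invol_mem_Q hS s.2.1 s.2.2.2⟩
    have he : Function.Bijective e := by
      refine (Nat.bijective_iff_injective_and_card e).mpr ⟨?_, ?_⟩
      · rintro (_ | ⟨s, hs⟩) (_ | ⟨s', hs'⟩) h
        · rfl
        · exact absurd (congrArg Subtype.val h).symm hs'.2.1
        · exact absurd (congrArg Subtype.val h) hs.2.1
        · exact congrArg some (Subtype.ext (congrArg Subtype.val h :))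
      · rw [Finite.card_option, hcard]; rfl
    have hel : ∀ g ∈ Q, g * g = 1 := by
      intro g hg
      obtain ⟨o, ho⟩ := he.2 ⟨g, hg⟩
      have h := congrArg Subtype.val ho
      rcases o with _ | s
      · rw [show g = 1 from h.symm, one_mul]
      · rw [show g = (s : G) from h.symm]; exact s.2.2.2
    have hp : IsPGroup 2 Q := fun g => ⟨1, Subtype.ext (by
      rw [pow_one, Subgroup.coe_pow, pow_two]; exact hel g g.2)⟩
    refine ⟨hp, fun g hg => by rw [hel g hg, one_mul], fun g hg k hk => ?_, ?_, hcycD,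
      fun s hs s' hs' => exists_trans hS hs hs', Or.inl ⟨hel, hcard⟩, fun φ _ _ _ => haut φ⟩
    · have h : ⁅g, k⁆ = 1 := commutatorElement_eq_one_iff_mul_comm.mpr (hcomm g hg k hk)
      rw [h, one_mul]
    · haveI : Fact (Nat.Prime 2) := ⟨Nat.prime_two⟩
      obtain ⟨n, hn⟩ := IsPGroup.iff_card.mp hp
      rw [← hcard, hn]
      rw [lineOrder] at hcard
      have h3 : 3 ≤ 2 ^ n := by omega
      rcases n with _ | _ | n
      · simp at h3
      · simp at h3
      · calc 4 = 2 ^ 2 := rfl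
          _ ≤ _ := Nat.pow_le_pow_right two_pos (by omega)
  · push Not at hcomm
    obtain ⟨u₁, hu₁, v₁, hv₁, huv⟩ := hcomm
    have := Fintype.ofFinite Ω
    have hodd := hS.odd_card
    have hsimple : IsSimpleGroup G := by
      obtain ⟨M, hMn, -, hMs, -, hkM⟩ := H28.Zass.exists_simple_normal hZ
      have hQM := hkM a Q hker
      have htM : t ∈ M := by
        obtain ⟨g, hg⟩ := H38.invol_conj hS hx₀ hxx₀ hS.ne_one hS.mul_self
        rw [← hg]
        exact hMn.conj_mem x₀ (hQM hx₀Q) g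
      have hMtop : M = ⊤ := by
        rw [eq_top_iff, ← hgen, Subgroup.closure_le]
        exact Set.union_subset hQM (Set.singleton_subset_iff.2 htM)
      subst hMtop
      exact (Subgroup.topEquiv (G := G)).symm.isSimpleGroup
    have hlt : 2 * Nat.card D < Nat.card Q - 1 := by
      by_contra hle
      have hn : (Q.subgroupOf (stabilizer G a)).Normal := hker.normal_sub hZ
      obtain ⟨hc, -⟩ := S0738.result hZ hne (by
        rw [hD] at hle; rw [← Nat.card_eq_fintype_card, ← hker.card]; omega) Q hker.le hn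
        (fun y z hy hz => hker.regular hZ hy hz)
      exact huv (congrArg Subtype.val (hc.is_comm.comm ⟨u₁, hu₁⟩ ⟨v₁, hv₁⟩))
    obtain ⟨hp, -, -⟩ := H28.Zass.simple_feit_two hker hZ hne hodd hlt
    obtain ⟨n, hnodd, hn1, hcardQ, hcardD', -, hSz, hcen⟩ :=
      H28.ZT.setup hker hZ hne hp ⟨u₁, hu₁, v₁, hv₁, huv⟩
    have hq : lineOrder G a = 2 ^ n := by rw [lineOrder, ← hcardD, hcardD']
    obtain ⟨hinvc, hzsq⟩ := S1137.result hSz
    obtain ⟨hsqc, hcomc, -, -⟩ := S1138.result hSz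
    obtain ⟨F, _, _, φ, hF, hφ, hφodd, ⟨e⟩⟩ := S1139.result hSz (by rw [hcen, hcardQ])
    haveI : Fact (Nat.Prime 2) := ⟨Nat.prime_two⟩
    haveI : CharP F 2 := charP_of_card_eq_prime_pow (f := n) (by rw [hF, hcen])
    have h8 : 8 ≤ lineOrder G a := by
      obtain ⟨k, hk⟩ := hnodd
      rw [hq]
      calc 8 = 2 ^ 3 := rfl
        _ ≤ _ := Nat.pow_le_pow_right two_pos (by omega)
    refine ⟨hp, fun g hg => congrArg Subtype.val (hzsq _ (hsqc ⟨g, hg⟩)), fun g hg k hk => ?_,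
      by omega, hcycD, fun s hs s' hs' => exists_trans hS hs hs',
      Or.inr (Or.inl ⟨by rw [hq, hcardQ], h8, fun g hg k hk h => ?_, fun g hg hgg => ?_⟩),
      fun φ _ _ _ => haut φ⟩
    · have h := hzsq _ (hcomc (⟨g, hg⟩ : Q)⁻¹ (⟨k, hk⟩ : Q)⁻¹)
      simp only [inv_inv] at h
      exact congrArg Subtype.val h
    · have h' := sq_inj_typeA φ hφodd (g := e ⟨g, hg⟩) (k := e ⟨k, hk⟩)
        (by rw [← map_mul, ← map_mul]; exact congrArg e (Subtype.ext h))
      rw [← map_inv, ← map_mul, ← map_mul, ← map_one e] at h'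
      exact congrArg Subtype.val (e.injective h')
    · obtain ⟨k, l, h1, h1', h3⟩ := exists_two_commutators φ hφodd hφ (g := e ⟨g, hg⟩)
        (by rw [← map_mul, ← map_one e]
            exact fun h => hgg (congrArg Subtype.val (e.injective h)))
      have key : ∀ x : Cfsg.suzukiTypeA F (φ : F →+* F),
          ⁅e ⟨g, hg⟩, x⁆ = e ⁅(⟨g, hg⟩ : Q), e.symm x⁆ := fun x => by
        rw [map_commutatorElement, e.apply_symm_apply]
      rw [key] at h1 h1' h3
      rw [key] at h3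
      refine ⟨e.symm k, (e.symm k).2, e.symm l, (e.symm l).2, fun h => h1 ?_, fun h => h1' ?_,
        fun h => h3 (congrArg e (Subtype.ext h))⟩
      · rw [← map_one e]; exact congrArg e (Subtype.ext h)
      · rw [← map_one e]; exact congrArg e (Subtype.ext h)

/-- The shapes of a rank-one set-up generated by `Q` and `t`. -/
theorem rankOneShape (hS : Cfsg.IsRankOneSetup G Ω a t Q)
    (h2 : ∃ x y : G, x ≠ 1 ∧ y ≠ 1 ∧ x ≠ y ∧ x * x = 1 ∧ y * y = 1 ∧ x * y = y * x)
    (hgen : Subgroup.closure ((Q : Set G) ∪ {t}) = ⊤) : RankOneShape a t Q := by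
  by_cases hV : ∀ d ∈ stabilizer G a ⊓ stabilizer G (t • a), d * t = t * d → d = 1
  · exact shape_of_free hS h2 hgen hV
  have hVne : (stabilizer G a ⊓ stabilizer G (t • a)) ⊓ Subgroup.centralizer {t} ≠ ⊥ := by
    intro h
    exact hV fun d hd hdt => Subgroup.mem_bot.mp
      (h ▸ ⟨hd, Subgroup.mem_centralizer_singleton_iff.mpr hdt⟩)
  cases nonempty_fintype G
  obtain ⟨hp, hsq, hcard⟩ := H99.RankOne.structure_Q hS h2 hgen hVne
  obtain ⟨F, K, _, _, _, _, _, _, T, c, hqI, hc⟩ := exists_coords hS h2 hgen hVne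
  obtain ⟨hcyc, hWne⟩ := unitary_torus hc hgen hVne
  refine ⟨hp, hsq, fun g hg k hk => ?_, by rw [lineOrder, ← hqI]; exact hc.four_le, hcyc,
    fun s hs s' hs' => exists_trans hS hs hs',
    Or.inr (Or.inr ⟨hcard, hWne, fun w hw hw1 g hg hwg => ?_⟩),
    fun φ hQ hZ hD => aut_fixI hc φ hQ hZ hD⟩
  · refine congrArg Subtype.val ((fst_eq_zero_iff hc ⁅(⟨g, hg⟩ : Q), ⟨k, hk⟩⁆).mp ?_)
    rw [commutatorElement_def, fst_mul hc, fst_mul hc, fst_mul hc, fst_inv hc, fst_inv hc]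
    linear_combination ((c ⟨g, hg⟩).1 + (c ⟨k, hk⟩).1) * CharTwo.two_eq_zero (R := K)
  · obtain ⟨m, -, hm⟩ := exists_mult hc hw
    refine congrArg Subtype.val ((fst_eq_zero_iff hc ⟨g, hg⟩).mp ?_)
    by_contra hne
    have hfix : H36.RankOneU3.cQ hS ⟨w, hw.1.1⟩ ⟨g, hg⟩ = ⟨g, hg⟩ :=
      Subtype.ext (mul_inv_eq_iff_eq_mul.mpr hwg.eq)
    have h := hm ⟨g, hg⟩
    rw [hfix] at h
    have hm1 : m = 1 := by
      refine mul_right_cancel₀ hne ?_
      rw [one_mul]; exact h.symm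
    exact hw1 (eq_one_of_trivial hc hw.1
      (fun r => mul_inv_eq_iff_eq_mul.mpr (commute_ι hc hw r).eq) fun x => by rw [hm, hm1, one_mul])

end Cfsg.Agent.H72.Asch
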