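import Mathlib

/-!
A group normalising an abelian `F` isomorphic to `(Z/4)^3`, given by its involutions `E` of order
eight which are all squares: the determinant of the action is a character of values `1` at the
elements centralising `F` and `-1` at those inverting it.
-/

set_option autoImplicit false
set_option linter.style.haveILetI false

namespace Cfsg.Agent.H72.Asch

universe u

/-- Three independent elements of an elementary group of order eight. -/
theorem exists_three_independent {F : Type u} [CommGroup F] (E : Subgroup F) [Finite E]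
    (hE : ∀ e ∈ E, e * e = 1) (hcard : Nat.card E = 8) :
    ∃ e₀ ∈ E, ∃ e₁ ∈ E, ∃ e₂ ∈ E, ∀ a b c : ℕ, e₀ ^ a * e₁ ^ b * e₂ ^ c = 1 →
      2 ∣ a ∧ 2 ∣ b ∧ 2 ∣ c := by
  classical
  haveI := Fintype.ofFinite E
  have hmiss : ∀ s : Finset F, s.card < 8 → ∃ e ∈ E, e ∉ s := by
    intro s hs
    by_contra hc
    push Not at hc
    have h1 := Finset.card_le_card_of_injOn (s := (Finset.univ : Finset E)) (t := s)
      (fun e : E => (e : F)) (fun e _ => hc e e.2) (fun e _ e' _ h => Subtype.ext h)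
    rw [Finset.card_univ, ← Nat.card_eq_fintype_card, hcard] at h1
    omega
  obtain ⟨e₀, he₀, h0⟩ := hmiss {1} (by simp)
  obtain ⟨e₁, he₁, h1⟩ := hmiss {1, e₀} (lt_of_le_of_lt (Finset.card_le_two) (by norm_num))
  obtain ⟨e₂, he₂, h2⟩ := hmiss {1, e₀, e₁, e₀ * e₁}
    (lt_of_le_of_lt (Finset.card_le_four) (by norm_num))
  simp only [Finset.mem_singleton, Finset.mem_insert, not_or] at h0 h1 h2
  refine ⟨e₀, he₀, e₁, he₁, e₂, he₂, fun a b c h => ?_⟩
  have hpow : ∀ e ∈ E, ∀ n : ℕ, e ^ n = if 2 ∣ n then 1 else e := by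
    intro e he n
    split_ifs with hn
    · obtain ⟨k, rfl⟩ := hn
      rw [pow_mul, pow_two, hE e he, one_pow]
    · obtain ⟨k, rfl⟩ : ∃ k, n = 2 * k + 1 := ⟨n / 2, by omega⟩
      rw [pow_succ, pow_mul, pow_two, hE e he, one_pow, one_mul]
  rw [hpow e₀ he₀, hpow e₁ he₁, hpow e₂ he₂] at h
  have hinv : ∀ {x y : F}, y ∈ E → x * y = 1 → x = y := fun {x y} hy hxy => by
    rw [eq_inv_of_mul_eq_one_left hxy, inv_eq_of_mul_eq_one_right (hE y hy)]
  by_cases ha : 2 ∣ a <;> by_cases hb : 2 ∣ b <;> by_cases hc : 2 ∣ c <;>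
    simp only [ha, hb, hc, if_true, if_false, one_mul, mul_one] at h ⊢
  all_goals first
    | exact ⟨trivial, trivial, trivial⟩
    | exact absurd h h2.1
    | exact absurd h h1.1
    | exact absurd h h0
    | exact absurd (hinv he₂ h).symm h2.2.1
    | exact absurd (hinv he₂ h).symm h2.2.2.1
    | exact absurd (hinv he₂ h).symm h2.2.2.2
    | exact absurd (hinv he₁ h).symm h1.2

variable {G : Type u} [Group G] [Finite G]

/-- **The determinant on `(Z/4)^3`.** -/
theorem exists_det_hom {S F E : Subgroup G} (hS : S ≤ Subgroup.normalizer (F : Set G))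
    (hcomm : ∀ a ∈ F, ∀ b ∈ F, Commute a b) (hEF : E ≤ F) (hE : ∀ e ∈ E, e * e = 1)
    (hcard : Nat.card E = 8) (hsq : ∀ y ∈ F, y * y ∈ E) (homega : ∀ y ∈ F, y * y = 1 → y ∈ E)
    (honto : ∀ e ∈ E, ∃ y ∈ F, y * y = e) :
    ∃ φ : S →* (ZMod 4)ˣ, (∀ s : S, (∀ y ∈ F, Commute (s : G) y) → φ s = 1) ∧
      (∀ s : S, (∀ y ∈ F, (s : G) * y * (s : G)⁻¹ = y⁻¹) → φ s = -1) := by
  classical
  letI : CommGroup F :=
    { (inferInstance : Group F) with mul_comm := fun a b => Subtype.ext (hcomm a a.2 b b.2).eq }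
  have h4 : ∀ y : F, y ^ 4 = 1 := fun y => Subtype.ext (by
    push_cast
    rw [show (4 : ℕ) = 2 * 2 from rfl, pow_mul, pow_two, pow_two]
    exact hE _ (hsq y y.2))
  letI : Module (ZMod 4) (Additive F) :=
    AddCommGroup.zmodModule fun y => congrArg Additive.ofMul (h4 y.toMul)
  have hsmul : ∀ (r : ZMod 4) (y : F),
      r • Additive.ofMul y = Additive.ofMul (y ^ r.val) := fun r y => by
    conv_lhs => rw [← ZMod.natCast_zmod_val r, Nat.cast_smul_eq_nsmul]
    rfl
  -- the involutions
  set E' : Subgroup F := E.subgroupOf F with hE'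
  have hE'card : Nat.card E' = 8 := by
    rw [Nat.card_congr (Subgroup.subgroupOfEquivOfLe hEF).toEquiv, hcard]
  obtain ⟨e₀, he₀, e₁, he₁, e₂, he₂, hind⟩ := exists_three_independent E'
    (fun e he => Subtype.ext (hE _ he)) hE'card
  have hroot : ∀ e : F, e ∈ E' → ∃ y : F, y ^ 2 = e := fun e he => by
    obtain ⟨y, hy, hye⟩ := honto e he
    exact ⟨⟨y, hy⟩, Subtype.ext (by push_cast; rw [pow_two, hye])⟩
  obtain ⟨y₀, rfl⟩ := hroot e₀ he₀
  obtain ⟨y₁, rfl⟩ := hroot e₁ he₁
  obtain ⟨y₂, rfl⟩ := hroot e₂ he₂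
  let v : Fin 3 → Additive F :=
    ![Additive.ofMul y₀, Additive.ofMul y₁, Additive.ofMul y₂]
  set L := Fintype.linearCombination (ZMod 4) v with hL
  have hLval : ∀ r : Fin 3 → ZMod 4,
      L r = Additive.ofMul (y₀ ^ (r 0).val * y₁ ^ (r 1).val * y₂ ^ (r 2).val) := by
    intro r
    simp only [hL, Fintype.linearCombination_apply, Fin.sum_univ_three, v, Matrix.cons_val,
      hsmul, ofMul_mul]
  have hinj : Function.Injective L := by
    refine (injective_iff_map_eq_zero L).mpr fun r hr => ?_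
    rw [hLval] at hr
    have hr' : y₀ ^ (r 0).val * y₁ ^ (r 1).val * y₂ ^ (r 2).val = 1 := hr
    have h2 := congrArg (fun y : F => y ^ 2) hr'
    simp only [mul_pow, one_pow, ← pow_mul, mul_comm _ 2] at h2
    simp only [pow_mul] at h2
    obtain ⟨⟨a, ha⟩, ⟨b, hb⟩, ⟨c, hc⟩⟩ := hind _ _ _ h2
    rw [ha, hb, hc, pow_mul, pow_mul, pow_mul] at hr'
    obtain ⟨⟨a', ha'⟩, ⟨b', hb'⟩, ⟨c', hc'⟩⟩ := hind _ _ _ hr'
    funext i
    refine (ZMod.val_eq_zero (r i)).mp ?_
    have := ZMod.val_lt (r i)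
    fin_cases i <;> simp only [Fin.zero_eta, Fin.mk_one, Fin.reduceFinMk] at this ⊢ <;> omega
  have hcardF : Nat.card (Additive F) ≤ 64 := by
    have hker : ∀ y : F, (powMonoidHom 2 : F →* F) y = 1 ↔ y ∈ E' := fun y =>
      ⟨fun h1 => homega _ y.2 (by
        have := congrArg Subtype.val h1
        simpa [pow_two] using this), fun h1 => Subtype.ext (by simpa [pow_two] using hE _ h1)⟩
    have hk : (powMonoidHom 2 : F →* F).ker = E' := SetLike.ext fun y => hker y
    have hr : (powMonoidHom 2 : F →* F).range ≤ E' := by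
      rintro _ ⟨y, rfl⟩
      show ((y ^ 2 : F) : G) ∈ E
      push_cast
      rw [pow_two]
      exact hsq y y.2
    have h1 := (powMonoidHom 2 : F →* F).ker.card_mul_index
    rw [Subgroup.index_ker, hk, hE'card] at h1
    have h2 := Subgroup.card_le_of_le hr
    rw [hE'card] at h2
    rw [Nat.card_congr Additive.toMul]
    omega
  have hbij : Function.Bijective L := by
    haveI := Fintype.ofFinite (Additive F)
    refine (Fintype.bijective_iff_injective_and_card L).mpr
      ⟨hinj, le_antisymm (Fintype.card_le_of_injective L hinj) ?_⟩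
    rw [← Nat.card_eq_fintype_card]
    simpa [ZMod.card] using hcardF
  let B : Module.Basis (Fin 3) (ZMod 4) (Additive F) :=
    Module.Basis.ofEquivFun (LinearEquiv.ofBijective L hbij).symm
  haveI : Fact (1 < 4) := ⟨by norm_num⟩
  haveI := Module.Free.of_basis B
  have hrank : Module.finrank (ZMod 4) (Additive F) = 3 := by
    rw [Module.finrank_eq_card_basis B, Fintype.card_fin]
  -- the action
  let ρ : S →* Module.End (ZMod 4) (Additive F) :=
    { toFun := fun s => AddMonoidHom.toZModLinearMap 4 (MonoidHom.toAdditive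
        { toFun := fun y => (⟨(s : G) * y * (s : G)⁻¹,
            (Subgroup.mem_normalizer_iff.mp (hS s.2) _).mp y.2⟩ : F)
          map_one' := Subtype.ext (by simp)
          map_mul' := fun y z => Subtype.ext (by simp [mul_assoc]) })
      map_one' := LinearMap.ext fun y => congrArg Additive.ofMul (Subtype.ext (by simp; rfl))
      map_mul' := fun s s' => LinearMap.ext fun y => congrArg Additive.ofMul (Subtype.ext (by
        simp [mul_assoc]; rfl)) }
  refine ⟨(LinearMap.det.comp ρ).toHomUnits, fun s hs => ?_, fun s hs => ?_⟩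
  · refine Units.ext ?_
    have h1 : ρ s = 1 := LinearMap.ext fun y => congrArg Additive.ofMul
      (Subtype.ext (mul_inv_eq_iff_eq_mul.mpr (hs _ y.toMul.2).eq))
    simp [h1]
  · refine Units.ext ?_
    have h1 : ρ s = (-1 : ZMod 4) • LinearMap.id := LinearMap.ext fun y => by
      rw [LinearMap.smul_apply, LinearMap.id_apply, neg_smul, one_smul]
      exact congrArg Additive.ofMul (Subtype.ext (hs _ y.toMul.2) : _ = (y.toMul)⁻¹)
    rw [MonoidHom.coe_toHomUnits, MonoidHom.comp_apply, h1, LinearMap.det_smul, hrank,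
      LinearMap.det_id, mul_one, Units.val_neg, Units.val_one]
    decide

end Cfsg.Agent.H72.Asch
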