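import Cfsg.Agent.H29.Asch.ShapeExists
import Cfsg.Agent.H26.Asch.ClassBasics
import Cfsg.Agent.H51.Asch.UnitaryEight

/-!
The two-elements at `x` centralising `u` when `|E| = 8` and the torus image is normalised: a Sylow
`2`-subgroup `P` of `C(u)` at `x` through `Q⟨u⟩` normalises `E` and the image of the torus on it, so
it centralises `E`, as `8` is no square; so `P = Q⟨u⟩` has exponent four.
-/

set_option autoImplicit false
set_option linter.style.haveILetI false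
set_option linter.unusedSectionVars false

namespace Cfsg.Agent.H72.Asch

open Subgroup MulAction
open Cfsg.Agent.H14.Asch
open Cfsg.Agent.H39 (mul_self_of_orderOf_eq_two)
open Cfsg.Agent.H73.Asch (RankTwoBad Line2 RankOnePairs)
open Cfsg.Agent.H6.Asch (normAt centAt)
open Cfsg.Agent.H26.Asch (ClassData mem_centAt')
open Cfsg.Agent.H51.Asch (coreStab mem_coreStab HasTranslation MaxTwo exists_maxTwo_ge)
open scoped commutatorElement Pointwise

universe u v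

variable {G : Type u} [Group G] [Finite G]

/-- An element inducing an involution on an elementary group of order eight does not normalise the
image of an abelian group transitive on it. -/
theorem fixes_of_norm_torus {E A : Subgroup G} (hsq : ∀ e ∈ E, e * e = 1) (h8 : Nat.card E = 8)
    (hAE : A ≤ normalizer (E : Set G)) (hAc : ∀ z ∈ A, ∀ z' ∈ A, Commute z z')
    (htrans : ∀ e ∈ E, ∀ f ∈ E, e ≠ 1 → f ≠ 1 → ∃ z ∈ A, z * e * z⁻¹ = f) {g : G}
    (hgE : g ∈ normalizer (E : Set G)) (hg2 : ∀ e ∈ E, g * (g * e * g⁻¹) * g⁻¹ = e)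
    (hconj : ∀ z ∈ A, ∃ z₁ ∈ A, ∀ e ∈ E,
      g * z * g⁻¹ * e * (g * z * g⁻¹)⁻¹ = z₁ * e * z₁⁻¹) : ∀ e ∈ E, g * e * g⁻¹ = e := by
  classical
  by_contra hgne
  push Not at hgne
  have hinv : ∀ {e : G}, e ∈ E → e⁻¹ = e := fun he => inv_eq_of_mul_eq_one_right (hsq _ he)
  have hcomm : ∀ {e f : G}, e ∈ E → f ∈ E → e * f = f * e := fun {e f} he hf => by
    rw [← hinv (E.mul_mem he hf), mul_inv_rev, hinv he, hinv hf]
  have hσ : ∀ {e : G}, e ∈ E → g * e * g⁻¹ ∈ E := fun he => (mem_normalizer_iff.mp hgE _).mp he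
  let F : Subgroup G :=
    { carrier := {e | e ∈ E ∧ g * e * g⁻¹ = e}
      one_mem' := ⟨E.one_mem, by group⟩
      mul_mem' := fun {e f} he hf => ⟨E.mul_mem he.1 hf.1, by
        rw [show g * (e * f) * g⁻¹ = g * e * g⁻¹ * (g * f * g⁻¹) by group, he.2, hf.2]⟩
      inv_mem' := fun {e} he => ⟨E.inv_mem he.1, by
        rw [show g * e⁻¹ * g⁻¹ = (g * e * g⁻¹)⁻¹ by group, he.2]⟩ }
  have hFmem : ∀ {e}, e ∈ F ↔ e ∈ E ∧ g * e * g⁻¹ = e := Iff.rfl
  -- `E / F` embeds in `F`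
  have hle : Nat.card E ≤ Nat.card F * Nat.card F := by
    let d : E → F := fun e => ⟨(e : G) * (g * e * g⁻¹), hFmem.mpr ⟨E.mul_mem e.2 (hσ e.2), by
      rw [show g * ((e : G) * (g * e * g⁻¹)) * g⁻¹ =
        g * e * g⁻¹ * (g * (g * e * g⁻¹) * g⁻¹) by group, hg2 e e.2, hcomm (hσ e.2) e.2]⟩⟩
    have hrep : ∀ y : Set.range d, ∃ e, d e = y := fun y => y.2
    choose rep hrep using hrep
    have hmem : ∀ e : E, (rep ⟨d e, e, rfl⟩ : G) * e ∈ F := fun e => by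
      set e₀ := rep ⟨d e, e, rfl⟩ with he₀
      have h1 : (e₀ : G) * (g * e₀ * g⁻¹) = (e : G) * (g * e * g⁻¹) :=
        congrArg Subtype.val (hrep ⟨d e, e, rfl⟩)
      refine hFmem.mpr ⟨E.mul_mem e₀.2 e.2, ?_⟩
      rw [show g * ((e₀ : G) * e) * g⁻¹ = g * e₀ * g⁻¹ * (g * e * g⁻¹) by group,
        eq_inv_mul_iff_mul_eq.mpr h1, hinv e₀.2, mul_assoc, mul_assoc, hsq _ (hσ e.2), mul_one]
    rw [← Nat.card_prod]
    refine Nat.card_le_card_of_injective (fun e => ((d e, ⟨_, hmem e⟩) : F × F)) fun e e' he => ?_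
    have e1 : d e = d e' := congrArg Prod.fst he
    have e2 := congrArg (fun q : F × F => (q.2 : G)) he
    dsimp only at e2
    rw [show rep ⟨d e, e, rfl⟩ = rep ⟨d e', e', rfl⟩ from congrArg rep (Subtype.ext e1)] at e2
    exact Subtype.ext (mul_left_cancel e2)
  obtain ⟨e₀, he₀, he₀1⟩ : ∃ e ∈ F, e ≠ 1 := by
    by_contra hc
    push Not at hc
    rw [show F = ⊥ from (eq_bot_iff_forall _).mpr hc, card_bot, h8] at hle
    omega
  obtain ⟨x, hx, hxg⟩ := hgne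
  have hx1 : x ≠ 1 := fun e => hxg (by rw [e]; group)
  obtain ⟨z, hzA, hze⟩ := htrans e₀ he₀.1 x hx he₀1 hx1
  obtain ⟨z₁, hz₁A, hz₁⟩ := hconj z hzA
  have hσz : ∀ f ∈ F, g * (z * f * z⁻¹) * g⁻¹ = z₁ * f * z₁⁻¹ := fun f hf => by
    rw [← hz₁ f hf.1]
    conv_rhs => arg 1; arg 2; rw [← hf.2]
    group
  -- two elements of `A` agreeing at one point agree
  have heq : ∀ {f : G}, f ∈ E → f ≠ 1 → z * f * z⁻¹ = z₁ * f * z₁⁻¹ →
      z * e₀ * z⁻¹ = z₁ * e₀ * z₁⁻¹ := by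
    intro f hf hf1 hff
    obtain ⟨c, hc, rfl⟩ := htrans f hf e₀ he₀.1 hf1 he₀1
    calc z * (c * f * c⁻¹) * z⁻¹ = z * c * f * (z * c)⁻¹ := by group
      _ = c * (z * f * z⁻¹) * c⁻¹ := by rw [(hAc z hzA c hc).eq]; group
      _ = c * (z₁ * f * z₁⁻¹) * c⁻¹ := by rw [hff]
      _ = c * z₁ * f * (c * z₁)⁻¹ := by group
      _ = z₁ * (c * f * c⁻¹) * z₁⁻¹ := by rw [(hAc c hc z₁ hz₁A).eq]; group
  have hge : Nat.card F * Nat.card F ≤ Nat.card E := by
    rw [← Nat.card_prod]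
    let m : F × F → E := fun q => ⟨(q.1 : G) * (z * q.2 * z⁻¹),
      E.mul_mem (hFmem.mp q.1.2).1 ((mem_normalizer_iff.mp (hAE hzA) _).mp (hFmem.mp q.2.2).1)⟩
    refine Nat.card_le_card_of_injective m fun q q' e => ?_
    have e1 : (q.1 : G) * (z * q.2 * z⁻¹) = (q'.1 : G) * (z * q'.2 * z⁻¹) := congrArg Subtype.val e
    have e2 : (q'.1 : G)⁻¹ * q.1 = z * ((q'.2 : G) * (q.2 : G)⁻¹) * z⁻¹ := by
      calc (q'.1 : G)⁻¹ * q.1
          = (q'.1 : G)⁻¹ * (q.1 * (z * q.2 * z⁻¹)) * (z * (q.2 : G)⁻¹ * z⁻¹) := by group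
        _ = (q'.1 : G)⁻¹ * (q'.1 * (z * q'.2 * z⁻¹)) * (z * (q.2 : G)⁻¹ * z⁻¹) := by rw [e1]
        _ = _ := by group
    set f := (q'.2 : G) * (q.2 : G)⁻¹ with hf
    have hfF : f ∈ F := F.mul_mem q'.2.2 (F.inv_mem q.2.2)
    by_cases hf1 : f = 1
    · rw [hf1, mul_one, mul_inv_cancel, inv_mul_eq_one] at e2
      exact Prod.ext (Subtype.ext e2.symm) (Subtype.ext (mul_inv_eq_one.mp hf1).symm)
    exfalso
    have h1 := hσz f hfF
    rw [← e2, (hFmem.mp (F.mul_mem (F.inv_mem q'.1.2) q.1.2)).2, e2] at h1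
    refine hxg ?_
    rw [← hze, hσz e₀ he₀, heq hfF.1 hf1 h1]
  rw [h8] at hle hge
  rcases le_or_gt (Nat.card F) 2 with h1 | h1
  · have := Nat.mul_le_mul h1 h1; omega
  · have := Nat.mul_le_mul (show 3 ≤ Nat.card F from h1) (show 3 ≤ Nat.card F from h1); omega

variable {Ω : Type v} [MulAction G Ω] [Finite Ω] {D : Set G} {u : G} {x y : Ω}
  {E Q R K N A : Subgroup G}

/-- **A two-element at `x` centralising `u` has order at most four.** -/
theorem pow_four_eq_one (h : Crit G Ω D) (hP : RankOnePairs (G := G) Ω) (hl : Line2 D u x E Q)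
    (hT : HasTranslation u x E) (hy : u • y = y) (hyx : y ≠ x) (d : ClassData u x E R K N A)
    (hE8 : Nat.card E = 8)
    (htorus : ∀ g ∈ normAt x E, Commute g u → ∀ a ∈ A, ∃ b ∈ A,
      b⁻¹ * (g * a * g⁻¹) ∈ centAt x E)
    {w : G} (hw : ∃ n : ℕ, orderOf w = 2 ^ n) (hwx : w • x = x) (hwu : Commute w u) :
    w ^ 4 = 1 := by
  classical
  haveI : Fact (Nat.Prime 2) := ⟨Nat.prime_two⟩
  have hS := H29.Asch.special_of_line2 h hl
  have hu2 : orderOf u = 2 := hl.bad.1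
  have huu := mul_self_of_orderOf_eq_two hu2
  set B : Subgroup G := stabilizer G x ⊓ centralizer ({u} : Set G) with hB
  have hmemB : ∀ {g : G}, g • x = x → Commute g u → g ∈ B := fun hgx hgu =>
    mem_inf.mpr ⟨mem_stabilizer_iff.mpr hgx, mem_centralizer_singleton_iff.mpr hgu.eq⟩
  have hbase := H29.Asch.maxTwo_base h hP hl hT hy hyx
  obtain ⟨P, hQP, hmax⟩ := exists_maxTwo_ge hbase.1 (K := B) (sup_le
    (fun g hg => hmemB (line2_smul hl hg) (line2_commute hl hg))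
    (zpowers_le.mpr (hmemB hl.fix (Commute.refl u))))
  have hPB : ∀ {g}, g ∈ P → g • x = x ∧ Commute g u := fun hg =>
    ⟨mem_stabilizer_iff.mp (mem_inf.mp (hmax.2.1 hg)).1,
      mem_centralizer_singleton_iff.mp (mem_inf.mp (hmax.2.1 hg)).2⟩
  -- `P` normalises `Q` and `E`
  have hPL : P ⊓ lineGroup D u = Q := by
    refine (eq_of_le_of_card_ge (le_inf (le_sup_left.trans hQP)
      fun g hg => (mem_inf.mp (hl.Q_le hg)).1) ?_).symm
    obtain ⟨g, -, hle⟩ := hl.sylow (P ⊓ lineGroup D u) (hmax.1.to_le inf_le_left) fun t ht =>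
      mem_inf.mpr ⟨(mem_inf.mp ht).2, mem_stabilizer_iff.mpr (hPB (mem_inf.mp ht).1).1⟩
    exact (card_le_of_le hle).trans
      (Nat.card_congr (Subgroup.equivSMul (MulAut.conj g) Q).toEquiv).symm.le
  have hconjQ : ∀ {t g : G}, t ∈ P → g ∈ Q → t * g * t⁻¹ ∈ Q := fun {t g} ht hg => by
    rw [← hPL] at hg ⊢
    obtain ⟨hgx, hgL⟩ := mem_inf.mp hg
    refine mem_inf.mpr ⟨mul_mem (mul_mem ht hgx) (inv_mem ht), ?_⟩
    exact (mem_inf.mp (H29.Asch.conj_lineGroup_stab h (hPB ht).2 (hPB ht).1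
      (mem_inf.mpr ⟨hgL, mem_stabilizer_iff.mpr (hPB hgx).1⟩))).1
  have hPE : ∀ t ∈ P, t ∈ normalizer (E : Set G) := fun t ht =>
    H39.mem_normalizer_of_conj_mem fun e he => hS.omega _ (hconjQ ht (hl.E_le he)) (by
      rw [show t * e * t⁻¹ * (t * e * t⁻¹) = t * (e * e) * t⁻¹ by group, hS.two e he]; group)
  -- `P` centralises `E`
  have hstep : ∀ t ∈ P, (∀ e ∈ E, t * t * e * (t * t)⁻¹ = e) → ∀ e ∈ E, t * e * t⁻¹ = e := by
    intro t ht htt
    refine fixes_of_norm_torus (A := A) (fun e he => hS.two e he) hE8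
      (fun a ha => (mem_inf.mp (mem_inf.mp (d.A_le ha)).1).2) d.A_comm d.trans (hPE t ht)
      (fun e he => ?_) fun z hz => ?_
    · rw [show t * (t * e * t⁻¹) * t⁻¹ = t * t * e * (t * t)⁻¹ by group, htt e he]
    · obtain ⟨b, hb, hbz⟩ := htorus t
        (mem_inf.mpr ⟨mem_stabilizer_iff.mpr (hPB ht).1, hPE t ht⟩) (hPB ht).2 z hz
      refine ⟨b, hb, fun e he => ?_⟩
      have h1 := (mem_centAt'.mp hbz).2 e he
      calc t * z * t⁻¹ * e * (t * z * t⁻¹)⁻¹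
          = b * (b⁻¹ * (t * z * t⁻¹) * e * (b⁻¹ * (t * z * t⁻¹))⁻¹) * b⁻¹ := by group
        _ = b * e * b⁻¹ := by rw [h1]
  have hcent : ∀ (n : ℕ) (t : G), t ∈ P → t ^ (2 ^ n) = 1 → ∀ e ∈ E, t * e * t⁻¹ = e := by
    intro n
    induction n with
    | zero =>
      intro t _ ht1 e _
      rw [pow_zero, pow_one] at ht1
      rw [ht1]; group
    | succ n ih =>
      intro t ht ht1
      refine hstep t ht (ih (t * t) (mul_mem ht ht) ?_)
      rw [← pow_two, ← pow_mul, ← pow_succ']; exact ht1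
  have hPeq : P = Q ⊔ zpowers u := hbase.2.2 P hmax.1 (fun t ht => by
    obtain ⟨k, hk⟩ := hmax.1 ⟨t, ht⟩
    have hk' : t ^ (2 ^ k) = 1 := congrArg Subtype.val hk
    refine mem_inf.mpr ⟨mem_coreStab.mpr ⟨(hPB ht).1, fun e he => ?_⟩,
      mem_centralizer_singleton_iff.mpr (hPB ht).2.eq⟩
    exact ((mul_inv_eq_iff_eq_mul.mp (hcent k t ht hk' e he) : t * e = e * t)).symm) hQP
  -- the conjugate of `w` in `P`
  obtain ⟨n, hn⟩ := hw
  obtain ⟨c, -, hc⟩ := exists_conj_le_of_maximal hmax.1 hmax.2.1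
    (fun P' h1 h2 h3 => (hmax.2.2 P' h1 h2 h3).le) (R := zpowers w)
    (IsPGroup.of_card (n := n) (by rw [Nat.card_zpowers, hn]))
    (zpowers_le.mpr (hmemB hwx hwu))
  have hg : c * w * c⁻¹ ∈ P := hc w (mem_zpowers w)
  rw [hPeq] at hg
  set g := c * w * c⁻¹ with hgdef
  have hg4 : g ^ 4 = 1 := by
    have key : ∀ k ∈ Q, k ^ 4 = 1 := fun k hk => by
      rw [show (4 : ℕ) = 2 * 2 from rfl, pow_mul, pow_two, pow_two]
      exact hS.two _ (hl.sq_mem k hk)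
    rcases (Cfsg.Agent.H51.Asch.mem_sup_zpowers_involution huu
      fun _ hk => line2_commute hl hk).mp hg with h1 | h1
    · exact key g h1
    · have h2 := key _ h1
      have hgu : Commute g u := (hPB (hPeq ▸ hg)).2
      rwa [hgu.mul_pow, show u ^ 4 = 1 from
        orderOf_dvd_iff_pow_eq_one.mp (hu2.symm ▸ (by norm_num : 2 ∣ 4)), mul_one] at h2
  rw [hgdef, conj_pow] at hg4
  exact conj_eq_one_iff.mp hg4

end Cfsg.Agent.H72.Asch
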