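import Cfsg.Agent.H72.Asch.ClassFix
import Cfsg.Agent.H26.Asch.TorusNormal
import Cfsg.Agent.H29.Asch.ShapeChain
import Cfsg.Agent.H14.Asch.ShapesBase

/-!
CLASS for the lines of shapes two and three at the top of the climb: `FixData` from `ShapeData`, and
the residue or fusion for the shape with a twist.
-/

set_option autoImplicit false
set_option linter.style.haveILetI false
set_option linter.unusedSectionVars false

namespace Cfsg.Agent.H72.Asch

open Subgroup MulAction
open Cfsg.Agent.H14.Asch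
open Cfsg.Agent.H73.Asch (RankTwoBad Line2 RankOnePairs)
open Cfsg.Agent.H6.Asch (normAt centAt)
open Cfsg.Agent.H26.Asch (classGroup ClassResidue)
open Cfsg.Agent.H51.Asch (MaxTwo coreStab HasTranslation TorusData nxt norm_nxt sq_mem_nxt
  comm_mem_nxt card_le_centralized_mul)
open scoped commutatorElement

universe u v

variable {G : Type u} [Group G] [Finite G]

/-- A subgroup which contains `C_M(u)` with index two over `Q` has at most `2 |Q|` elements. -/
theorem card_centralizer_le {M Q E A : Subgroup G} {u : G} (hd : ShapeData M Q E A u) :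
    Nat.card (M ⊓ centralizer {u} : Subgroup G) ≤ 2 * Nat.card Q := by
  classical
  let f : (M ⊓ centralizer {u} : Subgroup G) → Bool × Q := fun g =>
    if hq : (g : G) ∈ Q then (true, ⟨g, hq⟩) else
      (false, ⟨g * u, (hd.cent g g.2.1 (mem_centralizer_singleton_iff.mp g.2.2)).resolve_left hq⟩)
  have hf : Function.Injective f := by
    intro g g' e
    apply Subtype.ext
    simp only [f] at e
    split_ifs at e with h1 h2 h2
    · exact congrArg (fun z : Bool × Q => (z.2 : G)) e
    · exact absurd (congrArg Prod.fst e) (by simp)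
    · exact absurd (congrArg Prod.fst e) (by simp)
    · exact mul_right_cancel (congrArg (fun z : Bool × Q => (z.2 : G)) e)
  have h1 := Nat.card_le_card_of_injective f hf
  rwa [Nat.card_prod, Nat.card_eq_fintype_card (α := Bool), Fintype.card_bool] at h1

/-- Small enough Frattini part: its coset of `u` is one class. -/
theorem fill_of_card {M Q E A : Subgroup G} {u : G} (hd : ShapeData M Q E A u)
    (hcard : 2 * Nat.card Q * Nat.card (nxt M M : Subgroup G) ≤ Nat.card M) :
    ∀ n ∈ nxt M M, ∃ c ∈ M, c * u * c⁻¹ = n * u := by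
  intro n hn
  obtain ⟨g, hg, hgn⟩ := (card_le_centralized_mul (K := M) (T := nxt M M) u fun y hy =>
    comm_mem_nxt hy hd.u_mem).2
      ((Nat.mul_le_mul_right _ (card_centralizer_le hd)).trans hcard) n hn
  exact ⟨g, hg, by rw [← hgn, commutatorElement_def]; group⟩

variable {Ω : Type v} [MulAction G Ω] [Finite Ω] {D : Set G} {u : G} {x y : Ω}
  {E Q A₀ R A : Subgroup G}

/-- `FixData` at the top of the climb. -/
theorem fixData_of_shape (h : Crit G Ω D) (hl : Line2 D u x E Q) (hy : u • y = y) (hyx : y ≠ x)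
    (hA₀ : A₀ ≤ lineGroup D u ⊓ pairStab G x y) (hA₀E : A₀ ≤ normalizer (E : Set G))
    (hA₀K : A₀ ≤ normalizer (coreStab x E : Set G)) (hR : MaxTwo (coreStab x E) R)
    (hA : A ≤ A₀ ⊔ coreStab x E) (hd : ShapeData R Q E A u) (hu : u ∉ ⁅R, A⁆)
    (hno : ∀ g : G, g * u * g⁻¹ ∉ ⁅R, A⁆)
    (hfill : ∀ n ∈ nxt R R, ∃ c ∈ R, c * u * c⁻¹ = n * u) :
    FixData u x E R ⁅R, A⁆ A := by
  have hAn : A ≤ normAt x E := le_inf (hA.trans (sup_le
    (fun _ ha => mem_stabilizer_iff.mpr (mem_pairStab.mp (mem_inf.mp (hA₀ ha)).2).1) inf_le_left))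
    hd.normE
  have hcomm : ∀ a ∈ A, ∀ b ∈ A, Commute a b := fun a ha b hb =>
    congrArg Subtype.val (hd.comm ⟨a, ha⟩ ⟨b, hb⟩)
  exact
    { R_two := hR.1
      R_le := hR.2.1
      R_max := fun P h1 h2 h3 => (hR.2.2 P h1 h2 h3).le
      u_mem := hd.u_mem
      sq_u := hd.sq_u
      E_two := hd.sq
      four_le := hd.four_le
      K_le := hd.commutator_le
      K_cases := fun _ hg => hd.mem_or_mul_mem hg
      u_notMem := hu
      nxt_le := hd.nxt_le_commutator
      A_le := le_inf hAn hd.normM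
      A_odd := hd.odd
      A_commute := fun a ha => mul_inv_eq_iff_eq_mul.mp (hd.fix a ha)
      A_comm := hcomm
      trans := fun a ha b hb ha1 hb1 => hd.trans a ha ha1 b hb hb1
      K_invariant := fun _ ha k hk =>
        (mem_normalizer_iff.mp (normalizer_commutator_ge_right R A ha) k).mp hk
      A_fix := fun c hc hca => by
        rcases hd.eq_one_or_eq_of_centralized hc
          (fun a ha => by rw [(hca a ha).eq, mul_inv_cancel_right]) with e | e
        · rw [e]; exact one_mem _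
        · rw [e]; exact mem_zpowers u
      conj_mul_mem := fun g hg => by
        refine (hd.mem_or_mul_mem ?_).resolve_left (hno g)
        exact (mem_normalizer_iff.mp (mem_inf.mp hg).2 u).mp hd.u_mem
      fill := hfill
      torus_norm := fun g hg hgu a ha => by
        refine H26.Asch.exists_torus_conj h hl hy hyx hAn
          (fun a ha => H29.Asch.exists_core_image h hl hy hyx hA₀ hA₀E hA₀K (hA ha))
          (fun a ha b hb e _ => ?_)
          (fun a ha b hb ha1 hb1 => hd.trans a ha ha1 b hb hb1) (mem_inf.mp hg).1 hgu ha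
        rw [commutatorElement_eq_one_iff_commute.mpr (hcomm a ha b hb), one_mul, mul_one] }

/-- With a translation a Sylow two-subgroup of `C(E)` at `x` does not centralise `u`. -/
theorem not_centralizes (hR : MaxTwo (coreStab x E) R) (hd : ShapeData R Q E A u)
    (hT : HasTranslation u x E) : ∃ g ∈ R, ¬ Commute g u := by
  by_contra hc
  push Not at hc
  obtain ⟨k, hk, e, he, he1, hkw⟩ := hT
  set w := u * e with hw
  have hcw : ∀ r ∈ R, Commute r w := fun r hr =>
    (hc r hr).mul_right (hd.central e he r hr).symm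
  set X := coreStab x E ⊓ centralizer ({w} : Set G) with hX
  have hRX : R ≤ X := le_inf hR.2.1 fun r hr => mem_centralizer_singleton_iff.mpr (hcw r hr).eq
  obtain ⟨d, hdX, hdR⟩ := exists_conj_le_of_maximal hR.1 hRX
    (fun P h1 h2 h3 => (hR.2.2 P h1 (h2.trans inf_le_left) h3).le)
    (R := R.map (MulAut.conj k).toMonoidHom) (hR.1.map _) (by
      rintro _ ⟨r, hr, rfl⟩
      refine mem_inf.mpr ⟨(coreStab x E).mul_mem ((coreStab x E).mul_mem hk (hR.2.1 hr))
        ((coreStab x E).inv_mem hk), mem_centralizer_singleton_iff.mpr ?_⟩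
      show k * r * k⁻¹ * w = w * (k * r * k⁻¹)
      rw [← hkw]
      exact ((commute_conj (hc r hr) k)).eq)
  set n := d * k with hn
  have hnX : n ∈ coreStab x E := (coreStab x E).mul_mem (mem_inf.mp hdX).1 hk
  have hnu : n * u * n⁻¹ = w := by
    have h1 : d * w * d⁻¹ = w :=
      mul_inv_eq_iff_eq_mul.mpr (mem_centralizer_singleton_iff.mp (mem_inf.mp hdX).2)
    calc n * u * n⁻¹ = d * (k * u * k⁻¹) * d⁻¹ := by rw [hn]; group
      _ = w := by rw [hkw]; exact h1
  have hnR : n ∈ normalizer (R : Set G) := H39.mem_normalizer_of_conj_mem fun r hr => by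
    have h1 := hdR (k * r * k⁻¹) ⟨r, hr, rfl⟩
    rwa [show n * r * n⁻¹ = d * (k * r * k⁻¹) * d⁻¹ by rw [hn]; group]
  have hne : n * e * n⁻¹ = e := by
    rw [← mem_centralizer_iff.mp (mem_inf.mp hnX).2 e he, mul_inv_cancel_right]
  have hpow : ∀ j : ℕ, n ^ j * u * (n ^ j)⁻¹ = u * e ^ j := by
    intro j
    induction j with
    | zero => simp
    | succ j ih =>
      calc n ^ (j + 1) * u * (n ^ (j + 1))⁻¹ = n * (n ^ j * u * (n ^ j)⁻¹) * n⁻¹ := by
            rw [pow_succ']; group
        _ = n * u * n⁻¹ * (n * e * n⁻¹) ^ j := by rw [ih, conj_pow]; group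
        _ = u * e ^ (j + 1) := by rw [hnu, hne, hw, mul_assoc, ← pow_succ']
  -- the two-part of `n` lies in `R`
  set m := orderOf n / 2 ^ (orderOf n).factorization 2 with hm
  have hmodd : Odd m := Nat.odd_iff.mpr (Nat.two_dvd_ne_zero.mp
    (Nat.not_dvd_ordCompl Nat.prime_two (orderOf_pos n).ne'))
  have ht2 : IsPGroup 2 (zpowers (n ^ m)) := by
    refine IsPGroup.of_card (n := (orderOf n).factorization 2) ?_
    rw [Nat.card_zpowers, hm, orderOf_pow, Nat.gcd_eq_right (Nat.ordCompl_dvd _ _)]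
    exact Nat.div_div_self (Nat.ordProj_dvd _ _) (orderOf_pos n).ne'
  have htR : n ^ m ∈ R := by
    rw [hR.2.2 (R ⊔ zpowers (n ^ m))
      (hR.1.to_sup_of_normal_left' ht2 (zpowers_le.mpr (pow_mem hnR m)))
      (sup_le hR.2.1 (zpowers_le.mpr (pow_mem hnX m))) le_sup_left |>.symm]
    exact mem_sup_right (mem_zpowers _)
  have h1 := hpow m
  rw [(hc _ htR).eq, mul_inv_cancel_right] at h1
  obtain ⟨j, hj⟩ := hmodd
  rw [hj, pow_succ, pow_mul, pow_two, hd.sq e he, one_pow, one_mul, left_eq_mul] at h1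
  exact he1 h1

/-- The data of the twist: the Frattini part of `R` is that of `C_R(a)` and contains `E`. -/
theorem nxt_twist (hR : MaxTwo (coreStab x E) R) (hd : ShapeData R Q E A u)
    (hT : HasTranslation u x E) {a : G} (ha : a ∈ A) (haE : ∀ e ∈ E, Commute a e)
    (haQ : ∀ g ∈ Q, Commute a g → g ∈ E)
    (hprod : ∀ g ∈ R, ∃ q ∈ Q, ∃ k ∈ R ⊓ centralizer ({a} : Set G), g = q * k) :
    E ≤ nxt (R ⊓ centralizer ({a} : Set G)) (R ⊓ centralizer ({a} : Set G)) ∧
      nxt R R = nxt (R ⊓ centralizer ({a} : Set G)) (R ⊓ centralizer ({a} : Set G)) := by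
  set Rk := R ⊓ centralizer ({a} : Set G) with hRk
  have htd := hd.torusData_twist ha haE haQ
  have hcen := hd.twist_centralizes ha haE haQ
  have hnk : nxt Rk Rk ≤ Rk := Cfsg.Agent.H51.Asch.nxt_le le_normalizer
  have hEk : E ≤ nxt Rk Rk := by
    by_contra hne
    obtain ⟨e, he, heN⟩ := SetLike.not_le_iff_exists.mp hne
    -- no non-trivial element of `E` lies in the Frattini part
    have hbot : ∀ n ∈ nxt Rk Rk, n ∈ E → n = 1 := by
      intro n hn hnE
      by_contra hn1
      obtain ⟨b, hb, hbn⟩ := hd.trans n hnE hn1 e he (fun e1 => heN (e1 ▸ one_mem _))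
      exact heN (hbn ▸ (mem_normalizer_iff.mp (norm_nxt htd.normM htd.normM hb) n).mp hn)
    have hN1 : ∀ n ∈ nxt Rk Rk, n = 1 := by
      intro n hn
      obtain ⟨j, hj⟩ := htd.two ⟨n, hnk hn⟩
      have hj' : n ^ (2 ^ j) = 1 := congrArg Subtype.val hj
      clear hj
      induction j generalizing n with
      | zero => simpa using hj'
      | succ j ih =>
        have h1 : n * n = 1 := by
          have h2 := ih (n * n) (mul_mem hn hn)
            (by rw [← pow_two, ← pow_mul, ← pow_succ']; exact hj')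
          exact h2
        exact hbot n hn (htd.mem_of_sq_eq_one hn h1)
    obtain ⟨g, hg, hgu⟩ := not_centralizes hR hd hT
    obtain ⟨q, hq, k, hk, rfl⟩ := hprod g hg
    refine hgu ((hd.commute q hq).mul_left ?_)
    refine commutatorElement_eq_one_iff_commute.mp (hN1 _ (comm_mem_nxt hk ?_))
    exact htd.u_mem
  refine ⟨hEk, le_antisymm (hd.nxt_le_of_sq fun g hg => ?_) ?_⟩
  · obtain ⟨q, hq, k, hk, rfl⟩ := hprod g hg
    rw [(hcen k hk q hq).mul_mul_mul_comm]
    exact mul_mem (hEk (hd.sq_mem q hq)) (sq_mem_nxt hk)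
  · refine sup_le (Subgroup.commutator_le.mpr fun p hp r hr => comm_mem_nxt hp.1 hr.1)
      ((closure_le _).mpr ?_)
    rintro _ ⟨p, hp, rfl⟩
    exact sq_mem_nxt hp.1

/-- **CLASS for the shape with a twist**, or the residue. -/
theorem fused_or_residue_twisted (h : Crit G Ω D) (hl : Line2 D u x E Q) (hy : u • y = y)
    (hyx : y ≠ x) (hT : HasTranslation u x E) (hA₀ : A₀ ≤ lineGroup D u ⊓ pairStab G x y)
    (hA₀E : A₀ ≤ normalizer (E : Set G)) (hA₀K : A₀ ≤ normalizer (coreStab x E : Set G))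
    (hR : MaxTwo (coreStab x E) R) (hA : A ≤ A₀ ⊔ coreStab x E) (hd : ShapeData R Q E A u)
    (hu : u ∉ ⁅R, A⁆) (hno : ∀ g : G, g * u * g⁻¹ ∉ ⁅R, A⁆) {a : G} (ha : a ∈ A)
    (haE : ∀ e ∈ E, Commute a e) (haQ : ∀ g ∈ Q, Commute a g → g ∈ E)
    (hprod : ∀ g ∈ R, ∃ q ∈ Q, ∃ k ∈ R ⊓ centralizer ({a} : Set G), g = q * k) :
    (∀ g ∈ normAt x E, ∃ c ∈ centAt x E, g * u * g⁻¹ = c * u * c⁻¹) ∨
      ∃ N : Subgroup G, ClassResidue u x E R ⁅R, A⁆ N A := by
  set Rk := R ⊓ centralizer ({a} : Set G) with hRk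
  have htd := hd.torusData_twist ha haE haQ
  obtain ⟨hEk, hΦ⟩ := nxt_twist hR hd hT ha haE haQ hprod
  -- the order of `R`
  have hcardR : Nat.card Q * Nat.card Rk ≤ Nat.card R * Nat.card E := by
    let f : Q × Rk → R × E := fun p =>
      (⟨(p.1 : G) * (p.2 : G), R.mul_mem (hd.le p.1.2) p.2.2.1⟩,
        ⟨(Quotient.out (QuotientGroup.mk p.1 : Q ⧸ E.subgroupOf Q) : Q)⁻¹ * (p.1 : G),
          mem_subgroupOf.mp (QuotientGroup.eq.mp (Quotient.out_eq _))⟩)
    have hf : Function.Injective f := by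
      rintro ⟨q, k⟩ ⟨q', k'⟩ e
      simp only [f, Prod.mk.injEq, Subtype.mk.injEq] at e
      obtain ⟨e1, e2⟩ := e
      have h1 : (q'⁻¹ * q : Q) ∈ E.subgroupOf Q := by
        rw [mem_subgroupOf]
        have h2 : ((q' : G))⁻¹ * q = k' * (k : G)⁻¹ := by
          rw [eq_mul_inv_iff_mul_eq, mul_assoc, e1, inv_mul_cancel_left]
        have h3 : Commute a ((q' : G)⁻¹ * q) := by
          rw [h2]
          exact (mem_centralizer_singleton_iff.mp
            (mem_inf.mp (Rk.mul_mem k'.2 (Rk.inv_mem k.2))).2).symm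
        exact haQ _ (Q.mul_mem (Q.inv_mem q'.2) q.2) h3
      have hcls : (QuotientGroup.mk q' : Q ⧸ E.subgroupOf Q) = QuotientGroup.mk q :=
        QuotientGroup.eq.mpr h1
      rw [hcls] at e2
      have h5 : (q : G) = q' := mul_left_cancel e2
      rw [h5] at e1
      exact Prod.ext (Subtype.ext h5) (Subtype.ext (mul_left_cancel e1))
    have h1 := Nat.card_le_card_of_injective f hf
    rwa [Nat.card_prod, Nat.card_prod] at h1
  have hcard : 2 * Nat.card Q * Nat.card (nxt R R : Subgroup G) ≤ Nat.card R := by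
    rw [htd.card_eq_two_mul, htd.frattini_data.1] at hcardR
    rw [hΦ]
    refine Nat.le_of_mul_le_mul_right ?_ (show 0 < Nat.card E from Nat.card_pos)
    calc 2 * Nat.card Q * Nat.card (nxt Rk Rk : Subgroup G) * Nat.card E
        = Nat.card Q * (2 * (Nat.card E * Nat.card (nxt Rk Rk : Subgroup G))) := by ring
      _ ≤ _ := hcardR
  have hdata := fixData_of_shape h hl hy hyx hA₀ hA₀E hA₀K hR hA hd hu hno (fill_of_card hd hcard)
  refine hdata.fused_or_residue fun W hΦW hWK hAW hWtriv hWne => ?_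
  have hWR : W ≤ R := hWK.trans hd.commutator_le
  have haY : a ∈ classGroup x E R ⊓ centAt x E := by
    refine mem_inf.mpr ⟨hdata.A_le ha, mem_inf.mpr
      ⟨(mem_inf.mp (mem_inf.mp (hdata.A_le ha)).1).1, mem_centralizer_iff.mpr fun e he => ?_⟩⟩
    exact (haE e he).eq.symm
  -- `W` lies in `C_R(a)`
  have hWk : W ≤ Rk := by
    intro w hw
    have hz : zpowers a ≤ normalizer (R : Set G) := zpowers_le.mpr (hd.normM ha)
    have h1 : a * w * a⁻¹ * w⁻¹ ∈ nxt R R := by
      rw [← commutatorElement_def]; exact hWtriv a haY w hw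
    let S : Subgroup G :=
      { carrier := {b | b ∈ A ∧ b * w * b⁻¹ * w⁻¹ ∈ nxt R R}
        one_mem' := ⟨one_mem A, by simp⟩
        mul_mem' := by
          rintro b c ⟨hb, hb'⟩ ⟨hc, hc'⟩
          refine ⟨mul_mem hb hc, ?_⟩
          have h2 := (mem_normalizer_iff.mp (norm_nxt hd.normM hd.normM hb) _).mp hc'
          have h3 := (nxt R R).mul_mem h2 hb'
          convert h3 using 1
          group
        inv_mem' := by
          rintro b ⟨hb, hb'⟩
          refine ⟨inv_mem hb, ?_⟩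
          have h2 := (mem_normalizer_iff.mp (norm_nxt hd.normM hd.normM (inv_mem hb)) _).mp
            ((nxt R R).inv_mem hb')
          convert h2 using 1
          group }
    have hzS : zpowers a ≤ S := zpowers_le.mpr ⟨ha, h1⟩
    obtain ⟨c, hc, hcn⟩ := Coprime.exists_centralizer_mem_of_comm_mem hz (hd.coprime_zpowers ha)
      (Or.inr hd.isSolvable) (N := nxt R R) (Cfsg.Agent.H51.Asch.nxt_le le_normalizer)
      (norm_nxt le_normalizer le_normalizer) (hz.trans (norm_nxt le_rfl le_rfl)) (hWR hw)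
      fun b hb => (hzS hb).2
    rw [hΦ] at hcn
    have hnk : nxt Rk Rk ≤ Rk := Cfsg.Agent.H51.Asch.nxt_le le_normalizer
    have hcRk : c ∈ Rk := ⟨hc.1, mem_centralizer_singleton_iff.mpr
      (mem_centralizer_iff.mp hc.2 a (mem_zpowers a)).symm⟩
    have h4 := Rk.mul_mem hcRk (Rk.inv_mem (hnk hcn))
    rwa [mul_inv_rev, inv_inv, mul_inv_cancel_left] at h4
  have hKle : ⁅Rk, A⁆ ≤ ⁅R, A⁆ := commutator_mono inf_le_left le_rfl
  have hWKk : W ≤ ⁅Rk, A⁆ := by
    intro w hw
    refine (htd.mem_or_mul_mem (hWk hw)).resolve_right fun h2 => hu ?_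
    have h3 := ⁅R, A⁆.mul_mem (⁅R, A⁆.inv_mem (hWK hw)) (hKle h2)
    rwa [inv_mul_cancel_left] at h3
  rw [hΦ] at hΦW hWne ⊢
  obtain ⟨g, hg, hgN⟩ := SetLike.not_le_iff_exists.mp hWne
  have hmul := fun {z : G} (hz : z ∈ W) (hzN : z ∉ nxt Rk Rk) =>
    htd.card_mul_le (S := nxt Rk Rk) (K := W) hΦW hWk (norm_nxt htd.normM htd.normM) hAW
      (Or.inr fun huW => hdata.u_notMem (hWK huW)) hz hzN
  have hle : Nat.card W ≤ Nat.card E * Nat.card (nxt Rk Rk : Subgroup G) :=
    (card_le_of_le hWKk).trans htd.frattini_data.1.le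
  refine ⟨le_antisymm hle (hmul hg hgN).1, fun k hk l hl hkN hlN => ?_⟩
  obtain ⟨b, hb, hbl⟩ := (hmul hk hkN).2 hle l hl hlN
  refine ⟨b, hb, ?_⟩
  set p := b * k * b⁻¹ with hp
  have hpR : p ∈ Rk := (mem_normalizer_iff.mp (htd.normM hb) k).mp (hWk hk)
  have h1 := (mem_normalizer_iff.mp (norm_nxt le_normalizer le_normalizer hpR) _).mp (inv_mem hbl)
  rwa [show p * (p⁻¹ * l)⁻¹ * p⁻¹ = p * l⁻¹ by group] at h1

end Cfsg.Agent.H72.Asch
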