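import Cfsg.Agent.H72.Asch.ShapeTwoCompl

/-!
One layer of shape two.  If `Q` centralises the complement, `N` is the complement or `Q`; otherwise
the involutions of `R / E` have the image of `u` as product, so every element normalising `R` and `E`
fixes `u` modulo `E`.
-/

set_option autoImplicit false
set_option linter.style.haveILetI false
set_option linter.unusedSectionVars false

namespace Cfsg.Agent.H72.Asch

open Subgroup
open Cfsg.Agent.H14.Asch
open Cfsg.Agent.H51.Asch (nxt nxt_le norm_nxt sq_mem_nxt comm_mem_nxt inf_norm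
  card_le_centralized_mul)
open scoped commutatorElement

universe u

variable {G : Type u} [Group G] [Finite G] {R Q E A : Subgroup G} {u : G}
  (h : ShapeData R Q E A u) {C : Subgroup G} (hc : LayerCompl R Q E A u C) (hs : Squaring Q E)
include h hc hs

theorem compl_le : C ≤ R := hc.le.trans h.commutator_le

theorem compl_diff {x y : G} (hx : x ∈ C) (hy : y ∈ C) (e : ⁅x, u⁆ = ⁅y, u⁆) : y⁻¹ * x ∈ E :=
  hc.inf_le _ (inv_mul_mem_Q h (h.u_notMem_commutator (Or.inl hs)) (hc.le hx) (hc.le hy) e)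
    (C.mul_mem (C.inv_mem hy) hx)

theorem compl_mem_E {x : G} (hx : x ∈ C) (hxu : ⁅x, u⁆ = 1) : x ∈ E :=
  hc.inf_le x (h.mem_Q_of_commute (h.u_notMem_commutator (Or.inl hs)) (hc.le hx)
    (commutatorElement_eq_one_iff_commute.mp hxu)) hx

theorem exists_eq_mul {k : G} (hk : k ∈ ⁅R, A⁆) : ∃ q ∈ Q, ∃ x ∈ C, k = q * x := by
  obtain ⟨x, hx, hxe⟩ := hc.onto _ (hc.layer k (h.commutator_le hk) u h.u_mem)
  have h1 := inv_mul_mem_Q h (h.u_notMem_commutator (Or.inl hs)) hk (hc.le hx) hxe.symm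
  set q := x⁻¹ * k with hq
  refine ⟨q, h1, x * ⁅x⁻¹, q⁻¹⁆, C.mul_mem hx (hc.le_E (hc.layer _
    (R.inv_mem (compl_le h hc hs hx)) _ (R.inv_mem (h.le h1)))), ?_⟩
  rw [hq, commutatorElement_def]
  group

theorem card_compl : Nat.card C = Nat.card E * Nat.card E := by
  classical
  choose sc hscC hsce using fun e : E => hc.onto e e.2
  let f : E × E → C := fun p => ⟨sc p.1 * p.2, C.mul_mem (hscC p.1) (hc.le_E p.2.2)⟩
  have hf : Function.Bijective f := by
    constructor
    · intro p p' e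
      have h0 : sc p.1 * (p.2 : G) = sc p'.1 * p'.2 := congrArg Subtype.val e
      have h1 : p.1 = p'.1 := Subtype.ext (by
        rw [← hsce p.1, ← hsce p'.1,
          ← comm_E_mul_left h h.u_mem (compl_le h hc hs (hscC p.1)) p.2.2,
          ← comm_E_mul_left h h.u_mem (compl_le h hc hs (hscC p'.1)) p'.2.2, h0])
      rw [h1] at h0
      exact Prod.ext h1 (Subtype.ext (mul_left_cancel h0))
    · rintro ⟨x, hx⟩
      have he := hc.layer x (compl_le h hc hs hx) u h.u_mem
      refine ⟨(⟨_, he⟩, ⟨_, compl_diff h hc hs hx (hscC ⟨_, he⟩) (hsce ⟨_, he⟩).symm⟩),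
        Subtype.ext ?_⟩
      exact mul_inv_cancel_left _ _
  rw [← Nat.card_eq_of_bijective f hf, Nat.card_prod]

theorem card_layer : Nat.card (⁅R, A⁆ : Subgroup G) = Nat.card Q * Nat.card E := by
  classical
  choose sc hscC hsce using fun e : E => hc.onto e e.2
  let f : Q × E → (⁅R, A⁆ : Subgroup G) := fun p =>
    ⟨sc p.2 * p.1, mul_mem (hc.le (hscC p.2)) (h.Q_le_commutator p.1.2)⟩
  have hf : Function.Bijective f := by
    constructor
    · intro p p' e
      have h0 : sc p.2 * (p.1 : G) = sc p'.2 * p'.1 := congrArg Subtype.val e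
      have hval : ∀ p : Q × E, ⁅sc p.2 * (p.1 : G), u⁆ = p.2 := fun p => by
        have hqu : ⁅(p.1 : G), u⁆ = 1 :=
          commutatorElement_eq_one_iff_commute.mpr (h.commute _ p.1.2)
        rw [h.comm_mul_left (compl_le h hc hs (hscC p.2)) (hqu ▸ E.one_mem), hqu, one_mul, hsce]
      have h1 : p.2 = p'.2 := Subtype.ext (by rw [← hval p, ← hval p', h0])
      rw [h1] at h0
      exact Prod.ext (Subtype.ext (mul_left_cancel h0)) h1
    · rintro ⟨k, hk⟩
      have he := hc.layer k (h.commutator_le hk) u h.u_mem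
      refine ⟨(⟨_, inv_mul_mem_Q h (h.u_notMem_commutator (Or.inl hs)) hk
        (hc.le (hscC ⟨_, he⟩)) (hsce ⟨_, he⟩).symm⟩, ⟨_, he⟩), Subtype.ext ?_⟩
      exact mul_inv_cancel_left _ _
  rw [← Nat.card_eq_of_bijective f hf, Nat.card_prod]

variable (hQE : ¬ Q ≤ E)
include hQE

/-- `Q` centralises the complement: `u` has no conjugate in `⁅R, A⁆` under the normalisers of
`R`. -/
theorem conj_mul_mem_comm (hQC : ∀ q ∈ Q, ∀ x ∈ C, Commute q x) {g : G}
    (hgR : g ∈ normalizer (R : Set G)) (hgE : g ∈ normalizer (E : Set G)) :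
    g * u * g⁻¹ * u ∈ ⁅R, A⁆ := by
  classical
  refine (h.mem_or_mul_mem ((mem_normalizer_iff.mp hgR u).mp h.u_mem)).resolve_left fun hv => ?_
  obtain ⟨q, hq, x, hx, hvqx⟩ := exists_eq_mul h hc hs hv
  have hcv : ∀ y ∈ C, Commute y (g * u * g⁻¹) := fun y hy => by
    rw [hvqx]
    exact (hQC q hq y hy).symm.mul_right (hc.comm y hy x hx)
  have hcases : ∀ y ∈ C, g⁻¹ * y * g ∈ Q ∨ g⁻¹ * y * g * u ∈ Q := fun y hy =>
    mem_cases_of_commute_conj h hgR (compl_le h hc hs hy) (hcv y hy)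
  set B : Subgroup G := Q ⊓ C.map (MulAut.conj g⁻¹).toMonoidHom with hB
  have hmemB : ∀ y ∈ C, g⁻¹ * y * g ∈ Q → g⁻¹ * y * g ∈ B := fun y hy hyQ =>
    mem_inf.mpr ⟨hyQ, ⟨y, hy, by show g⁻¹ * y * g⁻¹⁻¹ = _; rw [inv_inv]⟩⟩
  obtain ⟨y₀, hy₀, hy₀max⟩ : ∃ y₀ ∈ C, ∀ y ∈ C, g⁻¹ * y * g ∉ Q → g⁻¹ * y₀ * g ∉ Q := by
    by_cases hex : ∃ y ∈ C, g⁻¹ * y * g ∉ Q
    · obtain ⟨y, hy, hyQ⟩ := hex
      exact ⟨y, hy, fun _ _ _ => hyQ⟩
    · exact ⟨1, C.one_mem, fun y hy hyQ => absurd ⟨y, hy, hyQ⟩ hex⟩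
  have hin : ∀ y ∈ C, g⁻¹ * y * g ∉ Q → g⁻¹ * (y₀⁻¹ * y) * g ∈ B := by
    intro y hy hyQ
    refine hmemB _ (C.mul_mem (C.inv_mem hy₀) hy) ?_
    have h1 := (hcases y hy).resolve_left hyQ
    have h2 := (hcases y₀ hy₀).resolve_left (hy₀max y hy hyQ)
    have h3 := Q.mul_mem (Q.inv_mem h2) h1
    have hcu : Commute (g⁻¹ * (y₀⁻¹ * y) * g) u := by
      have h4 := commute_conj (hcv _ (C.mul_mem (C.inv_mem hy₀) hy)) g⁻¹
      rw [inv_inv] at h4
      rwa [show g⁻¹ * (g * u * g⁻¹) * g = u by group] at h4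
    rwa [show (g⁻¹ * y₀ * g * u)⁻¹ * (g⁻¹ * y * g * u) = u⁻¹ * (g⁻¹ * (y₀⁻¹ * y) * g * u) by
      group, hcu.eq, inv_mul_cancel_left] at h3
  let f : C → Bool × B := fun y => if hy : g⁻¹ * (y : G) * g ∈ Q then (true, ⟨_, hmemB y y.2 hy⟩)
    else (false, ⟨_, hin y y.2 hy⟩)
  have hf : Function.Injective f := by
    intro y y' e
    apply Subtype.ext
    simp only [f] at e
    split_ifs at e with h1 h2 h2 <;> simp at e <;> simpa using congrArg Subtype.val e
  have hCB := Nat.card_le_card_of_injective f hf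
  rw [Nat.card_prod, Nat.card_eq_fintype_card (α := Bool), Fintype.card_bool,
    card_compl h hc hs, ← h.card_Q hs hQE] at hCB
  have hidx : (B.subgroupOf Q).index ≤ 2 := by
    have h1 := (B.subgroupOf Q).card_mul_index
    rw [Nat.card_congr (subgroupOfEquivOfLe (inf_le_left : B ≤ Q)).toEquiv] at h1
    have h2 : Nat.card B * (B.subgroupOf Q).index ≤ Nat.card B * 2 := by
      rw [h1, mul_comm _ 2]; exact hCB
    exact Nat.le_of_mul_le_mul_left h2 Nat.card_pos
  obtain ⟨b, hb, hbE⟩ : ∃ b ∈ B, b ∉ E := by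
    by_contra hcon
    push Not at hcon
    have h1 : Nat.card B ≤ Nat.card E := card_le_of_le hcon
    rw [h.card_Q hs hQE] at hCB
    have := h.four_le
    nlinarith
  obtain ⟨k, hk, l, hl, hk1, hl1, hkl⟩ := hs.rank b hb.1 hbE
  have hBcomm : ∀ z ∈ B, ⁅b, z⁆ = 1 := by
    intro z hz
    obtain ⟨y, hy, rfl⟩ := (mem_inf.mp hz).2
    obtain ⟨y', hy', hy'b⟩ := (mem_inf.mp hb).2
    rw [← hy'b]
    exact commutatorElement_eq_one_iff_commute.mpr (commute_conj (hc.comm y' hy' y hy) g⁻¹)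
  have hkB : k ∉ B := fun hkB => hk1 (hBcomm k hkB)
  have hlB : l ∉ B := fun hlB => hl1 (hBcomm l hlB)
  have hklB : k⁻¹ * l ∈ B := by
    have hpos : 0 < (B.subgroupOf Q).index := Nat.pos_of_ne_zero index_ne_zero_of_finite
    interval_cases hi : (B.subgroupOf Q).index
    · exact absurd (subgroupOf_eq_top.mp (index_eq_one.mp hi) hk) hkB
    · have := (mul_mem_iff_of_index_two hi (a := (⟨k, hk⟩ : Q)⁻¹) (b := ⟨l, hl⟩)).mpr
        ⟨fun h1 => absurd (by simpa using (inv_mem h1 : ((⟨k, hk⟩ : Q)⁻¹)⁻¹ ∈ B.subgroupOf Q))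
          (fun h2 => hkB (mem_subgroupOf.mp h2)),
         fun h1 => absurd (mem_subgroupOf.mp h1) hlB⟩
      exact mem_subgroupOf.mp this
  refine hkl ?_
  have h1 := h.comm_mul_right (g := b) (h.le hk) (b := k⁻¹ * l)
    (by rw [hBcomm _ hklB]; exact E.one_mem)
  rwa [mul_inv_cancel_left, hBcomm _ hklB, mul_one, eq_comm] at h1

/-- `Q` centralises the complement: the subgroup `N`. -/
theorem exists_class_comm (hQC : ∀ q ∈ Q, ∀ x ∈ C, Commute q x) :
    ∃ N : Subgroup G, N ≤ ⁅R, A⁆ ∧ E ≤ N ∧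
      (∀ g ∈ normalizer (R : Set G), g ∈ normalizer (E : Set G) → ∀ n ∈ N, g * n * g⁻¹ ∈ N) ∧
      Nat.card (⁅R, A⁆ : Subgroup G) = Nat.card E * Nat.card N ∧
      ∀ n ∈ N, n * u * (n * u) = 1 → n ∈ E := by
  classical
  have hCR := compl_le h hc hs
  have hu := h.u_notMem_commutator (Or.inl hs)
  -- the complement is characterised
  have hchar : ∀ z ∈ R, z ∈ C ↔ ∃ e, ∀ r ∈ R, ⁅r, z⁆ = 1 ∨ ⁅r, z⁆ = e := by
    intro z hz
    constructor
    · intro hzC
      refine ⟨⁅u, z⁆, fun r hr => ?_⟩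
      have hk1 : ∀ k ∈ ⁅R, A⁆, ⁅k, z⁆ = 1 := fun k hk => by
        obtain ⟨q, hq, x, hx, rfl⟩ := exists_eq_mul h hc hs hk
        exact commutatorElement_eq_one_iff_commute.mpr
          ((hQC q hq z hzC).mul_left (hc.comm x hx z hzC))
      rcases h.mem_or_mul_mem hr with h1 | h1
      · exact Or.inl (hk1 r h1)
      · refine Or.inr ?_
        conv_lhs => rw [show r = r * u * u by rw [mul_assoc, h.sq_u, mul_one]]
        rw [h.comm_mul_left (R.mul_mem hr h.u_mem) (hc.layer u h.u_mem z hz), hk1 _ h1, mul_one]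
    · rintro ⟨e, he⟩
      obtain ⟨k, hk, hzk⟩ : ∃ k ∈ ⁅R, A⁆, z = k ∨ z = k * u := by
        rcases h.mem_or_mul_mem hz with h1 | h1
        · exact ⟨z, h1, Or.inl rfl⟩
        · exact ⟨_, h1, Or.inr (by rw [mul_assoc, h.sq_u, mul_one])⟩
      obtain ⟨q, hq, x, hx, rfl⟩ := exists_eq_mul h hc hs hk
      have hqz : ∀ p ∈ Q, ⁅p, z⁆ = ⁅p, q⁆ := by
        intro p hp
        have hpx : ⁅p, q * x⁆ = ⁅p, q⁆ := by
          have h1 : ⁅p, x⁆ = 1 := commutatorElement_eq_one_iff_commute.mpr (hQC p hp x hx)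
          rw [h.comm_mul_right (h.le hq) (h1 ▸ E.one_mem), h1, mul_one]
        rcases hzk with rfl | rfl
        · exact hpx
        · have h1 : ⁅p, u⁆ = 1 := commutatorElement_eq_one_iff_commute.mpr (h.commute p hp)
          rw [h.comm_mul_right (R.mul_mem (h.le hq) (hCR hx)) (h1 ▸ E.one_mem), h1, mul_one, hpx]
      have hqE : q ∈ E := by
        by_contra hqE
        obtain ⟨p, hp, l, hl, hp1, hl1, hne⟩ := hs.rank q hq hqE
        have hval : ∀ m ∈ Q, ⁅q, m⁆ ≠ 1 → ⁅q, m⁆ = e⁻¹ := fun m hm hm1 => by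
          have h1 := he m (h.le hm)
          rw [hqz m hm, ← commutatorElement_inv, inv_eq_one, inv_eq_iff_eq_inv] at h1
          exact h1.resolve_left hm1
        exact hne ((hval p hp hp1).trans (hval l hl hl1).symm)
      rcases hzk with rfl | rfl
      · exact C.mul_mem (hc.le_E hqE) hx
      · exfalso
        have hval : ∀ e' : E, (e' : G) = 1 ∨ (e' : G) = e := fun e' => by
          obtain ⟨y, hy, hye⟩ := hc.onto e' e'.2
          have h1 : ⁅y, q * x⁆ = 1 := commutatorElement_eq_one_iff_commute.mpr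
            ((hQC q hq y hy).symm.mul_right (hc.comm y hy x hx))
          have h2 := he y (hCR hy)
          rwa [h.comm_mul_right (R.mul_mem (h.le hq) (hCR hx)) (hc.layer y (hCR hy) u h.u_mem),
            h1, one_mul, hye] at h2
        have hle : Nat.card E ≤ 2 := by
          refine le_trans (Nat.card_le_card_of_injective (fun e' : E => decide ((e' : G) = 1))
            fun a b hab => ?_) (by simp)
          simp only [decide_eq_decide] at hab
          rcases hval a with h1 | h1 <;> rcases hval b with h2 | h2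
          · exact Subtype.ext (h1.trans h2.symm)
          · exact Subtype.ext (h1.trans (hab.mp h1).symm)
          · exact Subtype.ext ((hab.mpr h2).trans h2.symm)
          · exact Subtype.ext (h1.trans h2.symm)
        have := h.four_le
        omega
  have hCinv : ∀ g ∈ normalizer (R : Set G), ∀ z ∈ C, g * z * g⁻¹ ∈ C := by
    intro g hg z hz
    obtain ⟨e, he⟩ := (hchar z (hCR hz)).mp hz
    refine (hchar _ ((mem_normalizer_iff.mp hg z).mp (hCR hz))).mpr ⟨g * e * g⁻¹, fun r hr => ?_⟩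
    have hr' := (mem_normalizer_iff.mp (inv_mem hg) r).mp hr
    rw [inv_inv] at hr'
    have e1 : ⁅r, g * z * g⁻¹⁆ = g * ⁅g⁻¹ * r * g, z⁆ * g⁻¹ := by
      simp only [commutatorElement_def]; group
    rw [e1]
    rcases he _ hr' with h1 | h1 <;> rw [h1]
    · left; group
    · exact Or.inr rfl
  have hcard := card_layer h hc hs
  by_cases hall : ∀ x ∈ C, x * u * (x * u) = 1
  · -- the square of `u x` is trivial: `N = Q`
    refine ⟨Q, h.Q_le_commutator, h.le_E, fun g hgR hgE n hn => ?_, by rw [hcard, mul_comm],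
      fun n hn hn2 => h.omega n hn ?_⟩
    · have hv := conj_mul_mem_comm h hc hs hQE hQC hgR hgE
      obtain ⟨q', hq', x', hx', hvqx⟩ := exists_eq_mul h hc hs hv
      have hvu : g * u * g⁻¹ = q' * x' * u := by rw [← hvqx, mul_assoc _ u u, h.sq_u, mul_one]
      have hq'c : Commute q' (x' * u) := (hQC q' hq' x' hx').mul_right (h.commute q' hq')
      have hq'E : q' ∈ E := by
        refine h.omega q' hq' ?_
        have h1 : g * u * g⁻¹ * (g * u * g⁻¹) = 1 := by
          rw [conj_mul, h.sq_u, mul_one, mul_inv_cancel]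
        rw [hvu, mul_assoc q' x' u, hq'c.symm.mul_mul_mul_comm, hall x' hx', mul_one] at h1
        exact h1
      set k := g * n * g⁻¹ with hk
      have hkR : k ∈ R := (mem_normalizer_iff.mp hgR n).mp (h.le hn)
      have hkC : ∀ y ∈ C, Commute k y := fun y hy => by
        have h1 := commute_conj (hQC n hn _ (hCinv g⁻¹ (inv_mem hgR) y hy)) g
        rwa [show g * (g⁻¹ * y * g⁻¹⁻¹) * g⁻¹ = y by group] at h1
      have hkK : k ∈ ⁅R, A⁆ := by
        refine (h.mem_or_mul_mem hkR).resolve_right fun h1 => ?_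
        obtain ⟨q, hq, x, hx, hkqx⟩ := exists_eq_mul h hc hs h1
        obtain ⟨e, he, he1⟩ := h.exists_ne_one
        obtain ⟨y, hy, hye⟩ := hc.onto e he
        refine he1 (hye ▸ commutatorElement_eq_one_iff_commute.mpr ?_)
        have h2 : Commute (k * u) y := hkqx ▸ (hQC q hq y hy).mul_left (hc.comm x hx y hy)
        have h3 := (hkC y hy).inv_left.mul_left h2
        rw [inv_mul_cancel_left] at h3
        exact h3.symm
      refine h.mem_Q_of_commute hu hkK ?_
      have h1 : Commute k (q' * x' * u) := by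
        rw [← hvu, hk]; exact commute_conj (h.commute n hn) g
      have h2 := ((h.central q' hq'E k hkR).symm.mul_right (hkC x' hx')).inv_right.mul_right h1
      rwa [inv_mul_cancel_left] at h2
    · rwa [(h.commute n hn).symm.mul_mul_mul_comm, h.sq_u, mul_one] at hn2
  · -- otherwise `N` is the complement
    refine ⟨C, hc.le, hc.le_E, fun g hgR _ => hCinv g hgR, by
      rw [hcard, card_compl h hc hs, h.card_Q hs hQE]; ring, fun n hn hn2 => ?_⟩
    by_contra hnE
    refine hall fun x hx => ?_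
    have hE' : ∀ d ∈ E, ∀ w ∈ R, w * w = 1 → d * w * (d * w) = 1 := fun d hd w hw hw2 => by
      rw [(h.central d hd w hw).symm.mul_mul_mul_comm, h.sq d hd, hw2, mul_one]
    by_cases hxE : x ∈ E
    · exact hE' x hxE u h.u_mem h.sq_u
    obtain ⟨a, ha, hax⟩ := h.trans _ (hc.layer n (hCR hn) u h.u_mem)
      (fun e => hnE (compl_mem_E h hc hs hn e)) _ (hc.layer x (hCR hx) u h.u_mem)
      fun e => hxE (compl_mem_E h hc hs hx e)
    rw [h.conj_comm_u ha] at hax
    have hd := compl_diff h hc hs hx ((mem_normalizer_iff.mp (hc.normA ha) n).mp hn) hax.symm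
    set m := a * n * a⁻¹ with hm
    have hmR : m ∈ R := h.conj_mem_M ha (hCR hn)
    have hm2 : m * u * (m * u) = 1 := by
      calc m * u * (m * u) = m * (a * u * a⁻¹) * (m * (a * u * a⁻¹)) := by rw [h.fix a ha]
        _ = a * (n * u * (n * u)) * a⁻¹ := by rw [hm]; group
        _ = 1 := by rw [hn2]; group
    have e : x * u = m⁻¹ * x * (m * u) := by
      rw [← mul_assoc, mul_assoc m⁻¹ x m,
        (hc.comm x hx m ((mem_normalizer_iff.mp (hc.normA ha) n).mp hn)).eq]
      group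
    rw [e]
    exact hE' _ hd _ (R.mul_mem hmR h.u_mem) hm2

/-- The pairing of `Q` with the complement is non-degenerate: every element normalising `R` and `E`
fixes `u` modulo `E`. -/
theorem conj_mul_mem_E (hnd : ∀ q ∈ Q, q ∉ E → ∀ x ∈ C, x ∉ E → ¬ Commute q x) {g : G}
    (hgR : g ∈ normalizer (R : Set G)) (hgE : g ∈ normalizer (E : Set G)) :
    g * u * g⁻¹ * u ∈ E := by
  classical
  haveI : Fact (Nat.Prime 2) := ⟨Nat.prime_two⟩
  have hCR := compl_le h hc hs
  have hu := h.u_notMem_commutator (Or.inl hs)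
  haveI : (E.subgroupOf R).Normal := ⟨fun n hn r => mem_subgroupOf.mpr (by
    push_cast
    rw [h.conj_E r.2 (mem_subgroupOf.mp hn)]
    exact mem_subgroupOf.mp hn)⟩
  let cl : R → R ⧸ E.subgroupOf R := QuotientGroup.mk
  have hcl : ∀ a b : R, cl a = cl b ↔ (a : G)⁻¹ * b ∈ E := fun a b => QuotientGroup.eq
  have hcl1 : ∀ a : R, cl a = 1 ↔ (a : G) ∈ E := fun a => QuotientGroup.eq_one_iff a
  letI : CommGroup (R ⧸ E.subgroupOf R) :=
    { (inferInstance : Group (R ⧸ E.subgroupOf R)) with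
      mul_comm := fun a b => by
        obtain ⟨a, rfl⟩ := QuotientGroup.mk_surjective a
        obtain ⟨b, rfl⟩ := QuotientGroup.mk_surjective b
        refine QuotientGroup.eq.mpr (mem_subgroupOf.mpr ?_)
        have h1 := hc.layer _ (R.inv_mem b.2) _ (R.inv_mem a.2)
        rw [commutatorElement_def] at h1
        push_cast
        convert h1 using 1
        group }
  letI : Fintype (R ⧸ E.subgroupOf R) := Fintype.ofFinite _
  have hsq : ∀ a b : R, cl a = cl b → (a : G) * a = b * b := by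
    intro a b hab
    have hd := (hcl a b).mp hab
    rw [show (b : G) = a * ((a : G)⁻¹ * b) by group,
      (h.central _ hd a a.2).mul_mul_mul_comm, h.sq _ hd, mul_one]
  set S : Finset (R ⧸ E.subgroupOf R) :=
    Finset.univ.filter fun v => v ≠ 1 ∧ ((v.out : R) : G) * (v.out : R) = 1 with hS
  have hmemS : ∀ a : R, cl a ∈ S ↔ (a : G) ∉ E ∧ (a : G) * a = 1 := fun a => by
    rw [hS, Finset.mem_filter, ← hsq _ a (QuotientGroup.out_eq' _), ne_eq, hcl1]
    exact and_iff_right (Finset.mem_univ _)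
  set s : R ⧸ E.subgroupOf R := ∏ v ∈ S, v with hsdef
  obtain ⟨w, hw⟩ := QuotientGroup.mk_surjective s
  -- the product is fixed by the normalisers of `R` and `E`
  have hfix : ∀ k : G, k ∈ normalizer (R : Set G) → k ∈ normalizer (E : Set G) →
      (w : G)⁻¹ * (k * w * k⁻¹) ∈ E := by
    intro k hkR hkE
    let β : R →* R := MonoidHom.mk' (fun r => ⟨k * r * k⁻¹, (mem_normalizer_iff.mp hkR _).mp r.2⟩)
      fun r r' => Subtype.ext (by push_cast; group)
    let βb : R ⧸ E.subgroupOf R →* R ⧸ E.subgroupOf R :=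
      QuotientGroup.map (E.subgroupOf R) (E.subgroupOf R) β fun r hr =>
        mem_subgroupOf.mpr ((mem_normalizer_iff.mp hkE _).mp (mem_subgroupOf.mp hr))
    have hβ : ∀ r : R, βb (cl r) = cl (β r) := fun r => rfl
    have hinj : Function.Injective βb := by
      rw [injective_iff_map_eq_one]
      intro v hv
      obtain ⟨r, rfl⟩ := QuotientGroup.mk_surjective v
      exact (hcl1 r).mpr ((mem_normalizer_iff.mp hkE _).mpr ((hcl1 (β r)).mp hv))
    have himg : S.image βb = S := by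
      refine Finset.eq_of_subset_of_card_le (fun v hv => ?_)
        (by rw [Finset.card_image_of_injective _ hinj])
      obtain ⟨v, hv', rfl⟩ := Finset.mem_image.mp hv
      obtain ⟨r, rfl⟩ := QuotientGroup.mk_surjective v
      obtain ⟨h1, h2⟩ := (hmemS r).mp hv'
      refine (hmemS (β r)).mpr ⟨fun h3 => h1 ((mem_normalizer_iff.mp hkE _).mpr h3), ?_⟩
      show k * (r : G) * k⁻¹ * (k * r * k⁻¹) = 1
      rw [show k * (r : G) * k⁻¹ * (k * r * k⁻¹) = k * ((r : G) * r) * k⁻¹ by group, h2]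
      group
    have h1 : βb s = s := by
      rw [hsdef, map_prod]
      conv_rhs => rw [← himg]
      rw [Finset.prod_image fun a _ b _ hab => hinj hab]
    refine (hcl w (β w)).mp ?_
    rw [← hβ, show cl w = s from hw, h1]
  -- so it is `1` or the class of `u`
  obtain ⟨c, hcM, hcw⟩ := Coprime.exists_centralizer_mem_coset h.normM h.coprime_all
    (Or.inr h.isSolvable) (N := E) h.le_M h.normE w.2
    (fun a ha => hfix a (h.normM ha) (h.normE ha))
  rcases h.eq_one_or_eq_of_centralized hcM.1 (fun a ha => by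
    rw [mem_centralizer_iff.mp hcM.2 a ha, mul_inv_cancel_right]) with hc1 | hc1 <;>
    rw [hc1] at hcw
  swap
  · have h1 := hfix g hgR hgE
    have hwu : (w : G) = u * ((w : G)⁻¹ * u)⁻¹ * 1 := by
      rw [mul_one, mul_inv_rev, inv_inv, h.inv_u, ← mul_assoc, h.sq_u, one_mul]
    set d := (w : G)⁻¹ * u with hd
    have hdw : (w : G) = u * d := by rw [hwu, mul_one, h.inv_E hcw]
    have hgd : g * d * g⁻¹ ∈ E := (mem_normalizer_iff.mp hgE d).mp hcw
    have h2 : g * u * g⁻¹ * u = u * d * ((w : G)⁻¹ * (g * w * g⁻¹)) * (g * d * g⁻¹)⁻¹ * u := by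
      rw [hdw]; group
    rw [h2, show u * d * ((w : G)⁻¹ * (g * w * g⁻¹)) * (g * d * g⁻¹)⁻¹ * u =
      u * (d * ((w : G)⁻¹ * (g * w * g⁻¹)) * (g * d * g⁻¹)⁻¹) * u⁻¹ by rw [h.inv_u]; group]
    have h3 := E.mul_mem (E.mul_mem hcw h1) (E.inv_mem hgd)
    rwa [h.conj_E h.u_mem h3]
  exfalso
  -- parity
  have hs1 : s = 1 := by
    rw [← hw]; exact (hcl1 w).mpr (inv_mem_iff.mp (by rwa [mul_one] at hcw))
  let χ : R →* ℤˣ := MonoidHom.mk' (fun r => if (r : G) ∈ ⁅R, A⁆ then 1 else -1) fun r r' => by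
    have hnot : ∀ {z : G}, z ∈ R → z ∉ ⁅R, A⁆ → z * u ∈ ⁅R, A⁆ := fun hz hz' =>
      (h.mem_or_mul_mem hz).resolve_left hz'
    by_cases h1 : (r : G) ∈ ⁅R, A⁆ <;> by_cases h2 : (r' : G) ∈ ⁅R, A⁆
    · simp [h1, h2, mul_mem h1 h2]
    · simp only [h1, h2, Subgroup.coe_mul, ↓reduceIte]
      rw [if_neg fun h3 => h2 (by simpa using mul_mem (inv_mem h1) h3)]
      rfl
    · simp only [h1, h2, Subgroup.coe_mul, ↓reduceIte]
      rw [if_neg fun h3 => h1 (by simpa using mul_mem h3 (inv_mem h2))]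
      rfl
    · simp only [h1, h2, Subgroup.coe_mul, ↓reduceIte]
      rw [if_pos ?_]
      · rfl
      have h3 := mul_mem (hnot r.2 h1)
        ((mem_normalizer_iff.mp (h.normM_commutator h.u_mem) _).mp (hnot r'.2 h2))
      convert h3 using 1
      rw [h.inv_u, show (r : G) * u * (u * (r' * u) * u) = r * (u * u) * r' * (u * u) by group,
        h.sq_u]
      group
  have hEχ : E.subgroupOf R ≤ χ.ker := fun r hr => by
    show (if (r : G) ∈ ⁅R, A⁆ then (1 : ℤˣ) else -1) = 1
    rw [if_pos (h.E_le_commutator (mem_subgroupOf.mp hr))]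
  let χb : R ⧸ E.subgroupOf R →* ℤˣ := QuotientGroup.lift (E.subgroupOf R) χ hEχ
  set S1 := S.filter fun v => ((v.out : R) : G) ∉ ⁅R, A⁆ with hS1
  have heven : Even S1.card := by
    have h1 : χb s = (-1 : ℤˣ) ^ S1.card := by
      rw [hsdef, map_prod, Finset.prod_congr rfl fun v _ => show χb v =
          if ((v.out : R) : G) ∈ ⁅R, A⁆ then 1 else -1 by
        conv_lhs => rw [← QuotientGroup.out_eq' v]
        rfl, Finset.prod_ite, Finset.prod_const_one, one_mul, Finset.prod_const]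
    rw [hs1, _root_.map_one] at h1
    exact (neg_one_pow_eq_one_iff_even (by decide)).mp h1.symm
  choose sc hscC hsce using fun e : E => hc.onto e e.2
  choose r hrQ hr using fun e : E => h.exists_sq hQE e.2
  have hscR : ∀ f, sc f ∈ R := fun f => hCR (hscC f)
  -- the equations
  have hsmul : ∀ f f' : E, (sc (f * f'))⁻¹ * (sc f * sc f') ∈ E := fun f f' => by
    refine compl_diff h hc hs (C.mul_mem (hscC f) (hscC f')) (hscC _) ?_
    rw [h.comm_mul_left (hscR f) (hc.layer _ (hscR f') _ h.u_mem), hsce, hsce, hsce]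
    exact (h.central f f.2 _ (h.le_M f'.2)).symm.eq
  have hmu2 : ∀ {x : G}, x ∈ C → u * x * (u * x) = ⁅u, x⁆ * (x * x) := fun {x} _ => by
    rw [commutatorElement_def, h.inv_u]; group
  let L : E → E →* E := fun e => MonoidHom.mk' (fun f => ⟨⁅sc f, r e⁆ * (u * sc f * (u * sc f)),
      E.mul_mem (hc.layer _ (hscR f) _ (h.le (hrQ e))) (hc.sq _ (R.mul_mem h.u_mem (hscR f)))⟩)
    fun f f' => by
      refine Subtype.ext ?_
      show ⁅sc (f * f'), r e⁆ * (u * sc (f * f') * (u * sc (f * f'))) =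
        ⁅sc f, r e⁆ * (u * sc f * (u * sc f)) * (⁅sc f', r e⁆ * (u * sc f' * (u * sc f')))
      have hd := hsmul f f'
      set d := (sc (f * f'))⁻¹ * (sc f * sc f') with hddef
      have hsum : sc f * sc f' = sc (f * f') * d := by rw [hddef, mul_inv_cancel_left]
      have hre := h.le (hrQ e)
      have e1 : ⁅sc (f * f'), r e⁆ = ⁅sc f', r e⁆ * ⁅sc f, r e⁆ := by
        rw [← comm_E_mul_left h hre (hscR _) hd, ← hsum,
          h.comm_mul_left (hscR f) (hc.layer _ (hscR f') _ hre)]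
      have e2 : u * sc (f * f') * (u * sc (f * f')) =
          u * (sc f * sc f') * (u * (sc f * sc f')) := by
        rw [hsum, ← mul_assoc u,
          (h.central d hd _ (R.mul_mem h.u_mem (hscR _))).mul_mul_mul_comm, h.sq d hd, mul_one]
      have e3 : u * (sc f * sc f') * (u * (sc f * sc f')) =
          u * sc f * (u * sc f) * (u * sc f' * (u * sc f')) := by
        rw [hmu2 (C.mul_mem (hscC f) (hscC f')), hmu2 (hscC f), hmu2 (hscC f'),
          h.comm_mul_right (hscR f) (hc.layer u h.u_mem _ (hscR f')),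
          (hc.comm _ (hscC f') _ (hscC f)).mul_mul_mul_comm]
        exact (h.central _ (hc.sq _ (hscR f)) _ (h.le_M (hc.layer u h.u_mem _ (hscR f')))).symm.mul_mul_mul_comm _ _
      rw [e1, e2, e3]
      have c1 := hc.layer _ (hscR f) _ hre
      have c2 := hc.layer _ (hscR f') _ hre
      have c3 := hc.sq _ (R.mul_mem h.u_mem (hscR f))
      rw [(h.central _ c2 _ (h.le_M c1)).eq,
        (h.central _ c3 _ (h.le_M c2)).symm.mul_mul_mul_comm]
  have hLval : ∀ e f : E, ((L e f : E) : G) = ⁅sc f, r e⁆ * (u * sc f * (u * sc f)) :=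
    fun _ _ => rfl
  have hsquare : ∀ e f : E, u * (r e * sc f) * (u * (r e * sc f)) = (L e f : G) * e := by
    intro e f
    rw [hLval]
    have hqu : Commute (r e) u := h.commute _ (hrQ e)
    have hcE := hc.layer _ (hscR f) _ (h.le (hrQ e))
    have hswap : sc f * r e = ⁅sc f, r e⁆ * (r e * sc f) := by
      rw [commutatorElement_def]; group
    calc u * (r e * sc f) * (u * (r e * sc f))
        = u * r e * sc f * (u * r e) * sc f := by group
      _ = r e * u * sc f * (r e * u) * sc f := by rw [← hqu.eq]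
      _ = r e * u * (sc f * r e) * u * sc f := by group
      _ = r e * u * (⁅sc f, r e⁆ * (r e * sc f)) * u * sc f := by rw [hswap]
      _ = r e * (u * ⁅sc f, r e⁆) * (r e * sc f) * u * sc f := by group
      _ = r e * (⁅sc f, r e⁆ * u) * (r e * sc f) * u * sc f := by
          rw [(h.central _ hcE u h.u_mem).eq]
      _ = r e * ⁅sc f, r e⁆ * (u * r e) * (sc f * u * sc f) := by group
      _ = ⁅sc f, r e⁆ * r e * (r e * u) * (sc f * u * sc f) := by
          rw [← hqu.eq, ← (h.central _ hcE _ (h.le (hrQ e))).eq]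
      _ = ⁅sc f, r e⁆ * (r e * r e) * (u * sc f * (u * sc f)) := by group
      _ = ⁅sc f, r e⁆ * (u * sc f * (u * sc f)) * e := by
          rw [hr, mul_assoc,
            (h.central e e.2 _ (R.mul_mem (R.mul_mem h.u_mem (hscR f))
              (R.mul_mem h.u_mem (hscR f)))).eq, ← mul_assoc]
  letI : Fintype E := Fintype.ofFinite E
  let n : E → ℕ := fun e => Nat.card {f : E // L e f = e}
  -- the classes outside `⁅R, A⁆`
  have hcount : S1.card = ∑ e, n e := by
    rw [← Nat.card_eq_fintype_card (α := S1) |>.trans (Fintype.card_coe S1), ← Nat.card_sigma]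
    have hnotK : ∀ {k : G}, k ∈ ⁅R, A⁆ → u * k ∉ ⁅R, A⁆ := fun hk h1 => hu (by
      simpa using mul_mem h1 (inv_mem hk))
    have hkm : ∀ e f : E, r e * sc f ∈ ⁅R, A⁆ := fun e f =>
      mul_mem (h.Q_le_commutator (hrQ e)) (hc.le (hscC f))
    let pt : (Σ e, {f : E // L e f = e}) → R := fun p =>
      ⟨u * (r p.1 * sc p.2.1), R.mul_mem h.u_mem (h.commutator_le (hkm _ _))⟩
    have hpt : ∀ p, cl (pt p) ∈ S1 := fun p => by
      rw [hS1, Finset.mem_filter]
      refine ⟨(hmemS _).mpr ⟨fun h1 => hnotK (hkm _ _) (h.E_le_commutator h1), ?_⟩, fun h1 => ?_⟩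
      · show u * (r p.1 * sc p.2.1) * (u * (r p.1 * sc p.2.1)) = 1
        rw [hsquare, p.2.2, h.sq _ p.1.2]
      · refine hnotK (hkm p.1 p.2.1) ?_
        have h2 := (hcl (cl (pt p)).out (pt p)).mp (QuotientGroup.out_eq' _)
        have h3 := mul_mem h1 (h.E_le_commutator h2)
        rwa [mul_inv_cancel_left] at h3
    refine (Nat.card_eq_of_bijective (fun p => (⟨_, hpt p⟩ : S1)) ⟨fun p p' hpp => ?_, ?_⟩).symm
    · have h1 := (hcl _ _).mp (congrArg Subtype.val hpp)
      obtain ⟨e, f, hf⟩ := p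
      obtain ⟨e', f', hf'⟩ := p'
      have h2 : (r e * sc f)⁻¹ * (r e' * sc f') ∈ E := by
        convert h1 using 1
        show _ = (u * (r e * sc f))⁻¹ * (u * (r e' * sc f'))
        group
      have hval : ∀ e f : E, ⁅r e * sc f, u⁆ = f := fun e f => by
        have h3 : ⁅r e, u⁆ = 1 := commutatorElement_eq_one_iff_commute.mpr (h.commute _ (hrQ e))
        rw [h.comm_mul_left (h.le (hrQ e)) (hc.layer _ (hscR f) _ h.u_mem), hsce, h3, mul_one]
      have hff : f = f' := Subtype.ext (by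
        rw [← hval e f, ← hval e' f', show r e' * sc f' = r e * sc f *
          ((r e * sc f)⁻¹ * (r e' * sc f')) by group]
        exact (comm_E_mul_left h h.u_mem (h.commutator_le (hkm e f)) h2).symm)
      subst hff
      have hee : e = e' := by
        have hd := (mem_normalizer_iff.mp ((le_normalizer_iff.mpr fun r hr e he => by
          rw [h.conj_E hr he]; exact he : R ≤ normalizer (E : Set G)) (hscR f)) _).mp h2
        set d := sc f * ((r e * sc f)⁻¹ * (r e' * sc f)) * (sc f)⁻¹ with hddef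
        have h4 : r e' = r e * d := by rw [hddef]; group
        refine Subtype.ext ?_
        rw [← hr e, ← hr e', h4, (h.central d hd _ (h.le (hrQ e))).mul_mul_mul_comm, h.sq d hd,
          mul_one]
      subst hee
      rfl
    · rintro ⟨v, hv⟩
      obtain ⟨hvS, hvK⟩ := Finset.mem_filter.mp hv
      set z : R := v.out with hz
      have hclz : cl z = v := QuotientGroup.out_eq' v
      have hzK : u * (z : G) ∈ ⁅R, A⁆ := by
        have h1 := (mem_normalizer_iff.mp (h.normM_commutator h.u_mem) _).mp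
          ((h.mem_or_mul_mem z.2).resolve_left hvK)
        rwa [show u * ((z : G) * u) * u⁻¹ = u * (z : G) by group] at h1
      obtain ⟨q, hq, x, hx, hzqx⟩ := exists_eq_mul h hc hs hzK
      set e : E := ⟨q * q, h.sq_mem q hq⟩ with he
      set f : E := ⟨⁅x, u⁆, hc.layer x (hCR hx) u h.u_mem⟩ with hf
      have hdx := compl_diff h hc hs hx (hscC f) (hsce f).symm
      have hdq : q * (r e)⁻¹ ∈ E := hs.inj q hq _ (hrQ e) (by rw [hr])
      have hrel : (z : G) = u * (r e * sc f) * ((q * (r e)⁻¹) * ((sc f)⁻¹ * x)) := by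
        have hz' : (z : G) = u * (q * x) := by rw [← hzqx, ← mul_assoc, h.sq_u, one_mul]
        rw [hz', mul_assoc u (r e * sc f)]
        congr 1
        rw [← mul_assoc (r e * sc f), mul_assoc (r e), ← (h.central _ hdq _ (hscR f)).eq,
          ← mul_assoc (r e), ← (h.central _ hdq _ (h.le (hrQ e))).eq]
        group
      have hEmem : q * (r e)⁻¹ * ((sc f)⁻¹ * x) ∈ E := E.mul_mem hdq hdx
      have hkR : u * (r e * sc f) ∈ R := R.mul_mem h.u_mem (h.commutator_le (hkm e f))
      have hzc : cl z = cl ⟨_, hkR⟩ := ((hcl ⟨_, hkR⟩ z).mpr (by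
        show (u * (r e * sc f))⁻¹ * (z : G) ∈ E
        rw [hrel, inv_mul_cancel_left]; exact hEmem)).symm
      have h2 := ((hmemS z).mp (hclz ▸ hvS)).2
      rw [hsq z ⟨_, hkR⟩ hzc] at h2
      refine ⟨⟨e, f, Subtype.ext ?_⟩, Subtype.ext ?_⟩
      · rw [hsquare] at h2
        rw [eq_inv_of_mul_eq_one_left h2, h.inv_E e.2]
      · exact hzc.symm.trans hclz
  have hL1 : ∀ f : E, ((L 1 f : E) : G) = u * sc f * (u * sc f) := fun f => by
    rw [hLval]
    have h1 : r 1 ∈ E := h.omega _ (hrQ 1) (by rw [hr]; rfl)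
    rw [commutatorElement_eq_one_iff_commute.mpr (h.central _ h1 _ (hscR f)).symm, one_mul]
  have hrE : ∀ {e : E}, e ≠ 1 → r e ∉ E := fun {e} he h1 =>
    he (Subtype.ext (by rw [← hr e, h.sq _ h1]; rfl))
  have hscE : ∀ {f : E}, f ≠ 1 → sc f ∉ E := fun {f} hf h1 => hf (Subtype.ext (by
    rw [← hsce f]; exact commutatorElement_eq_one_iff_commute.mpr (h.central _ h1 u h.u_mem)))
  -- transport by the torus
  have htr : ∀ {a : G}, a ∈ A → ∀ {x y : E}, a * (x : G) * a⁻¹ = y →
      (a * r x * a⁻¹)⁻¹ * r y ∈ E ∧ (a * sc x * a⁻¹)⁻¹ * sc y ∈ E := by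
    intro a ha x y hxy
    constructor
    · have hQ' : a * r x * a⁻¹ ∈ Q := (mem_normalizer_iff.mp (h.normQ ha) _).mp (hrQ x)
      have h1 := hs.inj _ (hrQ y) _ hQ' (by rw [hr, ← hxy, ← hr x]; group)
      rw [show (a * r x * a⁻¹)⁻¹ * r y = (a * r x * a⁻¹)⁻¹ * (r y * (a * r x * a⁻¹)⁻¹) *
        (a * r x * a⁻¹)⁻¹⁻¹ by group, h.conj_E (R.inv_mem (h.le hQ')) h1]
      exact h1
    · refine compl_diff h hc hs (hscC y) ((mem_normalizer_iff.mp (hc.normA ha) _).mp (hscC x)) ?_
      rw [← h.conj_comm_u ha, hsce, hsce, hxy]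
  have hLA : ∀ {a : G}, a ∈ A → ∀ {e e' f f' : E}, a * (e : G) * a⁻¹ = e' →
      a * (f : G) * a⁻¹ = f' → ((L e' f' : E) : G) = a * (L e f : G) * a⁻¹ := by
    intro a ha e e' f f' he hf
    obtain ⟨hre, -⟩ := htr ha he
    obtain ⟨-, hsf⟩ := htr ha hf
    have ha1 : a * r e * a⁻¹ ∈ R := h.conj_mem_M ha (h.le (hrQ e))
    have ha2 : a * sc f * a⁻¹ ∈ R := h.conj_mem_M ha (hscR f)
    rw [hLval, hLval, show sc f' = a * sc f * a⁻¹ * ((a * sc f * a⁻¹)⁻¹ * sc f') by group,
      show r e' = a * r e * a⁻¹ * ((a * r e * a⁻¹)⁻¹ * r e') by group]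
    set d := (a * sc f * a⁻¹)⁻¹ * sc f' with hd
    set d' := (a * r e * a⁻¹)⁻¹ * r e' with hd'
    rw [comm_E_mul_left h (R.mul_mem ha1 (h.le_M hre)) ha2 hsf, comm_E_mul h ha2 ha1 hre,
      ← mul_assoc u (a * sc f * a⁻¹) d,
      (h.central d hsf _ (R.mul_mem h.u_mem ha2)).mul_mul_mul_comm, h.sq d hsf, mul_one,
      ← h.conj_comm]
    conv_lhs => rw [← h.fix a ha]
    group
  have hconjE : ∀ {a : G}, a ∈ A → ∀ x : E, a * (x : G) * a⁻¹ ∈ E := fun ha x =>
    (mem_normalizer_iff.mp (h.normE ha) _).mp x.2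
  have htrans : ∀ {e e' : E}, e ≠ 1 → e' ≠ 1 → Function.Injective (L e) →
      Function.Injective (L e') := by
    intro e e' he he' hinj
    obtain ⟨a, ha, hae⟩ := h.trans _ e.2 (fun h1 => he (Subtype.ext h1)) _ e'.2
      fun h1 => he' (Subtype.ext h1)
    rw [injective_iff_map_eq_one]
    intro f' hf'
    obtain ⟨f, hf⟩ : ∃ f : E, a * (f : G) * a⁻¹ = f' :=
      ⟨⟨_, hconjE (inv_mem ha) f'⟩, by push_cast; group⟩
    have h1 := hLA ha hae hf
    rw [hf', OneMemClass.coe_one, eq_comm, conj_eq_one_iff] at h1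
    have hf1 : f = 1 := (injective_iff_map_eq_one _).mp hinj f (Subtype.ext h1)
    rw [hf1] at hf
    exact Subtype.ext (by rw [← hf]; simp)
  -- parities
  have hn : ∀ e, (n e : ZMod 2) = if Function.Injective (L e) then 1 else 0 := by
    intro e
    split_ifs with hi
    · haveI : Subsingleton {f : E // L e f = e} :=
        ⟨fun a b => Subtype.ext (hi (a.2.trans b.2.symm))⟩
      obtain ⟨f, hf⟩ := Finite.surjective_of_injective hi e
      haveI : Nonempty {f : E // L e f = e} := ⟨⟨f, hf⟩⟩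
      show ((Nat.card {f : E // L e f = e} : ℕ) : ZMod 2) = 1
      rw [Nat.card_of_subsingleton (⟨f, hf⟩ : {f : E // L e f = e}), Nat.cast_one]
    · obtain ⟨z, hz, hz1⟩ : ∃ z : E, L e z = 1 ∧ z ≠ 1 := by
        by_contra hcon
        push Not at hcon
        exact hi ((injective_iff_map_eq_one _).mpr hcon)
      show ((Nat.card {f : E // L e f = e} : ℕ) : ZMod 2) = 0
      rw [ZMod.natCast_eq_zero_iff_even]
      by_cases hex : ∃ f₀, L e f₀ = e
      · obtain ⟨f₀, hf₀⟩ := hex
        rw [Nat.card_congr (show {f : E // L e f = e} ≃ (L e).ker from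
          { toFun := fun f => ⟨f₀⁻¹ * f.1, by
              rw [MonoidHom.mem_ker, _root_.map_mul, _root_.map_inv, f.2, hf₀, inv_mul_cancel]⟩
            invFun := fun k => ⟨f₀ * k.1, by
              rw [_root_.map_mul, hf₀, MonoidHom.mem_ker.mp k.2, mul_one]⟩
            left_inv := fun f => Subtype.ext (by simp)
            right_inv := fun k => Subtype.ext (by simp) }), even_iff_two_dvd]
        have hord : orderOf z = 2 := orderOf_eq_prime
          (by rw [pow_two]; exact Subtype.ext (h.sq z z.2)) hz1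
        exact hord ▸ Subgroup.orderOf_dvd_natCard _ hz
      · haveI : IsEmpty {f : E // L e f = e} := ⟨fun f => hex ⟨f.1, f.2⟩⟩
        simp
  obtain ⟨e₁, he₁, he₁1⟩ := h.exists_ne_one
  have hone : (⟨e₁, he₁⟩ : E) ≠ 1 := fun h1 => he₁1 (congrArg Subtype.val h1)
  have hsum : ((S1.card : ℕ) : ZMod 2) = (if Function.Injective (L 1) then 1 else 0) +
      if Function.Injective (L ⟨e₁, he₁⟩) then 1 else 0 := by
    rw [hcount, Nat.cast_sum, Finset.sum_congr rfl fun e _ => hn e,
      ← Finset.add_sum_erase _ _ (Finset.mem_univ (1 : E)),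
      Finset.sum_congr rfl fun e he => show (if Function.Injective (L e) then (1 : ZMod 2) else 0) =
        if Function.Injective (L ⟨e₁, he₁⟩) then 1 else 0 from
        if_congr ⟨htrans (Finset.ne_of_mem_erase he) hone, htrans hone (Finset.ne_of_mem_erase he)⟩
          rfl rfl, Finset.sum_const, Finset.card_erase_of_mem (Finset.mem_univ _),
      Finset.card_univ, nsmul_eq_mul]
    congr 1
    have hodd : ((Fintype.card E - 1 : ℕ) : ZMod 2) = 1 := by
      rw [ZMod.natCast_eq_one_iff_odd, ← Nat.card_eq_fintype_card]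
      have h2 : 2 ∣ Nat.card E := by
        have hord : orderOf (⟨e₁, he₁⟩ : E) = 2 := orderOf_eq_prime
          (by rw [pow_two]; exact Subtype.ext (h.sq e₁ he₁)) hone
        exact hord ▸ orderOf_dvd_natCard _
      obtain ⟨m, hm⟩ := h2
      have h4 := h.four_le
      exact ⟨m - 1, by omega⟩
    rw [hodd, one_mul]
  rw [(ZMod.natCast_eq_zero_iff_even).mpr heven] at hsum
  by_cases h1 : Function.Injective (L 1)
  · -- some other equation is singular
    let P : E → E := fun e => ⟨⁅sc ⟨e₁, he₁⟩, r e⁆, hc.layer _ (hscR _) _ (h.le (hrQ e))⟩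
    have hP : Function.Injective P := by
      intro e e' hee
      have h2 : ⁅sc ⟨e₁, he₁⟩, r e⁆ = ⁅sc ⟨e₁, he₁⟩, r e'⁆ := congrArg Subtype.val hee
      set d := (r e)⁻¹ * r e' with hd
      have hdQ : d ∈ Q := Q.mul_mem (Q.inv_mem (hrQ e)) (hrQ e')
      have hre' : r e' = r e * d := by rw [hd, mul_inv_cancel_left]
      rw [hre', h.comm_mul_right (h.le (hrQ e)) (hc.layer _ (hscR _) _ (h.le hdQ)),
        left_eq_mul] at h2
      have hdE : d ∈ E := by
        by_contra hdE
        exact hnd d hdQ hdE _ (hscC _) (hscE hone)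
          (commutatorElement_eq_one_iff_commute.mp h2).symm
      exact Subtype.ext (by
        rw [← hr e, ← hr e', hre', (h.central d hdE _ (h.le (hrQ e))).mul_mul_mul_comm,
          h.sq d hdE, mul_one])
    obtain ⟨e, he⟩ := Finite.surjective_of_injective hP (L 1 ⟨e₁, he₁⟩)
    have hnot : ¬ Function.Injective (L e) := fun hinj => by
      refine hone ((injective_iff_map_eq_one _).mp hinj _ (Subtype.ext ?_))
      rw [hLval, ← hL1, ← he]
      exact h.sq _ (P e).2
    have hene : e ≠ 1 := fun h2 => hnot (h2 ▸ h1)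
    rw [if_pos h1, if_neg fun h2 => hnot (htrans hone hene h2), add_zero] at hsum
    exact zero_ne_one hsum
  · -- `u` inverts the complement
    obtain ⟨z, hz, hz1⟩ : ∃ z : E, L 1 z = 1 ∧ z ≠ 1 := by
      by_contra hcon
      push Not at hcon
      exact h1 ((injective_iff_map_eq_one _).mpr hcon)
    have hall : ∀ f : E, u * sc f * (u * sc f) = 1 := by
      intro f
      rw [← hL1]
      by_cases hf : f = 1
      · rw [hf, _root_.map_one]; rfl
      obtain ⟨a, ha, hae⟩ := h.trans _ z.2 (fun h2 => hz1 (Subtype.ext h2)) _ f.2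
        fun h2 => hf (Subtype.ext h2)
      rw [hLA ha (show a * ((1 : E) : G) * a⁻¹ = ((1 : E) : G) by simp) hae, hz]
      simp
    have hinj : Function.Injective (L ⟨e₁, he₁⟩) := by
      rw [injective_iff_map_eq_one]
      intro f hf
      by_contra hf1
      have h2 := congrArg Subtype.val hf
      rw [hLval, hall, mul_one] at h2
      exact hnd _ (hrQ _) (hrE hone) _ (hscC f) (hscE hf1)
        (commutatorElement_eq_one_iff_commute.mp h2).symm
    rw [if_neg h1, if_pos hinj, zero_add] at hsum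
    exact zero_ne_one hsum

end Cfsg.Agent.H72.Asch
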