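import Cfsg.Agent.H72.Asch.ShapeTwoLayers
import Cfsg.Agent.H72.Asch.ShapeTwoOne
import Cfsg.Agent.H72.Asch.ShapeClasses
import Cfsg.Agent.H26.Asch.Classes
import Cfsg.Agent.H29.Asch.ShapeTwoMain
import Cfsg.Agent.H6.Asch.Dispatch

/-!
CLASS for a line of shape two with a translation at the top of the climb, and the local step for
shape two.
-/

set_option autoImplicit false
set_option linter.style.haveILetI false
set_option linter.unusedSectionVars false

namespace Cfsg.Agent.H72.Asch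

open Subgroup MulAction
open Cfsg.Agent.H14.Asch
open Cfsg.Agent.H73.Asch (Line2)
open Cfsg.Agent.H6.Asch (normAt centAt)
open Cfsg.Agent.H26.Asch (classGroup ClassResidue)
open Cfsg.Agent.H51.Asch (MaxTwo coreStab HasTranslation nxt sq_mem_nxt)
open scoped commutatorElement

universe u v

variable {G : Type u} [Group G] [Finite G] {Ω : Type v} [MulAction G Ω] [Finite Ω] {D : Set G}
  {u : G} {x y : Ω} {E Q A₀ R A : Subgroup G}

/-- Classes in one coset of `E`, filled by `R`, give fusion. -/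
theorem fused_of_mem_E (hR : MaxTwo (coreStab x E) R)
    (hfill : ∀ e ∈ E, ∃ c ∈ R, c * u * c⁻¹ = e * u) (hsq : u * u = 1)
    (hE : ∀ g ∈ classGroup x E R, g * u * g⁻¹ * u ∈ E) :
    ∀ g ∈ normAt x E, ∃ c ∈ centAt x E, g * u * g⁻¹ = c * u * c⁻¹ := by
  intro g hg
  have hconj : ∀ c ∈ centAt x E, g * c * g⁻¹ ∈ centAt x E := by
    intro c hc
    obtain ⟨hgx, hgE⟩ := mem_inf.mp hg
    rw [mem_stabilizer_iff] at hgx
    obtain ⟨hcx, hce⟩ := H26.Asch.mem_centAt'.mp hc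
    refine H26.Asch.mem_centAt'.mpr
      ⟨by rw [mul_smul, mul_smul, inv_smul_eq_iff.mpr hgx.symm, hcx, hgx], fun e he => ?_⟩
    have h1 := hce _ ((mem_normalizer_iff.mp (inv_mem hgE) e).mp he)
    rw [inv_inv] at h1
    calc g * c * g⁻¹ * e * (g * c * g⁻¹)⁻¹ = g * (c * (g⁻¹ * e * g) * c⁻¹) * g⁻¹ := by group
      _ = e := by rw [h1]; group
  obtain ⟨c, hc, hcR⟩ := H14.Asch.exists_conj_le_of_maximal hR.1 hR.2.1
    (fun P h1 h2 h3 => (hR.2.2 P h1 h2 h3).le)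
    (R := R.map (MulAut.conj g).toMonoidHom) (hR.1.map _) (by
      rintro _ ⟨r, hr, rfl⟩
      exact hconj r (hR.2.1 hr))
  have hcg : c * g ∈ classGroup x E R := mem_inf.mpr
    ⟨(normAt x E).mul_mem (H26.Asch.centAt_le_normAt' x E hc) hg,
      Coprime.mem_normalizer_of_map_conj (Subgroup.eq_of_le_of_card_ge (by
        rintro _ ⟨r, hr, rfl⟩
        show c * g * r * (c * g)⁻¹ ∈ R
        have h1 := hcR (g * r * g⁻¹) ⟨r, hr, rfl⟩
        rwa [show c * g * r * (c * g)⁻¹ = c * (g * r * g⁻¹) * c⁻¹ by group]) (by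
        rw [Subgroup.card_map_of_injective (f := (MulAut.conj (c * g)).toMonoidHom)
          (MulAut.conj (c * g)).injective]))⟩
  obtain ⟨d, hd, hdu⟩ := hfill _ (hE _ hcg)
  refine ⟨c⁻¹ * d, (centAt x E).mul_mem ((centAt x E).inv_mem hc) (hR.2.1 hd), ?_⟩
  calc g * u * g⁻¹ = c⁻¹ * (c * g * u * (c * g)⁻¹ * u * u) * c := by
        rw [mul_assoc _ u u, hsq, mul_one]; group
    _ = c⁻¹ * d * u * (c⁻¹ * d)⁻¹ := by rw [← hdu]; group

/-- **CLASS for shape two**, or the residue. -/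
theorem fused_or_residue_shapeTwo (h : Crit G Ω D) (hl : Line2 D u x E Q) (hy : u • y = y)
    (hyx : y ≠ x) (hT : HasTranslation u x E) (hA₀ : A₀ ≤ lineGroup D u ⊓ pairStab G x y)
    (hA₀E : A₀ ≤ normalizer (E : Set G)) (hA₀K : A₀ ≤ normalizer (coreStab x E : Set G))
    (hR : MaxTwo (coreStab x E) R) (hA : A ≤ A₀ ⊔ coreStab x E) (hd : ShapeData R Q E A u)
    (hs : Squaring Q E) (hQE : ¬ Q ≤ E) :
    (∀ g ∈ normAt x E, ∃ c ∈ centAt x E, g * u * g⁻¹ = c * u * c⁻¹) ∨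
      ∃ N : Subgroup G, ClassResidue u x E R ⁅R, A⁆ N A := by
  have hinvol : ∀ {g n : G}, g * u * g⁻¹ = n * u → n * u * (n * u) = 1 := fun {g n} e => by
    rw [← e, conj_mul, hd.sq_u, mul_one, mul_inv_cancel]
  have hnorm : ∀ {g : G}, g ∈ classGroup x E R →
      g ∈ normalizer (R : Set G) ∧ g ∈ normalizer (E : Set G) := fun hg =>
    ⟨(mem_inf.mp hg).2, (mem_inf.mp (mem_inf.mp hg).1).2⟩
  have hdone : ∀ N : Subgroup G, N ≤ ⁅R, A⁆ → (∀ g ∈ R, g * g ∈ N) →
      (∀ g ∈ normalizer (R : Set G), g ∈ normalizer (E : Set G) → ∀ n ∈ N, g * n * g⁻¹ ∈ N) →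
      Nat.card (⁅R, A⁆ : Subgroup G) = Nat.card E * Nat.card N →
      (∀ n ∈ N, n * u * (n * u) = 1 → ∃ c ∈ R, c * u * c⁻¹ = n * u) →
      (∀ g ∈ classGroup x E R, g * u * g⁻¹ * u ∈ ⁅R, A⁆) →
      (∀ g ∈ normAt x E, ∃ c ∈ centAt x E, g * u * g⁻¹ = c * u * c⁻¹) ∨
        ∃ N : Subgroup G, ClassResidue u x E R ⁅R, A⁆ N A := by
    intro N hNK hsq hinv hcard hfill hconj
    rcases (classData_of_shapeTwo h hl hy hyx hA₀ hA₀E hA₀K hR hA hd hs hNK hsq
      (fun g hg => hinv g (hnorm hg).1 (hnorm hg).2) hcard hconj fun n hn g _ hgn => by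
        obtain ⟨c, hc, hcu⟩ := hfill n hn (hinvol hgn)
        exact ⟨c, hc, hgn.trans hcu.symm⟩).fused_or_residue with hf | hres
    · exact Or.inl hf
    · exact Or.inr ⟨N, hres⟩
  by_cases hlayer : u ∈ hd.zTwo
  swap
  · obtain ⟨N, hNK, hΦN, hinv, hcard, hfill⟩ := exists_class_layers hd hs hQE hlayer
    exact hdone N hNK (fun g hg => hΦN (sq_mem_nxt hg)) hinv hcard hfill fun g hg =>
      conj_mul_mem_layers hd hs hQE hlayer (hnorm hg).1 (hnorm hg).2
  obtain ⟨C, hc, hcases⟩ := exists_layerCompl hd hs hlayer (not_centralizes hR hd hT) hQE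
  have hfillE : ∀ e ∈ E, ∃ c ∈ R, c * u * c⁻¹ = e * u := fun e he => by
    obtain ⟨z, hz, hze⟩ := hc.onto e he
    exact ⟨z, hd.commutator_le (hc.le hz), by
      rw [← hze, commutatorElement_def, inv_mul_cancel_right]⟩
  rcases hcases with hQC | hnd
  · obtain ⟨N, hNK, hEN, hinv, hcard, hfill⟩ := exists_class_comm hd hc hs hQE hQC
    exact hdone N hNK (fun g hg => hEN (hc.sq g hg)) hinv hcard
      (fun n hn hn2 => hfillE n (hfill n hn hn2)) fun g hg =>
        conj_mul_mem_comm hd hc hs hQE hQC (hnorm hg).1 (hnorm hg).2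
  · exact Or.inl (fused_of_mem_E hR hfillE hd.sq_u fun g hg =>
      conj_mul_mem_E hd hc hs hQE hnd (hnorm hg).1 (hnorm hg).2)

/-- **The local step for lines of shape two.** -/
theorem shapeTwoStep (h : Crit G Ω D) : H6.Asch.ShapeTwoStep Ω D :=
  fun hP _ _ _ _ _ hl hy hyx hT hs hQE =>
    H29.Asch.exists_chain_or_residue_shapeTwo h hP hl hT hy hyx hs hQE
      fun _ _ _ hA₀ hA₀E hA₀K hA hR hd =>
        fused_or_residue_shapeTwo h hl hy hyx hT hA₀ hA₀E hA₀K hR hA hd hs hQE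

end Cfsg.Agent.H72.Asch
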