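import Cfsg.Agent.H51.Asch.UnitaryTop
import Cfsg.Agent.H26.Asch.ClassBasics

/-!
The residue `|E| = 8` of CLASS does not occur for a line of shape three: an element of `classGroup`
normalises `Q V` for the abelian part `V` of `C_R(a)`, so it normalises the image of the scalars on
`E`, and no involution of `E` does that as `8` is no square.
-/

set_option autoImplicit false
set_option linter.style.haveILetI false
set_option linter.unusedSectionVars false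

namespace Cfsg.Agent.H72.Asch

open Subgroup MulAction
open Cfsg.Agent.H14.Asch (commute_conj)
open Cfsg.Agent.H6.Asch (normAt centAt)
open Cfsg.Agent.H26.Asch (classGroup ClassResidue TrivTop mem_centAt')
open Cfsg.Agent.H51.Asch (nxt nxt_le norm_nxt comm_mem_nxt)
open Cfsg.Agent.H51.AschU
open scoped commutatorElement

universe u v

variable {G : Type u} [Group G] [Finite G] {R Q E A : Subgroup G} {u a : G}

/-- Two elements of `A` agreeing on a non-identity element of `E` agree on `E`. -/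
theorem eq_on_E (h : UData R Q E A u a) {z z' : G} (hz : z ∈ A) (hz' : z' ∈ A) {e : G} (he : e ∈ E)
    (he1 : e ≠ 1) (hzz : z * e * z⁻¹ = z' * e * z'⁻¹) {f : G} (hf : f ∈ E) :
    z * f * z⁻¹ = z' * f * z'⁻¹ := by
  have h1 : z'⁻¹ * z * e * (z'⁻¹ * z)⁻¹ = e := by
    calc z'⁻¹ * z * e * (z'⁻¹ * z)⁻¹ = z'⁻¹ * (z * e * z⁻¹) * z' := by group
      _ = e := by rw [hzz]; group
  have h2 := h.torus.fixed_of_fix_one (A.mul_mem (inv_mem hz') hz) he he1 h1 hf
  calc z * f * z⁻¹ = z' * (z'⁻¹ * z * f * (z'⁻¹ * z)⁻¹) * z'⁻¹ := by group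
    _ = _ := by rw [h2]

/-- A conjugate of a scalar by an element normalising `Q V` acts on `E` as a scalar. -/
theorem exists_scalar_eq_conj (h : UData R Q E A u a) (hQE : ¬ Q ≤ E) {V : Subgroup G}
    (hVk : V ≤ rk R a) (hVc : ∀ v ∈ V, ∀ v' ∈ V, Commute v v')
    (hAV : A ≤ normalizer (V : Set G)) {g : G}
    (hgW : g ∈ normalizer ((Q ⊔ V : Subgroup G) : Set G)) {z : G} (hzA : z ∈ A)
    (hz : Scalar Q z) :
    ∃ z₁ ∈ A, ∀ e ∈ E, g * z * g⁻¹ * e * (g * z * g⁻¹)⁻¹ = z₁ * e * z₁⁻¹ := by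
  classical
  have hVQ : ∀ v ∈ V, ∀ q ∈ Q, Commute v q := fun v hv q hq => h.commute_rk (hVk hv) hq
  have hVn : V ≤ normalizer (Q : Set G) := fun v hv => mem_normalizer_conj fun q hq => by
    rw [(hVQ v hv q hq).eq, mul_inv_cancel_right]; exact hq
  have hW : ∀ {x}, x ∈ Q ⊔ V → ∃ q ∈ Q, ∃ v ∈ V, x = q * v := fun {x} hx => by
    obtain ⟨q, hq, v, hv, he⟩ := (Coprime.mem_sup_iff hVn).mp hx
    exact ⟨q, hq, v, hv, he.symm⟩
  set z' := g * z * g⁻¹ with hz'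
  have hzW : ∀ {x}, x ∈ Q ⊔ V → z * x * z⁻¹ ∈ Q ⊔ V ∧ Commute (z * x * z⁻¹) x := fun {x} hx => by
    obtain ⟨q, hq, v, hv, rfl⟩ := hW hx
    have hq' := h.conj_mem_Q hzA hq
    have hv' := (mem_normalizer_iff.mp (hAV hzA) v).mp hv
    rw [show z * (q * v) * z⁻¹ = z * q * z⁻¹ * (z * v * z⁻¹) by group]
    exact ⟨mul_mem (mem_sup_left hq') (mem_sup_right hv'),
      ((hz.commute hq).mul_right (hVQ v hv _ hq').symm).mul_left
        ((hVQ _ hv' q hq).mul_right (hVc _ hv' v hv))⟩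
  have hz'W : ∀ {x}, x ∈ Q ⊔ V → z' * x * z'⁻¹ ∈ Q ⊔ V ∧ Commute (z' * x * z'⁻¹) x :=
    fun {x} hx => by
      obtain ⟨h1, h2⟩ := hzW ((mem_normalizer_iff.mp (inv_mem hgW) x).mp hx)
      have h3 := commute_conj h2 g
      rw [show g * (z * (g⁻¹ * x * g⁻¹⁻¹) * z⁻¹) * g⁻¹ = z' * x * z'⁻¹ by rw [hz']; group,
        show g * (g⁻¹ * x * g⁻¹⁻¹) * g⁻¹ = x by group] at h3
      refine ⟨?_, h3⟩
      have h4 := (mem_normalizer_iff.mp hgW _).mp h1
      rwa [show g * (z * (g⁻¹ * x * g⁻¹⁻¹) * z⁻¹) * g⁻¹ = z' * x * z'⁻¹ by rw [hz']; group] at h4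
  -- the `Q`-part of the conjugates
  have hex : ∀ p, ∃ p' v, p ∈ Q → p' ∈ Q ∧ v ∈ V ∧ z' * p * z'⁻¹ = p' * v := fun p => by
    by_cases hp : p ∈ Q
    · obtain ⟨p', hp', v, hv, he⟩ := hW (hz'W (mem_sup_left hp)).1
      exact ⟨p', v, fun _ => ⟨hp', hv, he⟩⟩
    · exact ⟨1, 1, fun hp' => absurd hp' hp⟩
  choose P W hPW using hex
  have hval : ∀ {p r : G}, p ∈ Q → r ∈ Q → ⁅P p, P r⁆ = z' * ⁅p, r⁆ * z'⁻¹ := by
    intro p r hp hr
    obtain ⟨hPp, hWp, hep⟩ := hPW p hp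
    obtain ⟨hPr, hWr, her⟩ := hPW r hr
    rw [h.shape.conj_comm, hep, her]
    have c1 : ⁅W p, P r * W r⁆ = 1 := commutatorElement_eq_one_iff_commute.mpr
      ((hVQ _ hWp _ hPr).mul_right (hVc _ hWp _ hWr))
    have c2 : ⁅P p, W r⁆ = 1 :=
      commutatorElement_eq_one_iff_commute.mpr (hVQ _ hWr _ hPp).symm
    rw [h.shape.comm_mul_left (h.shape.le hPp) (by rw [c1]; exact E.one_mem), c1, one_mul,
      h.shape.comm_mul_right (h.shape.le hPr) (by rw [c2]; exact E.one_mem), c2, mul_one]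
  have hcomm : ∀ {p : G}, p ∈ Q → Commute (P p) p := fun {p} hp => by
    obtain ⟨hPp, hWp, hep⟩ := hPW p hp
    have h1 := (hz'W (mem_sup_left hp)).2.mul_left (hVQ _ hWp p hp).inv_left
    rwa [hep, mul_inv_cancel_right] at h1
  have hadd : ∀ {p r : G}, p ∈ Q → r ∈ Q → (P p * P r)⁻¹ * P (p * r) ∈ E := by
    intro p r hp hr
    obtain ⟨hPp, hWp, hep⟩ := hPW p hp
    obtain ⟨hPr, hWr, her⟩ := hPW r hr
    obtain ⟨hP3, hW3, he3⟩ := hPW _ (Q.mul_mem hp hr)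
    refine h.mem_E_of_rk (Q.mul_mem (inv_mem (Q.mul_mem hPp hPr)) hP3) ?_
    have e1 : P (p * r) * W (p * r) = P p * P r * (W p * W r) := by
      rw [← he3, show z' * (p * r) * z'⁻¹ = z' * p * z'⁻¹ * (z' * r * z'⁻¹) by group, hep, her,
        (hVQ _ hWp _ hPr).mul_mul_mul_comm]
    rw [show (P p * P r)⁻¹ * P (p * r) = (P p * P r)⁻¹ * (P (p * r) * W (p * r)) * (W (p * r))⁻¹ by
      group, e1, inv_mul_cancel_left]
    exact hVk (mul_mem (mul_mem hWp hWr) (inv_mem hW3))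
  have hshift : ∀ {p' p'' s : G}, p' ∈ Q → p'' ∈ Q → s ∈ Q → p''⁻¹ * p' ∈ E →
      ⁅p', s⁆ = ⁅p'', s⁆ := by
    intro p' p'' s h1 h2 h3 h4
    have h5 := h.comm_left (s := s) h2 (h.shape.le_E h4) h3
    rwa [mul_inv_cancel_left, commutatorElement_eq_one_iff_commute.mpr
      (h.shape.central _ h4 s (h.shape.le h3)), one_mul] at h5
  -- the scalar of an element outside `E`
  have hscal : ∀ {p r : G}, p ∈ Q → r ∈ Q → ⁅p, r⁆ ≠ 1 →
      ∃ w ∈ A, Scalar Q w ∧ ∀ s ∈ Q, ⁅P p, s⁆ = w * ⁅p, s⁆ * w⁻¹ := by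
    intro p r hp hr hne
    have hpE : p ∉ E := fun hpE => hne (commutatorElement_eq_one_iff_commute.mpr
      (h.shape.central p hpE r (h.shape.le hr)))
    have hPE : P p ∉ E := fun hPE => hne (by
      have h1 := hval hp hr
      rw [commutatorElement_eq_one_iff_commute.mpr
        (h.shape.central _ hPE _ (h.shape.le (hPW r hr).1))] at h1
      calc ⁅p, r⁆ = z'⁻¹ * (z' * ⁅p, r⁆ * z'⁻¹) * z' := by group
        _ = 1 := by rw [← h1]; group)
    obtain ⟨zp, hzpA, hzp, hzpe⟩ :=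
      h.exists_scalar_of_commute hp hpE (hPW p hp).1 hPE (hcomm hp).symm
    obtain ⟨w, hwA, hw, hwz⟩ := hzp.exists_sqrt h.shape.odd hzpA
    refine ⟨w, hwA, hw, fun s hs => ?_⟩
    rw [hshift (hPW p hp).1 (h.conj_mem_Q hzpA hp) hs hzpe, h.comm_scalar hwA hw hwz hp hs]
  obtain ⟨p, hp, hpE⟩ := SetLike.not_le_iff_exists.mp hQE
  obtain ⟨r₀, hr₀, hpr₀⟩ : ∃ r ∈ Q, ⁅p, r⁆ ≠ 1 := by
    obtain ⟨e, he, he1⟩ := h.shape.exists_ne_one
    obtain ⟨r, hr, hre⟩ := h.exists_comm hp hpE he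
    exact ⟨r, hr, hre.trans_ne he1⟩
  obtain ⟨wp, hwpA, hwp, hwpe⟩ := hscal hp hr₀ hpr₀
  refine ⟨wp * wp, A.mul_mem hwpA hwpA, fun e he => ?_⟩
  by_cases he1 : e = 1
  · rw [he1]; group
  obtain ⟨r, hr, rfl⟩ := h.exists_comm hp hpE he
  have hrp : ⁅r, p⁆ = ⁅p, r⁆ := h.comm_swap hp hr
  have hpr := Q.mul_mem hp hr
  have e3p : ⁅p * r, p⁆ = ⁅p, r⁆ := by
    rw [h.comm_left hp hr hp, commutatorElement_self, mul_one, hrp]
  have e3r : ⁅p * r, r⁆ = ⁅p, r⁆ := by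
    rw [h.comm_left hp hr hr, commutatorElement_self, one_mul]
  obtain ⟨wr, hwrA, -, hwre⟩ := hscal hr hp (hrp.trans_ne he1)
  obtain ⟨w3, hw3A, -, hw3e⟩ := hscal hpr hr (e3r.trans_ne he1)
  have hPm := Q.mul_mem (hPW p hp).1 (hPW r hr).1
  have a1 : w3 * ⁅p, r⁆ * w3⁻¹ = wr * ⁅p, r⁆ * wr⁻¹ := by
    have h1 := hw3e p hp
    rw [hshift (hPW _ hpr).1 hPm hp (hadd hp hr), h.comm_left (hPW p hp).1 (hPW r hr).1 hp,
      commutatorElement_eq_one_iff_commute.mpr (hcomm hp), mul_one, hwre p hp, e3p, hrp] at h1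
    exact h1.symm
  have a2 : w3 * ⁅p, r⁆ * w3⁻¹ = wp * ⁅p, r⁆ * wp⁻¹ := by
    have h1 := hw3e r hr
    rw [hshift (hPW _ hpr).1 hPm hr (hadd hp hr), h.comm_left (hPW p hp).1 (hPW r hr).1 hr,
      commutatorElement_eq_one_iff_commute.mpr (hcomm hr), one_mul, hwpe r hr, e3r] at h1
    exact h1.symm
  rw [← hval hp hr, hwpe _ (hPW r hr).1, ← h.comm_swap hp (hPW r hr).1, hwre p hp, hrp, ← a1, a2]
  group

/-- No involutory automorphism of `E` is compatible with the scalars when `|E| = 8`. -/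
theorem false_of_norm_scalars (h : UData R Q E A u a) (h8 : Nat.card E = 8) {g : G}
    (hgE : g ∈ normalizer (E : Set G)) (hg2 : ∀ e ∈ E, g * (g * e * g⁻¹) * g⁻¹ = e)
    (hgne : ∃ x ∈ E, g * x * g⁻¹ ≠ x)
    (hconj : ∀ z ∈ A, Scalar Q z → ∃ z₁ ∈ A, ∀ e ∈ E,
      g * z * g⁻¹ * e * (g * z * g⁻¹)⁻¹ = z₁ * e * z₁⁻¹) : False := by
  classical
  have hcomm : ∀ {e f : G}, e ∈ E → f ∈ E → Commute e f := fun he hf =>
    h.shape.central _ he _ (h.shape.le_M hf)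
  have hσ : ∀ {e : G}, e ∈ E → g * e * g⁻¹ ∈ E := fun he => (mem_normalizer_iff.mp hgE _).mp he
  let F : Subgroup G :=
    { carrier := {e | e ∈ E ∧ g * e * g⁻¹ = e}
      one_mem' := ⟨E.one_mem, by group⟩
      mul_mem' := fun {e f} he hf => ⟨E.mul_mem he.1 hf.1, by
        rw [show g * (e * f) * g⁻¹ = g * e * g⁻¹ * (g * f * g⁻¹) by group, he.2, hf.2]⟩
      inv_mem' := fun {e} he => ⟨E.inv_mem he.1, by
        rw [show g * e⁻¹ * g⁻¹ = (g * e * g⁻¹)⁻¹ by group, he.2]⟩ }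
  have hFmem : ∀ {e}, e ∈ F ↔ e ∈ E ∧ g * e * g⁻¹ = e := Iff.rfl
  -- `E / F` embeds in `F`
  have hle : Nat.card E ≤ Nat.card F * Nat.card F := by
    let d : E → F := fun e => ⟨(e : G) * (g * e * g⁻¹), hFmem.mpr ⟨E.mul_mem e.2 (hσ e.2), by
      rw [show g * ((e : G) * (g * e * g⁻¹)) * g⁻¹ =
        g * e * g⁻¹ * (g * (g * e * g⁻¹) * g⁻¹) by group, hg2 e e.2, (hcomm (hσ e.2) e.2).eq]⟩⟩
    have hrep : ∀ y : Set.range d, ∃ e, d e = y := fun y => y.2
    choose rep hrep using hrep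
    have hmem : ∀ e : E, (rep ⟨d e, e, rfl⟩ : G) * e ∈ F := fun e => by
      set e₀ := rep ⟨d e, e, rfl⟩ with he₀
      have h1 : (e₀ : G) * (g * e₀ * g⁻¹) = (e : G) * (g * e * g⁻¹) :=
        congrArg Subtype.val (hrep ⟨d e, e, rfl⟩)
      refine hFmem.mpr ⟨E.mul_mem e₀.2 e.2, ?_⟩
      have h3 := eq_inv_mul_iff_mul_eq.mpr h1
      rw [show g * ((e₀ : G) * e) * g⁻¹ = g * e₀ * g⁻¹ * (g * e * g⁻¹) by group, h3,
        h.shape.inv_E e₀.2, mul_assoc, mul_assoc, h.shape.sq _ (hσ e.2), mul_one]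
    rw [← Nat.card_prod]
    refine Nat.card_le_card_of_injective (fun e => ((d e, ⟨_, hmem e⟩) : F × F)) fun e e' he => ?_
    have e1 : d e = d e' := congrArg Prod.fst he
    have e2 := congrArg (fun q : F × F => (q.2 : G)) he
    dsimp only at e2
    rw [show rep ⟨d e, e, rfl⟩ = rep ⟨d e', e', rfl⟩ from congrArg rep (Subtype.ext e1)] at e2
    exact Subtype.ext (mul_left_cancel e2)
  obtain ⟨e₀, he₀, he₀1⟩ : ∃ e ∈ F, e ≠ 1 := by
    by_contra hc
    push Not at hc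
    rw [show F = ⊥ from (eq_bot_iff_forall _).mpr hc, card_bot, h8] at hle
    omega
  obtain ⟨he₀E, he₀g⟩ := hFmem.mp he₀
  obtain ⟨x, hx, hxg⟩ := hgne
  have hx1 : x ≠ 1 := fun e => hxg (by rw [e]; group)
  obtain ⟨z, hzA, hz, hze⟩ := h.scalars e₀ he₀E he₀1 x hx hx1
  obtain ⟨z₁, hz₁A, hz₁⟩ := hconj z hzA hz
  have hσz : ∀ f ∈ F, g * (z * f * z⁻¹) * g⁻¹ = z₁ * f * z₁⁻¹ := fun f hf => by
    rw [← hz₁ f hf.1]
    conv_rhs => arg 1; arg 2; rw [← hf.2]
    group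
  have hge : Nat.card F * Nat.card F ≤ Nat.card E := by
    rw [← Nat.card_prod]
    let m : F × F → E := fun q => ⟨(q.1 : G) * (z * q.2 * z⁻¹),
      E.mul_mem (hFmem.mp q.1.2).1 (h.conj_mem_E hzA (hFmem.mp q.2.2).1)⟩
    refine Nat.card_le_card_of_injective m fun q q' e => ?_
    have e1 : (q.1 : G) * (z * q.2 * z⁻¹) = (q'.1 : G) * (z * q'.2 * z⁻¹) := congrArg Subtype.val e
    have e2 : (q'.1 : G)⁻¹ * q.1 = z * ((q'.2 : G) * (q.2 : G)⁻¹) * z⁻¹ := by
      calc (q'.1 : G)⁻¹ * q.1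
          = (q'.1 : G)⁻¹ * (q.1 * (z * q.2 * z⁻¹)) * (z * (q.2 : G)⁻¹ * z⁻¹) := by group
        _ = (q'.1 : G)⁻¹ * (q'.1 * (z * q'.2 * z⁻¹)) * (z * (q.2 : G)⁻¹ * z⁻¹) := by rw [e1]
        _ = _ := by group
    set f := (q'.2 : G) * (q.2 : G)⁻¹ with hf
    have hfF : f ∈ F := F.mul_mem q'.2.2 (F.inv_mem q.2.2)
    by_cases hf1 : f = 1
    · rw [hf1, mul_one, mul_inv_cancel, inv_mul_eq_one] at e2
      exact Prod.ext (Subtype.ext e2.symm) (Subtype.ext (mul_inv_eq_one.mp hf1).symm)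
    exfalso
    have h1 := hσz f hfF
    rw [← e2, (hFmem.mp (F.mul_mem (F.inv_mem q'.1.2) q.1.2)).2, e2] at h1
    refine hxg ?_
    rw [← hze, hσz e₀ he₀, eq_on_E h hzA hz₁A hfF.1 hf1 h1 he₀E]
  rw [h8] at hle hge
  rcases le_or_gt (Nat.card F) 2 with h1 | h1
  · have := Nat.mul_le_mul h1 h1; omega
  · have := Nat.mul_le_mul (show 3 ≤ Nat.card F from h1) (show 3 ≤ Nat.card F from h1); omega

/-- The layer below the Frattini part of `C_R(a)` is that of `R`. -/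
theorem nxt_nxt_eq (h : UData R Q E A u a) (hp : Split R Q a)
    (hm : ¬ nxt (rk R a) (rk R a) ≤ E) :
    nxt (nxt (rk R a) (rk R a)) (rk R a) = nxt (nxt R R) R := by
  have hL : Acts R E (⊥ : Subgroup G) :=
    ⟨bot_le, fun e _ l hl => by rw [mem_bot.mp hl]; exact Commute.one_right e⟩
  rw [h.multi_nxt hp hL hm]
  refine le_antisymm (sup_le (le_sup_of_le_left (commutator_mono le_rfl inf_le_left)) le_sup_right)
    (sup_le (Subgroup.commutator_le.mpr fun n hn r hr => ?_) le_sup_right)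
  obtain ⟨q, hq, k, hk, rfl⟩ := hp r hr
  have h1 : ⁅n, q⁆ = 1 := commutatorElement_eq_one_iff_commute.mpr
    (h.commute_rk (nxt_le le_normalizer hn) hq)
  rw [show ⁅n, q * k⁆ = ⁅n, q⁆ * (q * ⁅n, k⁆ * q⁻¹) by simp [commutatorElement_def, mul_assoc],
    h1, one_mul, ← (h.commute_rk (nxt_le le_normalizer
      (h.multi_F2_le hp hL hm (comm_mem_nxt hn hk))) hq).eq, mul_inv_cancel_right]
  exact comm_mem_nxt hn hk

variable {Ω : Type v} [MulAction G Ω] {x : Ω}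

/-- **The residue does not occur in shape three.** -/
theorem false_of_residue_unitary (h : UData R Q E A u a) (hp : Split R Q a) (hQE : ¬ Q ≤ E)
    {N : Subgroup G} (c : ClassResidue u x E R ⁅R, A⁆ N A) : False := by
  classical
  haveI : Fact (Nat.Prime 2) := ⟨Nat.prime_two⟩
  have hd := c.data
  set C := classGroup x E R with hC
  -- an element of `classGroup` inducing an involution on `E`
  let Z : Subgroup G :=
    { carrier := {g | TrivTop x E R ⁅R, A⁆ N g}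
      one_mem' := hd.trivTop_of_mem R.one_mem
      mul_mem' := fun hb hc => hd.trivTop_mul hb hc
      inv_mem' := fun hb => hd.trivTop_inv hb }
  have hcard : Nat.card C = 168 * Nat.card Z :=
    c.card_image Z (fun _ hg => hg.1) fun _ => Iff.rfl
  have hRC : R ≤ C := hd.R_le_classGroup
  obtain ⟨n, hn⟩ := IsPGroup.iff_card.mp hd.R_two
  have hdvd : 2 ^ (n + 1) ∣ Nat.card C := by
    rw [hcard, pow_succ', ← hn]
    exact Nat.mul_dvd_mul (by norm_num) (card_dvd_of_le fun r hr => hd.trivTop_of_mem hr)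
  obtain ⟨P, hPcard, hRP⟩ := Sylow.exists_subgroup_card_pow_succ hdvd
    (H := R.subgroupOf C) (by rw [Nat.card_congr (subgroupOfEquivOfLe hRC).toEquiv, hn])
  obtain ⟨⟨g, hgC⟩, hgP, hgR⟩ : ∃ g ∈ P, g ∉ R.subgroupOf C := by
    by_contra hc
    push Not at hc
    have h1 := card_le_of_le (show P ≤ R.subgroupOf C from hc)
    rw [hPcard, Nat.card_congr (subgroupOfEquivOfLe hRC).toEquiv, hn] at h1
    exact absurd h1 (not_le.mpr (Nat.pow_lt_pow_right (by norm_num) (Nat.lt_succ_self n)))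
  have hgR' : g ∉ R := fun hr => hgR (mem_subgroupOf.mpr hr)
  have hP2 : IsPGroup 2 P := IsPGroup.of_card hPcard
  have hgg : g * g ∈ R := by
    have hidx : (((R.subgroupOf C).subgroupOf P)).index = 2 := by
      have h1 := ((R.subgroupOf C).subgroupOf P).card_mul_index
      rw [Nat.card_congr (subgroupOfEquivOfLe hRP).toEquiv,
        Nat.card_congr (subgroupOfEquivOfLe hRC).toEquiv, hn, hPcard, pow_succ] at h1
      exact Nat.eq_of_mul_eq_mul_left (by positivity) h1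
    have h1 := Subgroup.mul_self_mem_of_index_two hidx ⟨⟨g, hgC⟩, hgP⟩
    exact mem_subgroupOf.mp (mem_subgroupOf.mp h1)
  have hgnE : g ∈ normalizer (E : Set G) := (mem_inf.mp (mem_inf.mp hgC).1).2
  have hgRn : g ∈ normalizer (R : Set G) := (mem_inf.mp hgC).2
  refine false_of_norm_scalars h c.card_E hgnE (fun e he => ?_) ?_ fun z hzA hz => ?_
  · rw [show g * (g * e * g⁻¹) * g⁻¹ = g * g * e * (g * g)⁻¹ by group]
    exact (mem_centAt'.mp (hd.R_le hgg)).2 e he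
  · by_contra hc
    push Not at hc
    have hgc : g ∈ centAt x E := mem_centAt'.mpr
      ⟨mem_stabilizer_iff.mp (mem_inf.mp (mem_inf.mp hgC).1).1, hc⟩
    have hP' : IsPGroup 2 (P.map C.subtype) := hP2.map _
    refine hgR' (hd.R_max (P.map C.subtype ⊓ centAt x E) (hP'.to_le inf_le_left) inf_le_right
      (le_inf (fun r hr => ⟨⟨r, hRC hr⟩, hRP (mem_subgroupOf.mpr hr), rfl⟩) hd.R_le)
      ⟨⟨⟨g, hgC⟩, hgP, rfl⟩, hgc⟩)
  · -- the invariant `Q V`
    by_cases hF : nxt (rk R a) (rk R a) ≤ E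
    · refine exists_scalar_eq_conj h hQE (V := ⁅rk R a, A⁆) h.kk_le_rk
        (fun v hv v' hv' => h.kk_abelian hF hv hv') (normalizer_commutator_ge_right _ A) ?_ hzA hz
      have e : Q ⊔ ⁅rk R a, A⁆ = ⁅R, A⁆ :=
        le_antisymm (sup_le h.shape.Q_le_commutator h.kk_le_comm) fun k hk => by
          obtain ⟨q, hq, k', hk', rfl⟩ := h.exists_kk hp hk
          exact mul_mem (mem_sup_left hq) (mem_sup_right hk')
      rw [e]
      exact mem_normalizer_conj fun k hk => c.invariant g hgC k hk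
    · refine exists_scalar_eq_conj h hQE (V := nxt (rk R a) (rk R a)) (nxt_le le_normalizer)
        (fun v hv v' hv' => h.F_abelian hv hv') h.normA_F ?_ hzA hz
      have hL : Acts R E (⊥ : Subgroup G) :=
        ⟨bot_le, fun e _ l hl => by rw [mem_bot.mp hl]; exact Commute.one_right e⟩
      refine mem_normalizer_conj fun k hk => h.multi_radical hp hL hF
        (c.invariant g hgC k (sup_le h.shape.Q_le_commutator
          (h.torus.nxt_le_commutator.trans h.kk_le_comm) hk)) fun r hr => ?_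
      have hr' : g⁻¹ * r * g⁻¹⁻¹ ∈ R := (mem_normalizer_iff.mp (inv_mem hgRn) r).mp hr
      have hn2 : g ∈ normalizer ((nxt (nxt (rk R a) (rk R a)) (rk R a) : Subgroup G) : Set G) := by
        rw [nxt_nxt_eq h hp hF]
        exact norm_nxt (X := zpowers g) (norm_nxt (zpowers_le.mpr hgRn) (zpowers_le.mpr hgRn))
          (zpowers_le.mpr hgRn) (mem_zpowers g)
      have h2 := (mem_normalizer_iff.mp hn2 _).mp (h.multi_mem_radical hp hL hF hk hr')
      rwa [h.shape.conj_comm, show g * (g⁻¹ * r * g⁻¹⁻¹) * g⁻¹ = r by group] at h2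

end Cfsg.Agent.H72.Asch
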