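import Cfsg.Agent.H51.Asch.UnitaryTop

/-!
In a product `R = Q ∘ C_R(a)` with the data of a line of shape three no involution of `⁅R, A⁆` is
taken to `u` by an element normalising `E` and taking its centraliser in `R` into `Q⟨u⟩`: the
centraliser is too large, or has too large an abelian subgroup.
-/

set_option autoImplicit false
set_option linter.style.haveILetI false
set_option linter.unusedSectionVars false

namespace Cfsg.Agent.H72.Asch

open Subgroup
open Cfsg.Agent.H51.Asch (nxt nxt_le comm_mem_nxt)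
open Cfsg.Agent.H51.AschU
open scoped commutatorElement

universe u

variable {G : Type u} [Group G] [Finite G] {R Q E A : Subgroup G} {u a : G}

theorem mem_or_mul_mem_sup_zpowers (h : UData R Q E A u a) {g : G} (hg : g ∈ Q ⊔ zpowers u) :
    g ∈ Q ∨ g * u ∈ Q := by
  have hn : zpowers u ≤ normalizer (Q : Set G) := zpowers_le.mpr (mem_normalizer_conj fun q hq => by
    rw [← (h.shape.commute q hq).eq, mul_inv_cancel_right]; exact hq)
  obtain ⟨q, hq, z, hz, rfl⟩ := (Coprime.mem_sup_iff hn).mp hg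
  obtain ⟨i, rfl⟩ := mem_zpowers_iff.mp hz
  rcases Int.even_or_odd i with ⟨j, rfl⟩ | ⟨j, rfl⟩
  · left
    rwa [← two_mul, zpow_mul, zpow_two, h.shape.sq_u, one_zpow, mul_one]
  · right
    rwa [zpow_add, zpow_mul, zpow_two, h.shape.sq_u, one_zpow, one_mul, zpow_one, mul_assoc,
      h.shape.sq_u, mul_one]

/-- A subgroup of `Q⟨u⟩` has at most twice as many elements as its intersection with `Q`. -/
theorem card_le_two_mul_inf (h : UData R Q E A u a) {S : Subgroup G} (hS : S ≤ Q ⊔ zpowers u) :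
    Nat.card S ≤ 2 * Nat.card (S ⊓ Q : Subgroup G) := by
  classical
  by_cases hSQ : S ≤ Q
  · rw [inf_eq_left.mpr hSQ]; omega
  obtain ⟨s, hs, hsQ⟩ := SetLike.not_le_iff_exists.mp hSQ
  have hsu : s * u ∈ Q := (mem_or_mul_mem_sup_zpowers h (hS hs)).resolve_left hsQ
  have hd : ∀ x : S, (x : G) ∉ Q → s⁻¹ * x ∈ S ⊓ Q := fun x hx => by
    have hxu := (mem_or_mul_mem_sup_zpowers h (hS x.2)).resolve_left hx
    have h1 := Q.mul_mem (inv_mem hsu) hxu
    have hc : Commute ((s * u)⁻¹ * ((x : G) * u)) u := h.shape.commute _ h1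
    refine ⟨S.mul_mem (S.inv_mem hs) x.2, ?_⟩
    rwa [show s⁻¹ * (x : G) = u * ((s * u)⁻¹ * ((x : G) * u)) * u⁻¹ by group, ← hc.eq,
      mul_inv_cancel_right]
  let f : S → Bool × (S ⊓ Q : Subgroup G) := fun x =>
    if hx : (x : G) ∈ Q then (true, ⟨x, x.2, hx⟩) else (false, ⟨s⁻¹ * x, hd x hx⟩)
  have hf : Function.Injective f := by
    intro x y e
    simp only [f] at e
    split_ifs at e with h1 h2 h2
    · exact Subtype.ext (congrArg (fun p : Bool × (S ⊓ Q : Subgroup G) => (p.2 : G)) e :)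
    · exact absurd (congrArg Prod.fst e) (by simp)
    · exact absurd (congrArg Prod.fst e) (by simp)
    · exact Subtype.ext (mul_left_cancel
        (congrArg (fun p : Bool × (S ⊓ Q : Subgroup G) => (p.2 : G)) e :))
  have h1 := Nat.card_le_card_of_injective f hf
  rwa [Nat.card_prod, Nat.card_eq_fintype_card (α := Bool), Fintype.card_bool] at h1

/-- Products of `T` in `⁅C_R(a), A⁆` and `L` in `Q`, adjusted in `Q`, have fibres of size `|E|`. -/
theorem card_mul_le_of_adjust (h : UData R Q E A u a) {T : Set G}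
    (hT : ∀ x ∈ T, x ∈ ⁅rk R a, A⁆) {L W : Subgroup G} (hLQ : L ≤ Q) {f : G → G}
    (hf : ∀ x ∈ T, f x ∈ Q) (hW : ∀ x ∈ T, ∀ c ∈ L, f x * x * c ∈ W) :
    Nat.card T * Nat.card L ≤ Nat.card W * Nat.card E := by
  classical
  let g : T × L → W := fun p => ⟨f p.1 * p.1 * p.2, hW p.1 p.1.2 p.2 p.2.2⟩
  have hrep : ∀ y : Set.range g, ∃ p, g p = y := fun y => y.2
  choose rep hrep using hrep
  have hmem : ∀ p : T × L, (p.1 : G) * ((rep ⟨g p, p, rfl⟩).1 : G)⁻¹ ∈ E := by
    intro p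
    set p₀ := rep ⟨g p, p, rfl⟩ with hp₀
    have e : f p₀.1 * (p₀.1 : G) * p₀.2 = f p.1 * (p.1 : G) * p.2 :=
      congrArg Subtype.val (hrep ⟨g p, p, rfl⟩)
    have hc : ∀ q : T × L, f q.1 * (q.1 : G) * q.2 = f q.1 * q.2 * q.1 := fun q => by
      rw [mul_assoc, (h.commute_rk (h.kk_le_rk (hT _ q.1.2)) (hLQ q.2.2)).eq, ← mul_assoc]
    rw [hc, hc] at e
    have hk := h.kk_le_rk ((⁅rk R a, A⁆).mul_mem (hT _ p.1.2) (inv_mem (hT _ p₀.1.2)))
    refine h.mem_E_of_rk ?_ hk
    rw [show (p.1 : G) * (p₀.1 : G)⁻¹ = (f p.1 * p.2)⁻¹ * (f p.1 * p.2 * p.1) * (p₀.1 : G)⁻¹ by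
      group, ← e, show (f p.1 * (p.2 : G))⁻¹ * (f p₀.1 * p₀.2 * p₀.1) * (p₀.1 : G)⁻¹ =
        (f p.1 * p.2)⁻¹ * (f p₀.1 * p₀.2) by group]
    exact Q.mul_mem (inv_mem (Q.mul_mem (hf _ p.1.2) (hLQ p.2.2)))
      (Q.mul_mem (hf _ p₀.1.2) (hLQ p₀.2.2))
  rw [← Nat.card_prod, ← Nat.card_prod]
  refine Nat.card_le_card_of_injective
    (fun p => ((g p, ⟨_, hmem p⟩) : W × E)) fun p p' e => ?_
  have e1 : g p = g p' := congrArg Prod.fst e
  have e2 := congrArg (fun q : W × E => (q.2 : G)) e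
  dsimp only at e2
  rw [show rep ⟨g p, p, rfl⟩ = rep ⟨g p', p', rfl⟩ from congrArg rep (Subtype.ext e1)] at e2
  have e3 : p.1 = p'.1 := Subtype.ext (mul_right_cancel e2)
  have e4 : f p.1 * (p.1 : G) * p.2 = f p'.1 * (p'.1 : G) * p'.2 := congrArg Subtype.val e1
  rw [e3] at e4
  exact Prod.ext e3 (Subtype.ext (mul_left_cancel e4))

/-- The elements of `⁅C_R(a), A⁆` whose commutator with `k` is in `E` are many. -/
theorem card_into_E (h : UData R Q E A u a) (hE : E ≤ nxt (nxt (rk R a) (rk R a)) (rk R a)) {k : G}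
    (hk : k ∈ ⁅rk R a, A⁆) :
    Nat.card (⁅rk R a, A⁆ : Subgroup G) * Nat.card E ≤
      Nat.card (nxt (nxt (rk R a) (rk R a)) (rk R a) : Subgroup G) *
        Nat.card {x | x ∈ ⁅rk R a, A⁆ ∧ ⁅x, k⁆ ∈ E} := by
  classical
  set K := ⁅rk R a, A⁆ with hK
  set F2 := nxt (nxt (rk R a) (rk R a)) (rk R a) with hF2
  let g : K × E → F2 := fun p => ⟨⁅(p.1 : G), k⁆ * p.2,
    mul_mem (h.torus.commutator_mem_nxt_nxt p.1.2 hk) (hE p.2.2)⟩
  have hrep : ∀ y : Set.range g, ∃ p, g p = y := fun y => y.2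
  choose rep hrep using hrep
  have hmem : ∀ p : K × E, ((rep ⟨g p, p, rfl⟩).1 : G)⁻¹ * p.1 ∈
      {x | x ∈ ⁅rk R a, A⁆ ∧ ⁅x, k⁆ ∈ E} := by
    intro p
    set p₀ := rep ⟨g p, p, rfl⟩ with hp₀
    refine ⟨K.mul_mem (inv_mem p₀.1.2) p.1.2, ?_⟩
    have e : ⁅(p₀.1 : G), k⁆ * p₀.2 = ⁅(p.1 : G), k⁆ * p.2 :=
      congrArg Subtype.val (hrep ⟨g p, p, rfl⟩)
    have hdE : (p₀.2 : G) * (p.2 : G)⁻¹ ∈ E := E.mul_mem p₀.2.2 (inv_mem p.2.2)
    set d : G := (p₀.2 : G) * (p.2 : G)⁻¹ with hd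
    have e1 : ⁅(p.1 : G), k⁆ = ⁅(p₀.1 : G), k⁆ * d := by
      rw [hd, ← mul_assoc, e, mul_inv_cancel_right]
    have hr : k * (p₀.1 : G)⁻¹ * k⁻¹ ∈ R :=
      R.mul_mem (R.mul_mem (h.kk_le_rk hk).1 (inv_mem (h.kk_le_rk p₀.1.2).1))
        (inv_mem (h.kk_le_rk hk).1)
    have e2 : ⁅(p₀.1 : G)⁻¹ * p.1, k⁆ =
        (k * (p₀.1 : G)⁻¹ * k⁻¹) * d * (k * (p₀.1 : G)⁻¹ * k⁻¹)⁻¹ := by
      calc ⁅(p₀.1 : G)⁻¹ * p.1, k⁆ = (p₀.1 : G)⁻¹ * ⁅(p.1 : G), k⁆ * k * p₀.1 * k⁻¹ := by
            simp [commutatorElement_def, mul_assoc]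
        _ = _ := by rw [e1, commutatorElement_def]; group
    rw [e2, h.shape.conj_E hr hdE]
    exact hdE
  rw [← Nat.card_prod, ← Nat.card_prod]
  refine Nat.card_le_card_of_injective
    (fun p => ((g p, ⟨_, hmem p⟩) : F2 × {x | x ∈ ⁅rk R a, A⁆ ∧ ⁅x, k⁆ ∈ E})) fun p p' e => ?_
  have e1 : g p = g p' := congrArg Prod.fst e
  have e2 := congrArg (fun q : F2 × {x | x ∈ ⁅rk R a, A⁆ ∧ ⁅x, k⁆ ∈ E} => (q.2 : G)) e
  dsimp only at e2
  rw [show rep ⟨g p, p, rfl⟩ = rep ⟨g p', p', rfl⟩ from congrArg rep (Subtype.ext e1)] at e2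
  have e3 : p.1 = p'.1 := Subtype.ext (mul_left_cancel e2)
  have e4 : ⁅(p.1 : G), k⁆ * p.2 = ⁅(p'.1 : G), k⁆ * p'.2 := congrArg Subtype.val e1
  rw [e3] at e4
  exact Prod.ext e3 (Subtype.ext (mul_left_cancel e4))

/-- No involution of `⁅R, A⁆` is good. -/
theorem false_of_good (h : UData R Q E A u a) (hp : Split R Q a) {v : G} (hv : v ∈ ⁅R, A⁆)
    (hvv : v * v = 1) (hg : Good R Q E u v) : False := by
  classical
  obtain ⟨t, htv, htE, htC⟩ := hg
  have h4 := h.shape.four_le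
  have hvE : v ∉ E := fun hE => h.shape.u_notMem_E (htv ▸ (mem_normalizer_iff.mp htE v).mp hE)
  -- a subgroup centralising `v` is small
  have hinj : Function.Injective (MulAut.conj t).toMonoidHom := (MulAut.conj t).injective
  have hsmall : ∀ W : Subgroup G, W ≤ R ⊓ centralizer {v} →
      Nat.card W ≤ 2 * Nat.card (W.map (MulAut.conj t).toMonoidHom ⊓ Q : Subgroup G) := by
    intro W hW
    rw [← Subgroup.card_map_of_injective (K := W) hinj]
    refine card_le_two_mul_inf h ?_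
    rintro _ ⟨m, hm, rfl⟩
    exact htC m (hW hm).1 (mem_centralizer_singleton_iff.mp (hW hm).2)
  have hCv : Nat.card (R ⊓ centralizer {v} : Subgroup G) ≤ 2 * Nat.card Q :=
    (hsmall _ le_rfl).trans (Nat.mul_le_mul_left _ (card_le_of_le inf_le_right))
  obtain ⟨q, hq, k, hk, hvqk⟩ := h.exists_kk hp hv
  have hkr := h.kk_le_rk hk
  have hkq : Commute k q := h.commute_rk hkr hq
  by_cases hqE : q ∈ E
  · -- `v` lies in `⁅C_R(a), A⁆`
    have hvK : v ∈ ⁅rk R a, A⁆ := hvqk ▸ mul_mem (h.torus.le_commutator hqE) hk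
    have h1 := card_mul_le_of_adjust h (T := (⁅rk R a, A⁆ ⊓ centralizer {v} : Subgroup G))
      (fun x hx => hx.1) (L := Q) (W := R ⊓ centralizer {v}) le_rfl (f := fun _ => 1)
      (fun _ _ => Q.one_mem) (fun x hx c hc => by
        rw [one_mul]
        refine ⟨R.mul_mem (h.kk_le_rk hx.1).1 (h.shape.le hc), ?_⟩
        exact mem_centralizer_singleton_iff.mpr ((show Commute x v from
          mem_centralizer_singleton_iff.mp hx.2).mul_left (h.commute_rk (h.kk_le_rk hvK) hc).symm).eq)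
    refine h.torus.not_small_centralizer hvK hvE (Nat.le_of_mul_le_mul_right ?_ (Nat.card_pos (α := Q)))
    calc _ ≤ _ := h1
      _ ≤ 2 * Nat.card Q * Nat.card E := Nat.mul_le_mul_right _ hCv
      _ = 2 * Nat.card E * Nat.card Q := by ring
  have hkk : k * k = q * q := by
    have e : q * q * (k * k) = 1 := by
      rw [← hvv, hvqk, hkq.mul_mul_mul_comm]
    rw [eq_inv_of_mul_eq_one_right e, h.shape.inv_E (h.shape.sq_mem q hq)]
  have hkE : k ∉ E := fun hE => hqE (h.shape.omega q hq (by rw [← hkk, h.shape.sq k hE]))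
  have hQE : ¬ Q ≤ E := fun hle => hqE (hle hq)
  set L : Subgroup G := Q ⊓ centralizer {q} with hL
  have hLcard : Nat.card L = Nat.card E * Nat.card E := h.card_centralizer_eq hq hqE
  have hLc : ∀ {c}, c ∈ L → c ∈ Q ∧ Commute q c := fun hc =>
    ⟨hc.1, (mem_centralizer_singleton_iff.mp hc.2).symm⟩
  by_cases hF : nxt (rk R a) (rk R a) ≤ E
  · -- a large abelian subgroup
    set W : Subgroup G := L ⊔ ⁅rk R a, A⁆ with hWdef
    have h1 : W ≤ centralizer (L : Set G) := sup_le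
      (fun c hc => mem_centralizer_iff.mpr fun c' hc' =>
        (h.commute_line hq hqE (hLc hc').1 (hLc hc').2 (hLc hc).1 (hLc hc).2).eq)
      (fun x hx => mem_centralizer_iff.mpr fun c' hc' =>
        (h.commute_rk (h.kk_le_rk hx) (hLc hc').1).symm.eq)
    have h2 : W ≤ centralizer ((⁅rk R a, A⁆ : Subgroup G) : Set G) := sup_le
      (fun c hc => mem_centralizer_iff.mpr fun x hx =>
        (h.commute_rk (h.kk_le_rk hx) (hLc hc).1).eq)
      (fun x hx => mem_centralizer_iff.mpr fun x' hx' => (h.kk_abelian hF hx' hx).eq)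
    have hWW : ∀ x ∈ W, ∀ y ∈ W, Commute x y := fun x hx y hy =>
      (mem_centralizer_iff.mp ((sup_le (le_centralizer_iff.mp h1) (le_centralizer_iff.mp h2) :
        W ≤ centralizer (W : Set G)) hy) x hx)
    have hvW : v ∈ W := hvqk ▸ mul_mem (mem_sup_left ⟨hq, mem_centralizer_singleton_iff.mpr rfl⟩)
      (mem_sup_right hk)
    have hWR : W ≤ R ⊓ centralizer {v} := fun x hx =>
      ⟨(sup_le (inf_le_left.trans h.shape.le) (h.kk_le_rk.trans inf_le_left) : W ≤ R) hx,
        mem_centralizer_singleton_iff.mpr (hWW x hx v hvW).eq⟩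
    have hW : Nat.card W ≤ 2 * (Nat.card E * Nat.card E) := by
      refine (hsmall W hWR).trans (Nat.mul_le_mul_left _ (h.card_abelian_le inf_le_right ?_))
      rintro _ ⟨⟨x, hx, rfl⟩, -⟩ _ ⟨⟨y, hy, rfl⟩, -⟩
      exact (hWW x hx y hy).map _
    have h3 := card_mul_le_of_adjust h (T := (⁅rk R a, A⁆ : Subgroup G)) (fun x hx => hx)
      (L := L) (W := W) inf_le_left (f := fun _ => 1) (fun _ _ => Q.one_mem)
      (fun x hx c hc => by
        rw [one_mul]; exact mul_mem (mem_sup_right hx) (mem_sup_left hc))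
    have h5 : Nat.card E * Nat.card E ≤ Nat.card (⁅rk R a, A⁆ : Subgroup G) :=
      (h.torus.card_mul_le (S := E) (K := ⁅rk R a, A⁆) h.torus.le_commutator h.kk_le_rk
        h.shape.normE (normalizer_commutator_ge_right _ A) (Or.inr h.u_notMem_kk) hk hkE).1
    have h6 : Nat.card E * Nat.card E * (Nat.card E * Nat.card E) ≤
        2 * (Nat.card E * Nat.card E) * Nat.card E := by
      refine le_trans ?_ (h3.trans (Nat.mul_le_mul_right _ hW))
      rw [hLcard]
      exact Nat.mul_le_mul_right _ h5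
    nlinarith [Nat.mul_le_mul_right (Nat.card E * Nat.card E * Nat.card E) h4]
  · -- too large a centraliser
    have hacts : Acts R E (⊥ : Subgroup G) :=
      ⟨bot_le, fun e _ l hl => by rw [mem_bot.mp hl]; exact Commute.one_right e⟩
    have hE2 := h.multi_E_le_F2 hp hacts hF
    set T : Set G := {x | x ∈ ⁅rk R a, A⁆ ∧ ⁅x, k⁆ ∈ E} with hT
    have hr : ∀ x, ∃ r, x ∈ T → r ∈ Q ∧ ⁅r, q⁆ = ⁅x, k⁆ := by
      intro x
      by_cases hx : x ∈ T
      · obtain ⟨r, hr, hre⟩ := h.exists_comm hq hqE hx.2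
        exact ⟨r, fun _ => ⟨hr, by rw [h.comm_swap hq hr, hre]⟩⟩
      · exact ⟨1, fun hx' => absurd hx' hx⟩
    choose f hf using hr
    have hcv : ∀ x ∈ T, ∀ c ∈ L, f x * x * c ∈ R ⊓ centralizer {v} := by
      intro x hx c hc
      obtain ⟨hfQ, hfe⟩ := hf x hx
      have hxr := h.kk_le_rk hx.1
      refine ⟨R.mul_mem (R.mul_mem (h.shape.le hfQ) hxr.1) (h.shape.le (hLc hc).1),
        mem_centralizer_singleton_iff.mpr ?_⟩
      set e := ⁅x, k⁆ with he
      have e1 : f x * q = e * (q * f x) := by rw [← hfe, commutatorElement_def]; group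
      have e2 : x * k = e * (k * x) := by rw [he, commutatorElement_def]; group
      have h1 : Commute (f x * x) v := by
        rw [hvqk]
        calc f x * x * (q * k) = f x * (x * q) * k := by group
          _ = f x * q * (x * k) := by rw [(h.commute_rk hxr hq).eq]; group
          _ = e * (q * f x) * (e * (k * x)) := by rw [e1, e2]
          _ = e * e * (q * f x) * (k * x) := by
            rw [← mul_assoc _ e (k * x), mul_assoc e (q * f x) e,
              ← (h.shape.central e hx.2 _ (R.mul_mem (h.shape.le hq) (h.shape.le hfQ))).eq]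
            group
          _ = q * (f x * k) * x := by rw [h.shape.sq e hx.2]; group
          _ = q * k * (f x * x) := by rw [← (h.commute_rk hkr hfQ).eq]; group
      exact (h1.mul_left (by
        rw [hvqk]
        exact (hLc hc).2.symm.mul_right (h.commute_rk hkr (hLc hc).1).symm)).eq
    have h1 := card_mul_le_of_adjust h (T := T) (fun x hx => hx.1) (L := L) inf_le_left
      (fun x hx => (hf x hx).1) hcv
    have h2 := card_into_E h hE2 hk
    have h3 := h.torus.frattini_data.1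
    have h5 := h.multi_card hp hacts hF
    rw [hLcard] at h1
    rw [h.card_Q hQE] at hCv
    set n := Nat.card E with hn
    set N2 := Nat.card (nxt (nxt (rk R a) (rk R a)) (rk R a) : Subgroup G) with hN2
    set nT := Nat.card T with hnT
    have hN2p : 0 < N2 := Nat.card_pos
    have hT3 : n * (n * n) ≤ nT := by
      refine Nat.le_of_mul_le_mul_left ?_ hN2p
      refine le_trans ?_ h2
      rw [h3, show N2 * (n * (n * n)) = n * (n * N2) * n by ring]
      exact Nat.mul_le_mul_right _ (Nat.mul_le_mul_left _ h5)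
    have h7 : n * (n * n) * (n * n) ≤ 2 * (n * (n * n)) * n :=
      ((Nat.mul_le_mul_right _ hT3).trans h1).trans (Nat.mul_le_mul_right _ hCv)
    nlinarith [Nat.mul_le_mul_right (n * (n * n) * n) h4]

end Cfsg.Agent.H72.Asch
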