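import Cfsg.Agent.H72.Asch.Torus
import Cfsg.Agent.H29.Asch.ShapeExists

/-!
In a line with an element centralising exactly `E` in `Q` (unitary type) the `(q + 1)`-th power of an
element of the two-point stabiliser acts on `Q / E` as a scalar of the field of `q` elements, so it
moves every element of `Q` to one commuting with it.
-/

set_option autoImplicit false
set_option linter.unusedSectionVars false
set_option linter.style.haveILetI false

namespace Cfsg.Agent.H72.Asch

open MulAction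
open Cfsg.Agent.H36.RankOneU3
open scoped commutatorElement

universe u v

section Setup

variable {G : Type u} {Ω : Type v} [Group G] [Finite G] [MulAction G Ω] [FaithfulSMul G Ω] {a : Ω}
  {t : G} {Q : Subgroup G} {hS : Cfsg.IsRankOneSetup G Ω a t Q} {F : Type} [Field F] [Fintype F]
  [CharP F 2] {K : Type} [Field K] [Fintype K] [CharP K 2] {T : Torus a t Q F} {c : Q → K × K}
  (hc : Coords hS T c)
include hc

theorem om_fixed (r : F) : om T c r ^ Fintype.card F = om T c r := by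
  have h := hc.ok (zQ T r)
  rw [c_z hc] at h
  simp only [zero_mul, add_zero] at h
  exact (CharTwo.add_eq_zero.mp h).symm

/-- Elements whose first coordinates differ by a scalar fixed by the Frobenius commute. -/
theorem commute_of_fst {x y : Q} {r : K} (hr : r ^ Fintype.card F = r)
    (hy : (c y).1 = r * (c x).1) : Commute y x := by
  refine hc.inj ?_
  rw [hc.mul, hc.mul, hy, mul_pow, hr]
  exact Prod.ext (add_comm _ _) (by ring)

/-- The `(q + 1)`-th power of an element of the two-point stabiliser moves every element of `Q` to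
one commuting with it. -/
theorem scalar_commute (hgen : Subgroup.closure ((Q : Set G) ∪ {t}) = ⊤)
    (hV : (stabilizer G a ⊓ stabilizer G (t • a)) ⊓ Subgroup.centralizer {t} ≠ ⊥) {d : G}
    (hd : d ∈ stabilizer G a ⊓ stabilizer G (t • a)) (x : Q) :
    Commute (cQ hS (⟨d, hd.1⟩ ^ (Fintype.card F + 1)) x) x := by
  classical
  obtain ⟨hcyc, hW⟩ := unitary_torus hc hgen hV
  have hDcomm : ∀ d ∈ stabilizer G a ⊓ stabilizer G (t • a),
      ∀ e ∈ stabilizer G a ⊓ stabilizer G (t • a), Commute d e := fun d hd e he =>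
    congrArg Subtype.val (IsCyclic.isMulCommutative.is_comm.comm
      (⟨d, hd⟩ : ↥(stabilizer G a ⊓ stabilizer G (t • a))) ⟨e, he⟩)
  set dd : stabilizer G a := ⟨d, hd.1⟩ with hdd
  set δ := cQ hS dd with hδ
  -- the action on the central elements
  obtain ⟨l, hl⟩ := (mem_zSub T).mpr (show δ (zQ T 1) * δ (zQ T 1) = 1 by
    rw [← map_mul, (mem_zSub T).mp ⟨1, rfl⟩, map_one])
  have hz0 : zQ T (0 : F) = 1 := hc.inj (by rw [c_z hc, c_one hc, om_zero hc]; rfl)
  have hl0 : l ≠ 0 := fun e => zQ_ne hc (one_ne_zero (α := F))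
    (δ.injective (by rw [map_one, ← hl, e, hz0]))
  have hact : ∀ r : F, δ (zQ T r) = zQ T (l * r) := by
    intro r
    by_cases hr : r = 0
    · rw [hr, mul_zero, hz0, map_one]
    refine Subtype.ext ?_
    show d * T.ι r * d⁻¹ = T.ι (l * r)
    have h1 : T.κ (Units.mk0 r hr) * T.ι 1 * (T.κ (Units.mk0 r hr))⁻¹ = T.ι r := by
      rw [T.κ_conj, mul_one, Units.val_mk0]
    have h2 := T.κ_conj (Units.mk0 r hr) l
    rw [Units.val_mk0, mul_comm] at h2
    have hk := hDcomm d hd _ (T.κ_mem (Units.mk0 r hr))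
    have hl' : d * T.ι 1 * d⁻¹ = T.ι l := (congrArg Subtype.val hl).symm
    rw [← h1, ← h2, ← hl']
    calc d * (T.κ (Units.mk0 r hr) * T.ι 1 * (T.κ (Units.mk0 r hr))⁻¹) * d⁻¹
        = d * T.κ (Units.mk0 r hr) * T.ι 1 * (d * T.κ (Units.mk0 r hr))⁻¹ := by group
      _ = _ := by rw [hk.eq]; group
  -- a square root of the scalar
  obtain ⟨s, hs⟩ := FiniteField.isSquare_of_char_two (ringChar.eq F 2) l
  have hs0 : s ≠ 0 := fun e => hl0 (by rw [hs, e, zero_mul])
  set S := om T c s with hSdef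
  have hS0 : S ≠ 0 := om_ne hc hs0
  have hnorm : ∀ y : Q,
      (c (δ y)).1 * (c (δ y)).1 ^ Fintype.card F =
        S * S * ((c y).1 * (c y).1 ^ Fintype.card F) := by
    intro y
    obtain ⟨r, hr⟩ := (mem_zSub T).mpr ((fst_eq_zero_iff hc (y * y)).mp (by rw [c_sq hc]))
    have h1 : (c (δ (y * y))).2 = om T c (l * r) := by rw [← hr, hact]; rfl
    have h2 : (c (y * y)).2 = om T c r := by rw [← hr]; rfl
    rw [map_mul, c_sq hc, om_mul hc, hs, om_mul hc] at h1
    rw [c_sq hc] at h2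
    simp only at h1 h2
    rw [h1, h2]
  obtain ⟨m, hm, hcases⟩ := norm_cases hc.add_pow (pow_pow' hc) (fun y => (c y).1)
    (fun y => (c (δ y)).1 / S) (fst_mul hc) (fun y z => by rw [map_mul, fst_mul hc, add_div])
    fun y => by
      rw [div_pow, om_fixed hc, div_mul_div_comm, hnorm,
        mul_div_cancel_left₀ _ (mul_ne_zero hS0 hS0)]
  have hlin : ∀ y, (c (δ y)).1 = S * m * (c y).1 := by
    rcases hcases with h | h
    · intro y
      have := h y
      rw [div_eq_iff hS0] at this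
      linear_combination this
    exfalso
    obtain ⟨w, hw, hw1⟩ := (Subgroup.bot_or_exists_ne_one _).resolve_left hW
    obtain ⟨μ, hμ, hμx⟩ := exists_mult hc hw
    obtain ⟨y₀, hy₀⟩ := exists_fst_ne hc
    have hm0 : m ≠ 0 := left_ne_zero_of_mul (hm.trans_ne one_ne_zero)
    have hcomm : δ (cQ hS ⟨w, hw.1.1⟩ y₀) = cQ hS ⟨w, hw.1.1⟩ (δ y₀) := by
      rw [hδ, ← MulAut.mul_apply, ← MulAut.mul_apply, ← map_mul, ← map_mul,
        show dd * (⟨w, hw.1.1⟩ : stabilizer G a) = ⟨w, hw.1.1⟩ * dd from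
          Subtype.ext (hDcomm d hd w hw.1).eq]
    have h1 := h (cQ hS ⟨w, hw.1.1⟩ y₀)
    rw [hcomm, hμx, hμx, mul_div_assoc, h y₀, mul_pow] at h1
    have hμq : μ = μ ^ Fintype.card F := mul_right_cancel₀
      (mul_ne_zero hm0 (pow_ne_zero (Fintype.card F) hy₀)) (by linear_combination h1)
    have hμ1 : μ = 1 := by
      rw [← hμq] at hμ
      have h2 : (μ + 1) ^ 2 = 0 := by
        rw [CharTwo.add_sq, one_pow, sq, hμ, CharTwo.add_self_eq_zero]
      exact CharTwo.add_eq_zero.mp (pow_eq_zero_iff two_ne_zero |>.mp h2)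
    refine hw1 (eq_one_of_trivial hc hw.1
      (fun r => mul_inv_eq_iff_eq_mul.mpr (commute_ι hc hw r).eq) fun z => ?_)
    rw [hμx, hμ1, one_mul]
  have hpow : ∀ (n : ℕ) (y : Q), (c (cQ hS (dd ^ n) y)).1 = (S * m) ^ n * (c y).1 := by
    intro n
    induction n with
    | zero => intro y; rw [pow_zero, map_one, MulAut.one_apply, pow_zero, one_mul]
    | succ n ih => intro y; rw [pow_succ' dd, map_mul, MulAut.mul_apply, hlin, ih, pow_succ']; ring
  refine commute_of_fst hc ?_ (hpow _ x)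
  rw [pow_succ', mul_pow (S * m), pow_pow' hc, mul_comm]

end Setup

open Subgroup
open scoped Pointwise
open Cfsg.Agent.H39 (mul_self_of_orderOf_eq_two)
open Cfsg.Agent.H73.Bender
open Cfsg.Agent.H14.Asch
open Cfsg.Agent.H73.Asch (Line2)

variable {G : Type u} [Group G] [Finite G] {Ω : Type v} [MulAction G Ω] [Finite Ω] {D : Set G}

/-- The `(q + 1)`-th power of an element of the two-point stabiliser of a line of unitary type moves
every element of `Q` to one commuting with it. -/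
theorem scalar_pow (h : Crit G Ω D) {u : G} {x y : Ω} {E Q : Subgroup G} (hl : Line2 D u x E Q)
    (hy : u • y = y) (hyx : y ≠ x) {a₀ : G} (ha₀ : a₀ ∈ lineGroup D u ⊓ pairStab G x y)
    (ha₀E : ∀ e ∈ E, Commute a₀ e) (ha₀Q : ∀ q ∈ Q, Commute a₀ q → q ∈ E)
    (ha₀N : a₀ ∈ normalizer (Q : Set G)) {g : G}
    (hg : g ∈ lineGroup D u ⊓ pairStab G x y) (hgQ : g ∈ normalizer (Q : Set G)) :
    ∀ q ∈ Q, Commute (g ^ (Nat.card E + 1) * q * (g ^ (Nat.card E + 1))⁻¹) q := by
  classical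
  set n := g ^ (Nat.card E + 1) with hn
  intro q hq
  have hnq : n * q * n⁻¹ ∈ Q := (mem_normalizer_iff.mp (pow_mem hgQ _) q).mp hq
  by_cases hQE : Q ≤ E
  · exact (hl.central q (hQE hq) _ hnq).symm
  have hsp := H29.Asch.special_of_line2 h hl
  have hS := h.line hl.bad.1 hyx.symm hl.fix hy
  have hr := H4.Asch.rankTwo_lineGroup h hl.bad
  set a : fixedBy Ω u := ⟨x, hl.fix⟩
  set b : fixedBy Ω u := ⟨y, hy⟩
  obtain ⟨t, Qi, hI⟩ := exists_imageData h hr hS (a := a) (b := b)
    fun e => hyx (congrArg Subtype.val e).symm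
  -- `Q` is a lift
  obtain ⟨Q', hL'⟩ := exists_lift hI
  obtain ⟨k, hk, hkQ⟩ := hL'.sylow Q hl.isPGroup hl.Q_le
  obtain ⟨k', -, hk'⟩ := hl.sylow Q' hL'.isPGroup fun z hz => ⟨hL'.le hz, hL'.fix hI hz⟩
  have hcard : ∀ {g : G} {P : Subgroup G}, Nat.card (MulAut.conj g • P : Subgroup G) = Nat.card P :=
    fun {g P} => (Nat.card_congr (Subgroup.equivSMul (MulAut.conj g) P).toEquiv).symm
  have hQ : MulAut.conj (k : G) • Q' = Q :=
    (Subgroup.eq_of_le_of_card_ge hkQ (by
      rw [hcard]; exact (card_le_of_le hk').trans hcard.le)).symm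
  have hmem : ∀ z : G, z ∈ Q ↔ (k : G)⁻¹ * z * k ∈ Q' := fun z => by
    rw [← hQ, Subgroup.mem_pointwise_smul_iff_inv_smul_mem, ← map_inv, MulAut.smul_def,
      MulAut.conj_apply, inv_inv]
  have himg : ∀ z : lineGroup D u, imgHom hS (k⁻¹ * z * k) = imgHom hS z := fun z => by
    rw [map_mul, map_mul, map_inv, hk, inv_one, one_mul, mul_one]
  have hL : Lift hS a Qi Q :=
    { le := fun z hz => (hl.Q_le hz).1
      isPGroup := hl.isPGroup
      image := fun z hz => himg z ▸ hL'.image (k⁻¹ * z * k) ((hmem z).mp hz)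
      surj := fun z hz => by
        obtain ⟨z', hz', hzz⟩ := hL'.surj z hz
        refine ⟨k * z' * k⁻¹, (hmem _).mpr (by push_cast; simpa [mul_assoc] using hz'), ?_⟩
        rw [← himg, show k⁻¹ * (k * z' * k⁻¹) * k = z' by group, hzz]
      sylow := fun P hP hPle => by
        obtain ⟨j, hj, hjP⟩ := hL'.sylow P hP hPle
        refine ⟨j * k⁻¹, by rw [map_mul, map_inv, hk, hj, inv_one, mul_one], ?_⟩
        rw [Subgroup.coe_mul, Subgroup.coe_inv, map_mul, mul_smul, ← hQ, ← mul_smul (MulAut.conj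
          (k : G)⁻¹), ← map_mul, inv_mul_cancel, map_one, one_smul]
        exact hjP }
  have hE : ∀ z : G, z ∈ E ↔ z ∈ Q ∧ z * z = 1 :=
    fun z => ⟨fun hz => ⟨hl.E_le hz, hsp.two z hz⟩, fun hz => hsp.omega z hz.1 hz.2⟩
  -- the image is generated by `Qi` and `t`
  have hmem' := hI.mem_iff
  set I : Set (Image hS) :=
    imgHom hS '' ((lineGroup D u).subtype ⁻¹' (D ∩ (centralizer ({u} : Set G) : Set G)))
  have hIgen : closure I = ⊤ := by
    rw [← MonoidHom.map_closure, ← MonoidHom.range_eq_top.mpr (imgHom_surjective hS),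
      MonoidHom.range_eq_map]
    congr 1
    exact closure_closure_coe_preimage
  have hInv : ∀ i ∈ I, i * i = 1 := by
    rintro _ ⟨d, hd', rfl⟩
    rw [← map_mul, show d * d = 1 from Subtype.ext (mul_self_of_orderOf_eq_two (h.inv hd'.1)),
      map_one]
  haveI := faithful_image hS
  have hgen := closure_setup_eq_top hI.setup hIgen hInv
    (fun g hg hga => (hmem' g).mpr ⟨hga, 1, by rw [pow_one, sq, hg]⟩) (by
      rintro _ ⟨d, hd', rfl⟩
      obtain ⟨z, hz, hdz⟩ := hS.exists_fix d.2 (h.inv hd'.1)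
      exact ⟨⟨z, hz⟩, (imgHom_fix_iff hS d _).mpr hdz⟩)
  have h2 : ∃ x y : Image hS, x ≠ 1 ∧ y ≠ 1 ∧ x ≠ y ∧ x * x = 1 ∧ y * y = 1 ∧ x * y = y * x := by
    obtain ⟨s, hs, v, hv, hs2, hv2, hne, hc⟩ := rankTwo_image hS hr
    refine ⟨⟨s, hs⟩, ⟨v, hv⟩, fun e => ?_, fun e => ?_, fun e => hne (congrArg Subtype.val e),
      Subtype.ext (mul_self_of_orderOf_eq_two hs2), Subtype.ext (mul_self_of_orderOf_eq_two hv2),
      Subtype.ext hc.eq⟩
    · rw [show s = 1 from congrArg Subtype.val e, orderOf_one] at hs2; omega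
    · rw [show v = 1 from congrArg Subtype.val e, orderOf_one] at hv2; omega
  -- the image of the twist
  set w := imgHom hS ⟨a₀, ha₀.1⟩ with hwdef
  have hwD := image_mem_pair hI (m := ⟨a₀, ha₀.1⟩) ha₀.2
  have hwW : w ∈ fixI a t := by
    refine mem_fixI.mpr ⟨hwD, fun s hs => ?_⟩
    obtain ⟨e, he, rfl⟩ := exists_invol_lift hI hL hE hs
    exact Commute.map (show Commute (⟨a₀, ha₀.1⟩ : lineGroup D u) e from
      Subtype.ext (ha₀E _ he).eq) (imgHom hS)
  have hw1 : w ≠ 1 := by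
    intro hw
    refine hQE fun z hz => ha₀Q z hz ?_
    have hzL := (hl.Q_le hz).1
    set z' : lineGroup D u := ⟨z, hzL⟩
    have hnorm : a₀ * z * a₀⁻¹ ∈ Q := (mem_normalizer_iff.mp ha₀N z).mp hz
    have h1 := hL.eq_of_image_eq (g := z') (k := ⟨a₀, ha₀.1⟩ * z' * ⟨a₀, ha₀.1⟩⁻¹) hz hnorm (by
      rw [map_mul, map_mul, map_inv, ← hwdef, hw, inv_one, mul_one, one_mul])
    exact (mul_inv_eq_iff_eq_mul.mp (congrArg Subtype.val h1).symm)
  have hV : ¬ ∀ d ∈ stabilizer (Image hS) a ⊓ stabilizer (Image hS) (t • a),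
      d * t = t * d → d = 1 := by
    intro hV
    obtain ⟨x₀, _, hx₀Q, -, hx₀, -, -, hxx₀, -, -⟩ :=
      H91.RankOne.exists_four_in_stab hI.setup h2
    have hinv : w ∈ Cfsg.invertedBy (stabilizer (Image hS) a ⊓ stabilizer (Image hS) (t • a)) t :=
      ⟨hwD, by simpa [H38.t_inv hI.setup] using H91.RankOne.inverted hI.setup hV w hwD⟩
    have h' := S1128.result hI.setup h2 w hinv fun e => hw1 (Subgroup.mem_bot.mpr e)
    exact hx₀ (Subgroup.mem_bot.mp (h' ▸ ⟨hx₀Q, Subgroup.mem_centralizer_singleton_iff.mpr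
      ((mem_fixI.mp hwW).2 x₀ ⟨hI.setup.le hx₀Q, hx₀, hxx₀⟩).eq.symm⟩))
  have hVne : (stabilizer (Image hS) a ⊓ stabilizer (Image hS) (t • a)) ⊓
      Subgroup.centralizer {t} ≠ ⊥ := by
    intro h0
    exact hV fun d hd hdt => Subgroup.mem_bot.mp
      (h0 ▸ ⟨hd, Subgroup.mem_centralizer_singleton_iff.mpr hdt⟩)
  obtain ⟨F, K, _, _, _, _, _, _, T, c, hqI, hc⟩ := exists_coords hI.setup h2 hgen hVne
  have hcardF : Fintype.card F = Nat.card E := by
    rw [hqI]
    let f : {e : E // (e : G) ≠ 1} →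
        Cfsg.involutionsIn (stabilizer (Image hS) a : Set (Image hS)) := fun e =>
      ⟨imgHom hS ⟨e.1, hL.le (hl.E_le e.1.2)⟩,
        invol_of_mem hI hL hE (e := ⟨e.1, hL.le (hl.E_le e.1.2)⟩) e.1.2 e.2⟩
    have hf : Function.Bijective f := by
      refine ⟨fun e e' he => ?_, fun s => ?_⟩
      · exact Subtype.ext (Subtype.ext (congrArg Subtype.val (hL.eq_of_image_eq
          (g := ⟨e.1, hL.le (hl.E_le e.1.2)⟩) (k := ⟨e'.1, hL.le (hl.E_le e'.1.2)⟩)
          (hl.E_le e.1.2) (hl.E_le e'.1.2) (congrArg Subtype.val he)) :))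
      · obtain ⟨e, he, hes⟩ := exists_invol_lift hI hL hE s.2
        refine ⟨⟨⟨e, he⟩, fun h1 => s.2.2.1 ?_⟩, Subtype.ext hes⟩
        rw [← hes, show e = 1 from Subtype.ext h1, map_one]
    rw [← Nat.card_eq_of_bijective f hf]
    haveI := Fintype.ofFinite E
    rw [Nat.card_eq_fintype_card, Nat.card_eq_fintype_card,
      Fintype.card_congr (Equiv.subtypeEquivRight (p := fun e : E => (e : G) ≠ 1)
        (q := fun e : E => e ≠ 1) fun e => not_congr ⟨fun h => Subtype.ext h, fun h => congrArg Subtype.val h⟩), Fintype.card_subtype_compl,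
      Fintype.card_subtype_eq]
    have := Fintype.card_pos (α := E)
    omega
  -- transfer
  set g' : lineGroup D u := ⟨g, hg.1⟩ with hg'
  have hd := image_mem_pair hI (m := g') hg.2
  set q' : lineGroup D u := ⟨q, (hl.Q_le hq).1⟩ with hq'
  have hcomm := scalar_commute hc hgen hVne hd ⟨imgHom hS q', hL.image q' hq⟩
  rw [hcardF] at hcomm
  have h1 : imgHom hS (g' ^ (Nat.card E + 1) * q' * (g' ^ (Nat.card E + 1))⁻¹) * imgHom hS q' =
      imgHom hS q' * imgHom hS (g' ^ (Nat.card E + 1) * q' * (g' ^ (Nat.card E + 1))⁻¹) := by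
    rw [map_mul, map_mul, map_inv, map_pow]
    exact congrArg Subtype.val hcomm.eq
  have h3 := hL.eq_of_image_eq (g := g' ^ (Nat.card E + 1) * q' * (g' ^ (Nat.card E + 1))⁻¹ * q')
    (k := q' * (g' ^ (Nat.card E + 1) * q' * (g' ^ (Nat.card E + 1))⁻¹))
    (mul_mem hnq hq) (mul_mem hq hnq)
    (by rw [map_mul (imgHom hS) _ q', map_mul (imgHom hS) q' _]; exact h1)
  exact congrArg Subtype.val h3

end Cfsg.Agent.H72.Asch
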