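import Cfsg.Agent.H72.Asch.Torus

/-!
The Sylow 2-subgroup of a line is normalised by the point stabiliser of the line modulo the kernel,
and normalised by it when the kernel centralises it.
-/

set_option autoImplicit false
set_option linter.style.haveILetI false

namespace Cfsg.Agent.H72.Asch

open Subgroup MulAction
open Cfsg.Agent.H14.Asch
open Cfsg.Agent.H73.Asch (Line2)
open scoped Pointwise

universe u v

variable {G : Type u} [Group G] [Finite G] {Ω : Type v} [MulAction G Ω] [Finite Ω] {D : Set G}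
  {u : G} {x : Ω} {E Q : Subgroup G}

/-- Each 2-subgroup of the line at `x` lies in a conjugate of `Q` by an element of the kernel. -/
theorem exists_kernel_conj (h : Crit G Ω D) (hl : Line2 D u x E Q) {P : Subgroup G}
    (hP : IsPGroup 2 P) (hPle : P ≤ lineGroup D u ⊓ stabilizer G x) :
    ∃ k ∈ lineGroup D u, (∀ z : Ω, u • z = z → k • z = z) ∧ P ≤ MulAut.conj k • Q := by
  obtain ⟨hu2, ⟨p, q, hpq, hp, hq⟩, -⟩ := id hl.bad
  obtain ⟨y, hxy, hy⟩ : ∃ y, x ≠ y ∧ u • y = y := by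
    by_cases hxp : x = p
    · exact ⟨q, hxp ▸ hpq, hq⟩
    · exact ⟨p, hxp, hp⟩
  have hx := hl.fix
  have hS := h.line hu2 hxy hx hy
  obtain ⟨t, Qi, hI⟩ := exists_imageData h (H4.Asch.rankTwo_lineGroup h hl.bad) hS
    (a := ⟨x, hx⟩) (b := ⟨y, hy⟩) fun e => hxy (congrArg Subtype.val e)
  obtain ⟨Q₀, hL⟩ := exists_lift hI
  -- `Q` itself is a kernel conjugate of `Q₀`
  obtain ⟨g, -, hg⟩ := hl.sylow Q₀ hL.isPGroup fun z hz => ⟨hL.le hz, hL.fix hI hz⟩
  obtain ⟨k₁, hk₁, hQk₁⟩ := hL.sylow Q hl.isPGroup hl.Q_le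
  have hQeq : Q = MulAut.conj (k₁ : G) • Q₀ := by
    refine Subgroup.eq_of_le_of_card_ge hQk₁ ?_
    have h1 := Subgroup.card_le_of_le hg
    rw [Nat.card_congr (Subgroup.equivSMul _ Q).toEquiv.symm] at h1
    rw [Nat.card_congr (Subgroup.equivSMul _ Q₀).toEquiv.symm]
    exact h1
  obtain ⟨k, hk, hPk⟩ := hL.sylow P hP hPle
  refine ⟨(k * k₁⁻¹ : lineGroup D u), (k * k₁⁻¹).2, fun z hz => imgHom_eq_one_smul hS
    (by rw [map_mul, map_inv, hk, hk₁, inv_one, one_mul]) hz, ?_⟩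
  rw [hQeq, smul_smul, ← map_mul, show ((k * k₁⁻¹ : lineGroup D u) : G) * k₁ = k from
    inv_mul_cancel_right (k : G) (k₁ : G)]
  exact hPk

/-- If the kernel of the line centralises `Q`, the point stabiliser of the line normalises `Q`. -/
theorem conj_mem_of_kernel_central (h : Crit G Ω D) (hl : Line2 D u x E Q)
    (hc : ∀ k ∈ lineGroup D u, (∀ z : Ω, u • z = z → k • z = z) → ∀ q ∈ Q, Commute k q)
    {g : G} (hg : g ∈ lineGroup D u ⊓ stabilizer G x) {q : G} (hq : q ∈ Q) :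
    g * q * g⁻¹ ∈ Q := by
  obtain ⟨k, hk, hkfix, hkQ⟩ := exists_kernel_conj h hl (P := MulAut.conj g • Q)
    (hl.isPGroup.of_equiv (Subgroup.equivSMul (MulAut.conj g) Q)) (by
      intro z hz
      obtain ⟨w, hw, rfl⟩ := hz
      exact (lineGroup D u ⊓ stabilizer G x).mul_mem
        ((lineGroup D u ⊓ stabilizer G x).mul_mem hg (hl.Q_le hw))
        ((lineGroup D u ⊓ stabilizer G x).inv_mem hg))
  have h1 := hkQ (Subgroup.smul_mem_pointwise_smul q (MulAut.conj g) Q hq)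
  rw [Subgroup.mem_pointwise_smul_iff_inv_smul_mem, ← map_inv, MulAut.smul_def, MulAut.smul_def,
    MulAut.conj_apply, MulAut.conj_apply, inv_inv] at h1
  have h2 := hc k hk hkfix _ h1
  rwa [show g * q * g⁻¹ = k * (k⁻¹ * (g * q * g⁻¹) * k) * k⁻¹ by group, h2.eq,
    mul_inv_cancel_right]

end Cfsg.Agent.H72.Asch
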