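import Cfsg.Agent.Coprime.Action
import Mathlib.GroupTheory.SpecificGroups.Cyclic
import Mathlib.GroupTheory.Perm.Cycle.Type
import Mathlib.GroupTheory.Nilpotent

/-!
Lifting a cyclic group through a kernel of odd order compatibly with a 2-group `T`: if `T` acts
trivially on `H / W` and by `1` or `-1` on `W`, some cyclic subgroup normalised by `T` covers `H / W`
and meets the preimage of `W` outside the kernel.
-/

set_option autoImplicit false
set_option linter.style.haveILetI false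

namespace Cfsg.Agent.H72.Asch

open Subgroup

universe u v

variable {G : Type u} [Group G] {H : Type v} [CommGroup H]

/-- The part of `M` over `W`. -/
def partOver (M : Subgroup G) (θ : M →* H) (W : Subgroup H) : Subgroup G :=
  (W.comap θ).map M.subtype

theorem mem_partOver {M : Subgroup G} {θ : M →* H} {W : Subgroup H} {g : G} :
    g ∈ partOver M θ W ↔ ∃ hg : g ∈ M, θ ⟨g, hg⟩ ∈ W := by
  constructor
  · rintro ⟨m, hm, rfl⟩
    exact ⟨m.2, hm⟩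
  · rintro ⟨hg, h⟩
    exact ⟨⟨g, hg⟩, h, rfl⟩

theorem partOver_le (M : Subgroup G) (θ : M →* H) (W : Subgroup H) : partOver M θ W ≤ M :=
  map_subtype_le _

theorem le_normalizer_partOver (M : Subgroup G) (θ : M →* H) (W : Subgroup H) :
    M ≤ normalizer (partOver M θ W : Set G) := by
  refine Subgroup.le_normalizer_iff.mpr fun m hm g hg => ?_
  obtain ⟨hgM, hgW⟩ := mem_partOver.mp hg
  refine mem_partOver.mpr ⟨mul_mem (mul_mem hm hgM) (inv_mem hm), ?_⟩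
  have h : θ (⟨m, hm⟩ * ⟨g, hgM⟩ * ⟨m, hm⟩⁻¹) ∈ W := by
    rw [map_mul, map_mul, map_inv, mul_inv_cancel_comm]
    exact hgW
  exact h

/-- An element of order `r` of a cyclic group lies in each subgroup with an element of order `r`. -/
theorem mem_of_orderOf_eq [Finite H] [IsCyclic H] {r : ℕ} (hr : 0 < r) {x w : H}
    (hx : orderOf x = r) (hw : orderOf w = r) : x ∈ zpowers w := by
  classical
  haveI := Fintype.ofFinite H
  set s := Finset.univ.filter fun a : H => a ^ r = 1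
  set p := Finset.univ.filter fun a : H => a ∈ zpowers w
  have hsub : p ⊆ s := fun a ha => by
    simp only [p, s, Finset.mem_filter, Finset.mem_univ, true_and] at ha ⊢
    exact orderOf_dvd_iff_pow_eq_one.mp (hw ▸ orderOf_dvd_of_mem_zpowers ha)
  have hp : p.card = r := by
    rw [← hw, ← Nat.card_zpowers, Nat.card_eq_fintype_card, Fintype.card_subtype]
  have heq : p = s := Finset.eq_of_subset_of_card_le hsub
    (hp ▸ IsCyclic.card_pow_eq_one_le hr)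
  have hxs : x ∈ s := by
    simp only [s, Finset.mem_filter, Finset.mem_univ, true_and]
    rw [← hx, pow_orderOf_eq_one]
  rw [← heq] at hxs
  simpa [p] using hxs

variable [Finite G]

/-- The lifting lemma. -/
theorem exists_cyclic_lift [IsCyclic H] {M T : Subgroup G} (hModd : Odd (Nat.card M))
    (hT : IsPGroup 2 T) (θ : M →* H) (hθ : Function.Surjective θ) (W : Subgroup H)
    (hTM : ∀ σ ∈ T, ∀ m : M, σ * (m : G) * σ⁻¹ ∈ M)
    (hker : ∀ σ (hσ : σ ∈ T) (m : M), θ m = 1 → θ ⟨_, hTM σ hσ m⟩ = 1)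
    (hquot : ∀ σ (hσ : σ ∈ T) (m : M), θ ⟨_, hTM σ hσ m⟩ * (θ m)⁻¹ ∈ W)
    (hsplit : ∀ σ (hσ : σ ∈ T), (∀ m : M, θ m ∈ W → θ ⟨_, hTM σ hσ m⟩ = θ m) ∨
      ∀ m : M, θ m ∈ W → θ ⟨_, hTM σ hσ m⟩ = (θ m)⁻¹) :
    ∃ A : Subgroup G, A ≤ M ∧ IsCyclic A ∧ T ≤ normalizer (A : Set G) ∧
      (∀ m : M, ∃ a : M, (a : G) ∈ A ∧ θ a * (θ m)⁻¹ ∈ W) ∧
      (W ≠ ⊥ → ∃ a : M, (a : G) ∈ A ∧ θ a ∈ W ∧ θ a ≠ 1) := by
  classical
  haveI : Finite H := Finite.of_surjective θ hθ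
  haveI : Fact (Nat.Prime 2) := ⟨Nat.prime_two⟩
  have hTnil : Group.IsNilpotent T := hT.isNilpotent
  have hsolv : ∀ U : Subgroup G, U ≤ T → Group.IsSolvable U := fun U hU =>
    haveI : Group.IsNilpotent U := (hT.to_le hU).isNilpotent
    inferInstance
  have hcop : ∀ U : Subgroup G, U ≤ T → ∀ K : Subgroup G, K ≤ M →
      (Nat.card U).Coprime (Nat.card K) := by
    intro U hU K hK
    obtain ⟨n, hn⟩ := IsPGroup.iff_card.mp (hT.to_le hU)
    rw [hn]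
    exact ((hModd.of_dvd_nat (card_dvd_of_le hK)).coprime_two_left).pow_left n
  -- the action of an element on the image depends only on the image
  have hwd : ∀ σ (hσ : σ ∈ T) (a b : M), θ a = θ b →
      θ ⟨_, hTM σ hσ a⟩ = θ ⟨_, hTM σ hσ b⟩ := by
    intro σ hσ a b hab
    have h := hker σ hσ (a⁻¹ * b) (by rw [map_mul, map_inv, hab, inv_mul_cancel])
    have e : (⟨_, hTM σ hσ (a⁻¹ * b)⟩ : M) =
        (⟨_, hTM σ hσ a⟩ : M)⁻¹ * ⟨_, hTM σ hσ b⟩ := Subtype.ext (by simp [mul_assoc])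
    rwa [e, map_mul, map_inv, inv_mul_eq_one] at h
  have hact_mul : ∀ σ (hσ : σ ∈ T) (a b : M),
      θ ⟨_, hTM σ hσ (a * b)⟩ = θ ⟨_, hTM σ hσ a⟩ * θ ⟨_, hTM σ hσ b⟩ := by
    intro σ hσ a b
    rw [← map_mul]
    exact congrArg θ (Subtype.ext (by simp [mul_assoc]))
  have hTMn : T ≤ normalizer (M : Set G) :=
    Subgroup.le_normalizer_iff.mpr fun σ hσ m hm => hTM σ hσ ⟨m, hm⟩
  have hWn : T ≤ normalizer (partOver M θ W : Set G) := by
    refine Subgroup.le_normalizer_iff.mpr fun σ hσ m hm => ?_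
    obtain ⟨hmM, hmW⟩ := mem_partOver.mp hm
    refine mem_partOver.mpr ⟨hTM σ hσ ⟨m, hmM⟩, ?_⟩
    have h := mul_mem (hquot σ hσ ⟨m, hmM⟩) hmW
    rwa [inv_mul_cancel_right] at h
  have hKn : T ≤ normalizer (partOver M θ ⊥ : Set G) := by
    refine Subgroup.le_normalizer_iff.mpr fun σ hσ m hm => ?_
    obtain ⟨hmM, hm1⟩ := mem_partOver.mp hm
    exact mem_partOver.mpr ⟨hTM σ hσ ⟨m, hmM⟩,
      Subgroup.mem_bot.mpr (hker σ hσ ⟨m, hmM⟩ (Subgroup.mem_bot.mp hm1))⟩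
  -- fixed elements cover the quotient by `W`
  have hfixW : ∀ U : Subgroup G, U ≤ T → ∀ m : M,
      ∃ c : M, (∀ σ ∈ U, σ * (c : G) * σ⁻¹ = c) ∧ θ c * (θ m)⁻¹ ∈ W := by
    intro U hU m
    obtain ⟨c, hc, hcm⟩ := Coprime.exists_centralizer_mem_of_comm_mem (hU.trans hTMn)
      (hcop U hU M le_rfl) (Or.inl (hsolv U hU)) (partOver_le M θ W) (le_normalizer_partOver M θ W)
      (hU.trans hWn) m.2 fun σ hσ => mem_partOver.mpr
        ⟨mul_mem (hTM σ (hU hσ) m) (inv_mem m.2), by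
          have h := hquot σ (hU hσ) m
          rw [← map_inv, ← map_mul] at h
          exact h⟩
    refine ⟨⟨c, hc.1⟩, fun σ hσ => Coprime.conj_eq_of_mem_centralizer hc.2 hσ, ?_⟩
    obtain ⟨h1, h2⟩ := mem_partOver.mp hcm
    rw [show (⟨(m : G)⁻¹ * c, h1⟩ : M) = m⁻¹ * ⟨c, hc.1⟩ from rfl, map_mul, map_inv,
      mul_comm] at h2
    exact h2
  -- elements acting trivially on `W` act trivially on the image, and fixed elements cover it
  have hfix : ∀ U : Subgroup G, ∀ hU : U ≤ T,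
      (∀ σ (hσ : σ ∈ U), ∀ m : M, θ m ∈ W → θ ⟨_, hTM σ (hU hσ) m⟩ = θ m) → ∀ m : M,
      ∃ c : M, (∀ σ ∈ U, σ * (c : G) * σ⁻¹ = c) ∧ θ c = θ m := by
    intro U hU htriv m
    have hall : ∀ σ (hσ : σ ∈ U), θ ⟨_, hTM σ (hU hσ) m⟩ = θ m := by
      intro σ hσ
      obtain ⟨c, hc, hcm⟩ := hfixW U hU m
      have hw : θ (c⁻¹ * m) ∈ W := by
        rw [map_mul, map_inv]
        simpa [mul_comm] using inv_mem hcm
      have h := hact_mul σ (hU hσ) c (c⁻¹ * m)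
      rw [htriv σ hσ _ hw, ← hwd σ (hU hσ) m (c * (c⁻¹ * m)) (by rw [mul_inv_cancel_left]),
        show (⟨_, hTM σ (hU hσ) c⟩ : M) = c from Subtype.ext (hc σ hσ), ← map_mul,
        mul_inv_cancel_left] at h
      exact h
    obtain ⟨c, hc, hcm⟩ := Coprime.exists_centralizer_mem_of_comm_mem (hU.trans hTMn)
      (hcop U hU M le_rfl) (Or.inl (hsolv U hU)) (partOver_le M θ ⊥) (le_normalizer_partOver M θ ⊥)
      (hU.trans hKn) m.2 fun σ hσ => mem_partOver.mpr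
        ⟨mul_mem (hTM σ (hU hσ) m) (inv_mem m.2), by
          rw [Subgroup.mem_bot]
          have h := hall σ hσ
          rw [← mul_inv_eq_one, ← map_inv, ← map_mul] at h
          exact h⟩
    refine ⟨⟨c, hc.1⟩, fun σ hσ => Coprime.conj_eq_of_mem_centralizer hc.2 hσ, ?_⟩
    obtain ⟨h1, h2⟩ := mem_partOver.mp hcm
    rw [show (⟨(m : G)⁻¹ * c, h1⟩ : M) = m⁻¹ * ⟨c, hc.1⟩ from rfl, map_mul, map_inv,
      Subgroup.mem_bot, inv_mul_eq_one] at h2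
    exact h2.symm
  obtain ⟨h₀, hh₀⟩ := IsCyclic.exists_zpow_surjective (G := H)
  obtain ⟨g, rfl⟩ := hθ h₀
  by_cases htriv : ∀ σ (hσ : σ ∈ T), ∀ m : M, θ m ∈ W → θ ⟨_, hTM σ hσ m⟩ = θ m
  · -- everything is fixed
    obtain ⟨c, hc, hcg⟩ := hfix T le_rfl htriv g
    have hsurj : ∀ h : H, ∃ a : M, (a : G) ∈ zpowers (c : G) ∧ θ a = h := fun h => by
      obtain ⟨k, hk⟩ := hh₀ h
      exact ⟨c ^ k, ⟨k, rfl⟩, by rw [map_zpow, hcg]; exact hk⟩
    refine ⟨zpowers (c : G), zpowers_le.mpr c.2, inferInstance, ?_, fun m => ?_, fun hW => ?_⟩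
    · refine Subgroup.le_normalizer_iff.mpr fun σ hσ a ha => ?_
      obtain ⟨k, rfl⟩ := ha
      exact ⟨k, by simp only [← conj_zpow, hc σ hσ]⟩
    · obtain ⟨a, ha, ham⟩ := hsurj (θ m)
      exact ⟨a, ha, by rw [ham, mul_inv_cancel]; exact one_mem W⟩
    · obtain ⟨w, hw, hw1⟩ := (Subgroup.ne_bot_iff_exists_ne_one.mp hW : ∃ w : W, w ≠ 1).imp
        (fun w hw => ⟨w.2, fun e => hw (Subtype.ext e)⟩ : ∀ w : W, w ≠ 1 → (w : H) ∈ W ∧ (w : H) ≠ 1)
      obtain ⟨a, ha, haw⟩ := hsurj w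
      exact ⟨a, ha, haw ▸ hw, haw ▸ hw1⟩
  -- some element inverts `W`
  push Not at htriv
  obtain ⟨τ, hτ, w₁, hw₁, hτw⟩ := htriv
  have hτinv : ∀ m : M, θ m ∈ W → θ ⟨_, hTM τ hτ m⟩ = (θ m)⁻¹ :=
    (hsplit τ hτ).resolve_left fun h => hτw (h w₁ hw₁)
  let T₀ : Subgroup G :=
    { carrier := {σ | ∃ hσ : σ ∈ T, ∀ m : M, θ m ∈ W → θ ⟨_, hTM σ hσ m⟩ = θ m}
      one_mem' := ⟨one_mem T, fun m _ => congrArg θ (Subtype.ext (by simp))⟩
      mul_mem' := by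
        rintro a b ⟨ha, ha'⟩ ⟨hb, hb'⟩
        refine ⟨mul_mem ha hb, fun m hm => ?_⟩
        have h1 := hb' m hm
        have h2 := ha' ⟨_, hTM b hb m⟩ (h1.symm ▸ hm)
        rw [← h1, ← h2]
        exact congrArg θ (Subtype.ext (by simp [mul_assoc]))
      inv_mem' := by
        rintro a ⟨ha, ha'⟩
        refine ⟨inv_mem ha, fun m hm => ?_⟩
        have hx : θ ⟨_, hTM a⁻¹ (inv_mem ha) m⟩ ∈ W := by
          have h := mul_mem (hquot a⁻¹ (inv_mem ha) m) hm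
          rwa [inv_mul_cancel_right] at h
        rw [← ha' _ hx]
        exact congrArg θ (Subtype.ext (by simp [mul_assoc])) }
  have hT₀ : T₀ ≤ T := fun σ hσ => hσ.1
  have hinvs : ∀ σ (hσ : σ ∈ T), σ ∉ T₀ → ∀ m : M, θ m ∈ W → θ ⟨_, hTM σ hσ m⟩ = (θ m)⁻¹ :=
    fun σ hσ h => (hsplit σ hσ).resolve_left fun h' => h ⟨hσ, h'⟩
  have hτ₀ : τ ∉ T₀ := fun h => hτw (h.2 w₁ hw₁)
  have hcoset : ∀ σ ∈ T, σ ∉ T₀ → τ⁻¹ * σ ∈ T₀ := by
    intro σ hσ hσ₀
    refine ⟨mul_mem (inv_mem hτ) hσ, fun m hm => ?_⟩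
    have h1 := hinvs σ hσ hσ₀ m hm
    have hinv' : τ⁻¹ ∉ T₀ := fun h => hτ₀ (inv_mem_iff.mp h)
    have h2 := hinvs τ⁻¹ (inv_mem hτ) hinv' ⟨_, hTM σ hσ m⟩ (h1.symm ▸ inv_mem hm)
    rw [← inv_inv (θ m), ← h1, ← h2]
    exact congrArg θ (Subtype.ext (by simp [mul_assoc]))
  have hτsq : τ * τ ∈ T₀ := by
    refine ⟨mul_mem hτ hτ, fun m hm => ?_⟩
    have h2 := hinvs τ hτ hτ₀ ⟨_, hTM τ hτ m⟩ ((hτinv m hm).symm ▸ inv_mem hm)
    rw [← inv_inv (θ m), ← hτinv m hm, ← h2]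
    exact congrArg θ (Subtype.ext (by simp [mul_assoc]))
  have hT₀n : ∀ σ ∈ T, ∀ τ' ∈ T₀, σ * τ' * σ⁻¹ ∈ T₀ := by
    intro σ hσ τ' hτ'
    refine ⟨mul_mem (mul_mem hσ hτ'.1) (inv_mem hσ), fun m hm => ?_⟩
    have hx : θ ⟨_, hTM σ⁻¹ (inv_mem hσ) m⟩ ∈ W := by
      have h := mul_mem (hquot σ⁻¹ (inv_mem hσ) m) hm
      rwa [inv_mul_cancel_right] at h
    have h1 := hwd σ hσ _ _ (hτ'.2 _ hx)
    rw [show (⟨_, hTM σ hσ ⟨_, hTM σ⁻¹ (inv_mem hσ) m⟩⟩ : M) = m from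
      Subtype.ext (by simp [mul_assoc])] at h1
    rw [← h1]
    exact congrArg θ (Subtype.ext (by simp [mul_assoc]))
  -- the fixed points of `T₀`
  set N : Subgroup G := M ⊓ centralizer (T₀ : Set G) with hN
  have hNM : N ≤ M := inf_le_left
  set WN : Subgroup G := partOver M θ W ⊓ centralizer (T₀ : Set G) with hWN
  have hWNM : WN ≤ M := inf_le_left.trans (partOver_le M θ W)
  have hcentn : T ≤ normalizer (centralizer (T₀ : Set G) : Set G) := by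
    refine Subgroup.le_normalizer_iff.mpr fun σ hσ m hm => mem_centralizer_iff.mpr fun τ' hτ' => ?_
    have h := mem_centralizer_iff.mp hm (σ⁻¹ * τ' * σ) (by
      simpa using hT₀n σ⁻¹ (inv_mem hσ) τ' hτ')
    calc τ' * (σ * m * σ⁻¹) = σ * ((σ⁻¹ * τ' * σ) * m) * σ⁻¹ := by group
      _ = σ * (m * (σ⁻¹ * τ' * σ)) * σ⁻¹ := by rw [h]
      _ = σ * m * σ⁻¹ * τ' := by group
  have hWNn : T ≤ normalizer (WN : Set G) := Subgroup.le_normalizer_iff.mpr fun σ hσ m hm =>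
    ⟨Coprime.conj_mem (hWn hσ) hm.1, Coprime.conj_mem (hcentn hσ) hm.2⟩
  -- a prime of `W`
  have hW : W ≠ ⊥ := by
    intro h
    refine hτw ?_
    have h1 : θ w₁ = 1 := Subgroup.mem_bot.mp (h ▸ hw₁)
    rw [hτinv w₁ hw₁, h1, inv_one]
  have hWcard : 1 < Nat.card W := (Subgroup.one_lt_card_iff_ne_bot W).mpr hW
  set r := (Nat.card W).minFac with hr_def
  haveI hr : Fact r.Prime := ⟨Nat.minFac_prime hWcard.ne'⟩
  have hHodd : Odd (Nat.card H) := hModd.of_dvd_nat (Subgroup.card_dvd_of_surjective θ hθ)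
  have hrodd : Odd r :=
    hHodd.of_dvd_nat ((Nat.minFac_dvd _).trans (Subgroup.card_subgroup_dvd_card W))
  have hr2 : r ≠ 2 := fun h => by rw [h] at hrodd; exact absurd hrodd (by decide)
  obtain ⟨⟨w₀, hw₀W⟩, hw₀⟩ := exists_prime_orderOf_dvd_card' r (Nat.minFac_dvd (Nat.card W))
  have hw₀r : orderOf w₀ = r := by rw [← Subgroup.orderOf_coe] at hw₀; exact hw₀
  -- an invariant Sylow subgroup over `W`
  obtain ⟨P, hP⟩ := Coprime.exists_invariant_sylow hWNn (hcop T le_rfl WN hWNM)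
    (Or.inl (hsolv T le_rfl)) r
  set R : Subgroup G := (P : Subgroup WN).map WN.subtype with hR
  have hRW : R ≤ WN := map_subtype_le _
  have hRM : R ≤ M := hRW.trans hWNM
  -- an element of `R` over `w₀`
  obtain ⟨x₀, hx₀R, hx₀⟩ : ∃ x : M, (x : G) ∈ R ∧ θ x ∈ W ∧ θ x ≠ 1 := by
    obtain ⟨m, hm⟩ := hθ w₀
    obtain ⟨c, hc, hcm⟩ := hfix T₀ hT₀ (fun σ hσ => hσ.2) m
    have hcWN : (c : G) ∈ WN := ⟨mem_partOver.mpr ⟨c.2, hcm.trans hm ▸ hw₀W⟩,
      mem_centralizer_iff.mpr fun σ hσ => mul_inv_eq_iff_eq_mul.mp (hc σ hσ)⟩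
    set n : WN := ⟨c, hcWN⟩
    set e := (orderOf n).factorization r
    set s := orderOf n / r ^ e
    have hs : ¬ r ∣ s := Nat.not_dvd_ordCompl hr.out (orderOf_pos n).ne'
    have hy : IsPGroup r (zpowers (n ^ s)) := by
      refine IsPGroup.of_card (n := e) ?_
      rw [Nat.card_zpowers, orderOf_pow, Nat.gcd_eq_right (Nat.ordCompl_dvd _ _)]
      exact Nat.div_div_self (Nat.ordProj_dvd _ _) (orderOf_pos n).ne'
    obtain ⟨Q, hQ⟩ := hy.exists_le_sylow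
    obtain ⟨k, rfl⟩ := MulAction.exists_smul_eq WN P Q
    have hk : k⁻¹ * n ^ s * k ∈ (P : Subgroup WN) := by
      have := hQ (mem_zpowers _)
      rwa [Sylow.coe_subgroup_smul, Subgroup.mem_pointwise_smul_iff_inv_smul_mem,
        ← map_inv, MulAut.smul_def, MulAut.conj_apply, inv_inv] at this
    refine ⟨⟨_, hWNM (k⁻¹ * n ^ s * k).2⟩, ⟨_, hk, rfl⟩, ?_⟩
    let ι : WN →* M := Subgroup.inclusion hWNM
    change θ (ι (k⁻¹ * n ^ s * k)) ∈ W ∧ θ (ι (k⁻¹ * n ^ s * k)) ≠ 1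
    have hval : θ (ι (k⁻¹ * n ^ s * k)) = w₀ ^ s := by
      rw [map_mul, map_mul, map_mul, map_mul, map_inv, map_inv, map_pow, map_pow,
        show ι n = c from rfl, hcm, hm, mul_comm _ (w₀ ^ s), mul_assoc, inv_mul_cancel, mul_one]
    rw [hval]
    refine ⟨pow_mem hw₀W s, fun h => hs ?_⟩
    rw [← hw₀r]
    exact orderOf_dvd_of_pow_eq_one h
  -- a fixed element covering the quotient and normalising `R`
  obtain ⟨c₁, hc₁, hc₁g⟩ := hfixW T le_rfl g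
  obtain ⟨c, hc, hcR, hcg⟩ : ∃ c : M, (∀ σ ∈ T, σ * (c : G) * σ⁻¹ = c) ∧
      (c : G) ∈ normalizer (R : Set G) ∧ θ c * (θ g)⁻¹ ∈ W := by
    have hc₁WN : (c₁ : G) ∈ normalizer (WN : Set G) := by
      have hcom : ∀ σ ∈ T₀, σ * (c₁ : G) = c₁ * σ := fun σ hσ =>
        mul_inv_eq_iff_eq_mul.mp (hc₁ σ (hT₀ hσ))
      have hcC : (c₁ : G) ∈ centralizer (T₀ : Set G) := mem_centralizer_iff.mpr hcom
      have : ∀ a ∈ M ⊓ centralizer (T₀ : Set G), ∀ m ∈ WN, a * m * a⁻¹ ∈ WN :=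
        fun a ha m hm => ⟨Coprime.conj_mem (le_normalizer_partOver M θ W ha.1) hm.1,
          (centralizer (T₀ : Set G)).mul_mem ((centralizer (T₀ : Set G)).mul_mem ha.2 hm.2)
            ((centralizer (T₀ : Set G)).inv_mem ha.2)⟩
      exact Subgroup.le_normalizer_iff.mpr this ⟨c₁.2, hcC⟩
    set V := R.map (MulAut.conj (c₁ : G)).toMonoidHom with hV
    have hVn : T ≤ normalizer (V : Set G) := by
      refine Subgroup.le_normalizer_iff.mpr fun σ hσ z hz => ?_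
      obtain ⟨z', hz', rfl⟩ := hz
      refine ⟨σ * z' * σ⁻¹, Coprime.conj_mem (hP hσ) hz', ?_⟩
      show (c₁ : G) * (σ * z' * σ⁻¹) * (c₁ : G)⁻¹ = σ * ((c₁ : G) * z' * (c₁ : G)⁻¹) * σ⁻¹
      have h1 : σ * (c₁ : G) = c₁ * σ := mul_inv_eq_iff_eq_mul.mp (hc₁ σ hσ)
      calc (c₁ : G) * (σ * z' * σ⁻¹) * (c₁ : G)⁻¹ = c₁ * σ * z' * ((c₁ : G) * σ)⁻¹ := by group
        _ = σ * c₁ * z' * (σ * c₁)⁻¹ := by rw [h1]
        _ = σ * ((c₁ : G) * z' * (c₁ : G)⁻¹) * σ⁻¹ := by group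
    have hVWN : V ≤ WN := by
      rintro _ ⟨z, hz, rfl⟩
      exact Coprime.conj_mem hc₁WN (hRW hz)
    obtain ⟨k, hk⟩ : ∃ k ∈ WN, V.map (MulAut.conj k).toMonoidHom = R := by
      have hcard : Nat.card (V.subgroupOf WN) = r ^ (Nat.card WN).factorization r := by
        rw [Nat.card_congr (subgroupOfEquivOfLe hVWN).toEquiv, hV, Coprime.card_map_conj, hR,
          Subgroup.card_map_of_injective WN.subtype_injective]
        exact P.card_eq_multiplicity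
      obtain ⟨k, hk⟩ := MulAction.exists_smul_eq WN (Sylow.ofCard (V.subgroupOf WN) hcard) P
      refine ⟨k, k.2, ?_⟩
      have h := congrArg (fun S : Sylow r WN => (S : Subgroup WN).map WN.subtype) hk
      rw [hR, ← h, Sylow.coe_subgroup_smul, Sylow.coe_ofCard]
      conv_lhs => rw [← map_subgroupOf_eq_of_le hVWN, Subgroup.map_map]
      show _ = ((V.subgroupOf WN).map (MulAut.conj k).toMonoidHom).map WN.subtype
      rw [Subgroup.map_map]
      rfl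
    obtain ⟨d, hd, hdV⟩ := Coprime.exists_centralizer_conj hWNn (hcop T le_rfl WN hWNM)
      (Or.inl (hsolv T le_rfl)) hVn hP hk.1 hk.2
    refine ⟨⟨d, hWNM hd.1⟩ * c₁, fun σ hσ => ?_, ?_, ?_⟩
    · show σ * (d * (c₁ : G)) * σ⁻¹ = d * c₁
      calc σ * (d * (c₁ : G)) * σ⁻¹ = σ * d * σ⁻¹ * (σ * (c₁ : G) * σ⁻¹) := by group
        _ = _ := by rw [hc₁ σ hσ, Coprime.conj_eq_of_mem_centralizer hd.2 hσ]
    · refine Coprime.mem_normalizer_of_map_conj ?_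
      show R.map (MulAut.conj (d * (c₁ : G))).toMonoidHom = R
      rw [← Coprime.map_conj_map_conj]
      exact hdV
    · obtain ⟨_, hdW⟩ := mem_partOver.mp hd.1.1
      rw [map_mul, mul_assoc]
      exact mul_mem hdW hc₁g
  -- remove the `r`-part
  have hc_ord : ¬ r ∣ orderOf (θ c) := by
    intro hdvd
    set y := θ c ^ (orderOf (θ c) / r) with hy
    have hyr : orderOf y = r := by
      rw [hy, orderOf_pow, Nat.gcd_eq_right (Nat.div_dvd_of_dvd hdvd),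
        Nat.div_div_self hdvd (orderOf_pos _).ne']
    have hyW : y ∈ W := zpowers_le.mpr hw₀W (mem_of_orderOf_eq hr.out.pos hyr hw₀r)
    have hyfix : θ ⟨_, hTM τ hτ (c ^ (orderOf (θ c) / r))⟩ = y := by
      rw [hy, ← map_pow]
      refine congrArg θ (Subtype.ext ?_)
      show τ * ((c ^ (orderOf (θ c) / r) : M) : G) * τ⁻¹ = _
      rw [Subgroup.coe_pow, ← conj_pow, hc τ hτ]
    rw [hτinv _ (by rw [map_pow]; exact hyW), map_pow, ← hy, inv_eq_iff_mul_eq_one] at hyfix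
    have h2 : r ∣ 2 := hyr ▸ orderOf_dvd_of_pow_eq_one ((pow_two y).trans hyfix)
    exact hr2 ((Nat.prime_dvd_prime_iff_eq hr.out Nat.prime_two).mp h2)
  set e := (orderOf c).factorization r with he
  set c' : M := c ^ r ^ e with hc'
  have hc'r : (r).Coprime (orderOf (c' : G)) := by
    rw [Subgroup.orderOf_coe, hc', orderOf_pow,
      Nat.gcd_eq_right (Nat.ordProj_dvd (orderOf c) r)]
    exact Nat.coprime_ordCompl hr.out (orderOf_pos c).ne'
  obtain ⟨j, hj⟩ : ∃ j : ℕ, θ c = θ c' ^ j := by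
    obtain ⟨j, -, hj⟩ := Nat.exists_mul_mod_eq_of_coprime (n := r ^ e) (k := orderOf (θ c)) 1
      (((hr.out.coprime_iff_not_dvd.mpr hc_ord)).pow_left e) (orderOf_pos _).ne'
    refine ⟨j, ?_⟩
    rw [hc', map_pow, ← pow_mul]
    conv_lhs => rw [← pow_one (θ c)]
    exact pow_eq_pow_iff_modEq.mpr hj.symm
  have hc'fix : ∀ σ ∈ T, σ * (c' : G) * σ⁻¹ = c' := fun σ hσ => by
    rw [hc', Subgroup.coe_pow, ← conj_pow, hc σ hσ]
  -- an element of `R` inverted by `τ` and centralised by `c'`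
  have hcR' : zpowers (c' : G) ≤ normalizer (R : Set G) :=
    zpowers_le.mpr (by rw [hc', Subgroup.coe_pow]; exact pow_mem hcR _)
  obtain ⟨x, hx, hxx₀⟩ := Coprime.exists_centralizer_mem_coset (K := R)
    (N := R ⊓ partOver M θ ⊥) hcR'
    (by
      obtain ⟨n, hn⟩ := IsPGroup.iff_card.mp (P.isPGroup'.map WN.subtype)
      rw [Nat.card_zpowers, hn]
      exact hc'r.symm.pow_right n)
    (Or.inl (Coprime.isSolvable_zpowers _)) inf_le_left
    (Subgroup.le_normalizer_iff.mpr fun a ha z hz => ⟨Coprime.conj_mem (hcR' ha) hz.1,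
      Coprime.conj_mem (le_normalizer_partOver M θ ⊥ (zpowers_le.mpr c'.2 ha)) hz.2⟩)
    hx₀R fun a ha => ⟨R.mul_mem (R.inv_mem hx₀R) (Coprime.conj_mem (hcR' ha) hx₀R), by
      refine mem_partOver.mpr ⟨hRM (mul_mem (inv_mem hx₀R) (Coprime.conj_mem (hcR' ha) hx₀R)),
        Subgroup.mem_bot.mpr ?_⟩
      have haM : a ∈ M := zpowers_le.mpr c'.2 ha
      have h : θ (x₀⁻¹ * (⟨a, haM⟩ * x₀ * ⟨a, haM⟩⁻¹)) = 1 := by
        rw [map_mul, map_mul, map_mul, map_inv, map_inv, mul_inv_cancel_comm, inv_mul_cancel]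
      exact h⟩
  have hxM : x ∈ M := hRM hx.1
  have hθx : θ ⟨x, hxM⟩ = θ x₀ := by
    obtain ⟨h1, h2⟩ := mem_partOver.mp hxx₀.2
    rw [Subgroup.mem_bot, show (⟨(x₀ : G)⁻¹ * x, h1⟩ : M) = x₀⁻¹ * ⟨x, hxM⟩ from rfl, map_mul,
      map_inv, inv_mul_eq_one] at h2
    exact h2.symm
  set a : G := x⁻¹ * (τ * x * τ⁻¹) with ha_def
  have hτx : τ * x * τ⁻¹ ∈ R := Coprime.conj_mem (hP hτ) hx.1
  have haR : a ∈ R := mul_mem (inv_mem hx.1) hτx
  have hxT₀ : ∀ σ ∈ T₀, σ * x = x * σ := mem_centralizer_iff.mp (hRW hx.1).2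
  have hτa : τ * a * τ⁻¹ = a⁻¹ := by
    have h := hxT₀ _ hτsq
    calc τ * a * τ⁻¹ = τ * x⁻¹ * τ⁻¹ * ((τ * τ) * x * (τ * τ)⁻¹) := by rw [ha_def]; group
      _ = τ * x⁻¹ * τ⁻¹ * x := by rw [h, mul_inv_cancel_right]
      _ = a⁻¹ := by rw [ha_def]; group
  have hca : Commute (c' : G) a := by
    have h1 : Commute (c' : G) x := mem_centralizer_iff.mp hx.2 _ (mem_zpowers _)
    have h2 : Commute (c' : G) (τ * x * τ⁻¹) := by
      rw [← hc'fix τ hτ]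
      show τ * (c' : G) * τ⁻¹ * (τ * x * τ⁻¹) = τ * x * τ⁻¹ * (τ * (c' : G) * τ⁻¹)
      calc τ * (c' : G) * τ⁻¹ * (τ * x * τ⁻¹) = τ * ((c' : G) * x) * τ⁻¹ := by group
        _ = τ * (x * c') * τ⁻¹ := by rw [h1.eq]
        _ = _ := by group
    exact h1.inv_right.mul_right h2
  have hθa : θ ⟨a, hRM haR⟩ = (θ x₀)⁻¹ * (θ x₀)⁻¹ := by
    have h : (⟨a, hRM haR⟩ : M) = ⟨x, hxM⟩⁻¹ * ⟨_, hTM τ hτ ⟨x, hxM⟩⟩ := rfl
    rw [h, map_mul, map_inv, hτinv _ (hθx ▸ hx₀.1), hθx]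
  have hacop : (orderOf (c' : G)).Coprime (orderOf a) := by
    obtain ⟨n, hn⟩ := (IsPGroup.iff_orderOf.mp (P.isPGroup'.map WN.subtype)) ⟨a, haR⟩
    rw [Subgroup.orderOf_mk] at hn
    rw [hn]
    exact hc'r.symm.pow_right n
  set z : G := (c' : G) * a with hz
  have hordz : orderOf z = orderOf (c' : G) * orderOf a := hca.orderOf_mul_eq_mul_orderOf_of_coprime hacop
  have hc'z : (c' : G) ∈ zpowers z := by
    have h : z ^ orderOf a = (c' : G) ^ orderOf a := by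
      rw [hz, hca.mul_pow, pow_orderOf_eq_one, mul_one]
    obtain ⟨i, -, hi⟩ := Nat.exists_mul_mod_eq_of_coprime (n := orderOf a)
      (k := orderOf (c' : G)) 1 hacop.symm (orderOf_pos _).ne'
    refine ⟨((orderOf a * i : ℕ) : ℤ), ?_⟩
    show z ^ ((orderOf a * i : ℕ) : ℤ) = _
    rw [zpow_natCast, pow_mul, h, ← pow_mul]
    conv_rhs => rw [← pow_one (c' : G)]
    exact pow_eq_pow_iff_modEq.mpr hi
  have haz : a ∈ zpowers z := by
    have h : a = (c' : G)⁻¹ * z := by rw [hz, inv_mul_cancel_left]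
    rw [h]
    exact mul_mem (inv_mem hc'z) (mem_zpowers z)
  refine ⟨zpowers z, zpowers_le.mpr (mul_mem c'.2 (hRM haR)), inferInstance, ?_, fun m => ?_,
    fun _ => ⟨⟨a, hRM haR⟩, haz, ?_, ?_⟩⟩
  · have hT₀z : ∀ σ ∈ T₀, σ * z * σ⁻¹ = z := by
      intro σ hσ
      have h2 : σ * a * σ⁻¹ = a :=
        mul_inv_eq_iff_eq_mul.mpr (mem_centralizer_iff.mp (hRW haR).2 σ hσ)
      calc σ * z * σ⁻¹ = σ * (c' : G) * σ⁻¹ * (σ * a * σ⁻¹) := by rw [hz]; group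
        _ = z := by rw [hc'fix σ (hT₀ hσ), h2]
    have hτz : τ * z * τ⁻¹ ∈ zpowers z := by
      have h : τ * z * τ⁻¹ = τ * (c' : G) * τ⁻¹ * (τ * a * τ⁻¹) := by rw [hz]; group
      rw [h, hc'fix τ hτ, hτa]
      exact mul_mem hc'z (inv_mem haz)
    refine Subgroup.le_normalizer_iff.mpr fun σ hσ b hb => ?_
    obtain ⟨k, rfl⟩ := hb
    have hσz : σ * z * σ⁻¹ ∈ zpowers z := by
      by_cases hσ₀ : σ ∈ T₀
      · rw [hT₀z σ hσ₀]; exact mem_zpowers z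
      · rw [show σ * z * σ⁻¹ = τ * ((τ⁻¹ * σ) * z * (τ⁻¹ * σ)⁻¹) * τ⁻¹ by group,
          hT₀z _ (hcoset σ hσ hσ₀)]
        exact hτz
    show σ * z ^ k * σ⁻¹ ∈ zpowers z
    rw [← conj_zpow]
    exact zpow_mem hσz k
  · obtain ⟨k, hk⟩ := hh₀ (θ m)
    refine ⟨(c' ^ j) ^ k, ?_, ?_⟩
    · rw [Subgroup.coe_zpow, Subgroup.coe_pow]
      exact zpow_mem (pow_mem hc'z j) k
    · rw [map_zpow, map_pow, ← hj, ← (hk : θ g ^ k = θ m), ← inv_zpow, ← mul_zpow]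
      exact zpow_mem hcg k
  · rw [hθa]
    exact mul_mem (inv_mem hx₀.1) (inv_mem hx₀.1)
  · rw [hθa, ← mul_inv_rev, Ne, inv_eq_one, ← sq]
    intro h
    have hodd : Odd (orderOf (θ x₀)) := hHodd.of_dvd_nat (orderOf_dvd_natCard _)
    have h2 := (Nat.dvd_prime Nat.prime_two).mp (orderOf_dvd_of_pow_eq_one h)
    rcases h2 with h2 | h2
    · exact hx₀.2 (orderOf_eq_one_iff.mp h2)
    · rw [h2] at hodd; exact absurd hodd (by decide)

end Cfsg.Agent.H72.Asch
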