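import Cfsg.Agent.H72.Asch.LineSetup
import Cfsg.Agent.H72.Asch.CyclicLift
import Cfsg.Agent.H4.Asch.Lines
import Cfsg.Agent.H73.Asch.Line2

/-!
The data `Line2` of every line of rank two: the Sylow 2-subgroup over the kernel of the rank-one
image, and the torus, a cyclic group lifting the two-point stabiliser of the image.
-/

set_option autoImplicit false
set_option linter.style.haveILetI false

namespace Cfsg.Agent.H72.Asch

open Subgroup MulAction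
open Cfsg.Agent.H39 (mul_self_of_orderOf_eq_two orderOf_eq_two_of_mul_self)
open Cfsg.Agent.H73.Bender
open Cfsg.Agent.H14.Asch
open Cfsg.Agent.H73.Asch (RankTwoBad Line2 HasLines2 LineShape)
open scoped Pointwise commutatorElement

universe u v

variable {G : Type u} [Group G] {Ω : Type v} [MulAction G Ω] {D : Set G} {u : G}

/-- The permutation of the fixed points of `u` given by an element commuting with `u`. -/
def fixPerm {σ : G} (hσ : Commute σ u) : Equiv.Perm (fixedBy Ω u) where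
  toFun z := ⟨σ • z.1, smul_fixed_of_commute hσ z.2⟩
  invFun z := ⟨σ⁻¹ • z.1, smul_fixed_of_commute hσ.inv_left z.2⟩
  left_inv z := Subtype.ext (inv_smul_smul σ z.1)
  right_inv z := Subtype.ext (smul_inv_smul σ z.1)

variable [Finite G] {hS : SE (lineGroup D u) (fixedBy Ω u)}

omit [Finite G] in
/-- Conjugation by an element commuting with `u` as an automorphism of the image. -/
theorem exists_imageAut (h : Crit G Ω D) {σ : G} (hσ : Commute σ u) :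
    ∃ φ : MulAut (Image hS), ∀ (g : lineGroup D u),
      φ (imgHom hS g) = imgHom hS ⟨σ * g * σ⁻¹, H4.Asch.conj_mem_lineGroup h hσ g.2⟩ := by
  have key : ∀ {τ : G} (hτ : Commute τ u) (g : lineGroup D u),
      fixPerm hτ * (imgHom hS g : Equiv.Perm (fixedBy Ω u)) * (fixPerm hτ)⁻¹ =
        (imgHom hS ⟨τ * g * τ⁻¹, H4.Asch.conj_mem_lineGroup h hτ g.2⟩ :
          Equiv.Perm (fixedBy Ω u)) := by
    intro τ hτ g
    refine mul_inv_eq_iff_eq_mul.mpr (Equiv.ext fun z => Subtype.ext ?_)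
    show τ • ((g : G) • z.1) = (τ * (g : G) * τ⁻¹) • (τ • z.1)
    simp [mul_smul]
  have hp : fixPerm (Ω := Ω) hσ.inv_left = (fixPerm hσ)⁻¹ := Equiv.ext fun z => rfl
  have hmem : ∀ {τ : G} (hτ : Commute τ u), ∀ x ∈ Image hS,
      fixPerm hτ * x * (fixPerm hτ)⁻¹ ∈ Image hS := by
    rintro τ hτ x hx
    obtain ⟨g, hg⟩ := imgHom_surjective hS ⟨x, hx⟩
    have h1 := key hτ g
    rw [hg] at h1
    rw [h1]
    exact (imgHom hS _).2
  refine ⟨{ toFun := fun x => ⟨_, hmem hσ x.1 x.2⟩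
            invFun := fun x => ⟨_, hmem hσ.inv_left x.1 x.2⟩
            left_inv := fun x => Subtype.ext (by simp [hp, mul_assoc])
            right_inv := fun x => Subtype.ext (by simp [hp, mul_assoc])
            map_mul' := fun x y => Subtype.ext (by simp [mul_assoc]) },
    fun g => Subtype.ext (key hσ g)⟩

variable [Finite Ω] {a b : fixedBy Ω u} {t : Image hS} {Qi : Subgroup (Image hS)} {Q E : Subgroup G}
  (hI : ImageData hS a b t Qi) (hL : Lift hS a Qi Q) (hE : ∀ g : G, g ∈ E ↔ g ∈ Q ∧ g * g = 1)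
include hI hL

omit [Finite G] [Finite Ω] hI hL in
theorem conj_mem_Q {m : G} (hm : m ∈ normalizer (Q : Set G)) {g : G} (hg : g ∈ Q) :
    m * g * m⁻¹ ∈ Q :=
  (Subgroup.mem_normalizer_iff.mp hm g).mp hg

omit [Finite G] [Finite Ω] in
/-- An involution of the image at `a` comes from `E`. -/
theorem exists_invol_lift [Finite G] (hE : ∀ g : G, g ∈ E ↔ g ∈ Q ∧ g * g = 1) {s : Image hS}
    (hs : s ∈ Cfsg.involutionsIn (stabilizer (Image hS) a : Set (Image hS))) :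
    ∃ e : lineGroup D u, (e : G) ∈ E ∧ imgHom hS e = s := by
  obtain ⟨e, he, hes⟩ := hL.surj s ((hI.mem_iff s).mpr ⟨hs.1, 1, by rw [pow_one, sq, hs.2.2]⟩)
  refine ⟨e, (hE _).mpr ⟨he, ?_⟩, hes⟩
  exact congrArg Subtype.val (hL.eq_of_image_eq (g := e * e) (k := 1) (mul_mem he he) (one_mem Q)
    (by rw [map_mul, hes, hs.2.2, map_one]))

omit [Finite Ω] in
theorem invol_of_mem (hE : ∀ g : G, g ∈ E ↔ g ∈ Q ∧ g * g = 1) {e : lineGroup D u}
    (he : (e : G) ∈ E) (he1 : (e : G) ≠ 1) :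
    imgHom hS e ∈ Cfsg.involutionsIn (stabilizer (Image hS) a : Set (Image hS)) := by
  obtain ⟨heQ, he2⟩ := (hE _).mp he
  refine ⟨((hI.mem_iff _).mp (hL.image e heQ)).1, fun h1 => he1 ?_,
    by rw [← map_mul, show e * e = 1 from Subtype.ext he2, map_one]⟩
  exact congrArg Subtype.val (hL.eq_of_image_eq (g := e) (k := 1) heQ (one_mem Q)
    (h1.trans (map_one _).symm))

omit [Finite Ω] in
/-- Every element of the two-point stabiliser of the image lifts to the normaliser of `Q`. -/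
theorem exists_pair_lift {d : Image hS}
    (hd : d ∈ stabilizer (Image hS) a ⊓ stabilizer (Image hS) (t • a)) :
    ∃ m : lineGroup D u, (m : G) ∈ pairStab G a.1 b.1 ∧ (m : G) ∈ normalizer (Q : Set G) ∧
      imgHom hS m = d := by
  obtain ⟨l, rfl⟩ := imgHom_surjective hS d
  have hla : (l : G) • a.1 = a.1 := (imgHom_fix_iff hS l a).mp hd.1
  have hlb : (l : G) • b.1 = b.1 := (imgHom_fix_iff hS l b).mp (by rw [← hI.smul]; exact hd.2)
  have hle : MulAut.conj (l : G) • Q ≤ lineGroup D u ⊓ stabilizer G a.1 := by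
    intro z hz
    rw [Subgroup.mem_pointwise_smul_iff_inv_smul_mem] at hz
    have h1 := hL.le hz
    have h2 : (MulAut.conj (l : G))⁻¹ • z ∈ stabilizer G a.1 := hL.fix hI hz
    rw [← map_inv, MulAut.smul_def, MulAut.conj_apply, inv_inv] at h1 h2
    have e : z = l * ((l : G)⁻¹ * z * l) * (l : G)⁻¹ := by group
    rw [e]
    exact ⟨(lineGroup D u).mul_mem ((lineGroup D u).mul_mem l.2 h1) ((lineGroup D u).inv_mem l.2),
      (stabilizer G a.1).mul_mem ((stabilizer G a.1).mul_mem hla h2)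
        ((stabilizer G a.1).inv_mem (mem_stabilizer_iff.mpr hla))⟩
  obtain ⟨k, hk, hkQ⟩ := hL.sylow _ (hL.isPGroup.of_equiv
    (Subgroup.equivSMul (MulAut.conj (l : G)) Q)) hle
  refine ⟨k⁻¹ * l, mem_pairStab.mpr ⟨?_, ?_⟩, Subgroup.mem_normalizer_fintype fun g hg => ?_, ?_⟩
  · rw [Subgroup.coe_mul, Subgroup.coe_inv, mul_smul, hla, inv_smul_eq_iff,
      imgHom_eq_one_smul hS hk a.2]
  · rw [Subgroup.coe_mul, Subgroup.coe_inv, mul_smul, hlb, inv_smul_eq_iff,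
      imgHom_eq_one_smul hS hk b.2]
  · have h := hkQ (Subgroup.smul_mem_pointwise_smul g (MulAut.conj (l : G)) Q hg)
    rw [Subgroup.mem_pointwise_smul_iff_inv_smul_mem, ← map_inv, MulAut.smul_def, MulAut.smul_def,
      MulAut.conj_apply, MulAut.conj_apply] at h
    simpa [mul_assoc] using h
  · rw [map_mul, map_inv, hk, inv_one, one_mul]

omit [Finite G] [Finite Ω] hL in
theorem image_mem_pair {m : lineGroup D u} (hm : (m : G) ∈ pairStab G a.1 b.1) :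
    imgHom hS m ∈ stabilizer (Image hS) a ⊓ stabilizer (Image hS) (t • a) := by
  refine ⟨(imgHom_fix_iff hS m a).mpr (mem_pairStab.mp hm).1, ?_⟩
  rw [hI.smul]
  exact (imgHom_fix_iff hS m b).mpr (mem_pairStab.mp hm).2

/-- The torus. -/
theorem exists_torus (h : Crit G Ω D) (hab : a ≠ b)
    (hE : ∀ g : G, g ∈ E ↔ g ∈ Q ∧ g * g = 1) {T : Subgroup G} (hT : IsPGroup 2 T)
    (hTu : T ≤ pairStab G a.1 b.1 ⊓ centralizer ({u} : Set G))
    (hTE : ∀ e ∈ E, ∀ σ ∈ T, Commute e σ) (hTQ : T ≤ normalizer (Q : Set G)) :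
    ∃ A : Subgroup G, A ≤ lineGroup D u ⊓ pairStab G a.1 b.1 ∧ Odd (Nat.card A) ∧
      A ≤ normalizer (Q : Set G) ∧ IsCyclic A ∧
      (∀ c ∈ E, ∀ c' ∈ E, c ≠ 1 → c' ≠ 1 → ∃ k ∈ A, k * c * k⁻¹ = c') ∧
      T ≤ normalizer ((A ⊓ centralizer (E : Set G) : Subgroup G) : Set G) ∧
      LineShape A E Q := by
  classical
  set L := lineGroup D u
  set Db := stabilizer (Image hS) a ⊓ stabilizer (Image hS) (t • a)
  haveI : IsCyclic ↥Db := hI.shape.cyclic
  letI : CommGroup ↥Db := { (inferInstance : Group ↥Db) with mul_comm := IsCyclic.isMulCommutative.is_comm.comm }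
  set M : Subgroup G := L ⊓ pairStab G a.1 b.1 ⊓ normalizer (Q : Set G) with hM
  have hModd : Odd (Nat.card M) :=
    (hS.odd_pair a.2 b.2 fun e => hab (Subtype.ext e)).of_dvd_nat (card_dvd_of_le fun g hg =>
      mem_pair.mpr ⟨hg.1.1, mem_pairStab.mp hg.1.2⟩)
  let θ : M →* ↥Db := ((imgHom hS).comp (inclusion (inf_le_left.trans inf_le_left))).codRestrict Db
    fun m => image_mem_pair hI (m := ⟨m.1, m.2.1.1⟩) m.2.1.2
  have hθval : ∀ m : M, ((θ m : ↥Db) : Image hS) = imgHom hS ⟨m.1, m.2.1.1⟩ := fun m => rfl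
  have hθ : Function.Surjective θ := fun d => by
    obtain ⟨l, hl, hlQ, hld⟩ := exists_pair_lift hI hL d.2
    exact ⟨⟨l, ⟨l.2, hl⟩, hlQ⟩, Subtype.ext hld⟩
  have hTc : ∀ σ ∈ T, Commute σ u := fun σ hσ => mem_centralizer_singleton_iff.mp (hTu hσ).2
  have hEQ : ∀ {g : G}, g ∈ E → g ∈ Q := fun {g} hg => ((hE g).mp hg).1
  have hconjE : ∀ {m g : G}, m ∈ normalizer (Q : Set G) → g ∈ E → m * g * m⁻¹ ∈ E := by
    intro m g hm hg
    obtain ⟨hgQ, hg2⟩ := (hE g).mp hg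
    refine (hE _).mpr ⟨conj_mem_Q hm hgQ, ?_⟩
    rw [show m * g * m⁻¹ * (m * g * m⁻¹) = m * (g * g) * m⁻¹ by group, hg2]
    group
  have hTM : ∀ σ ∈ T, ∀ m : M, σ * (m : G) * σ⁻¹ ∈ M := fun σ hσ m =>
    ⟨⟨H4.Asch.conj_mem_lineGroup h (hTc σ hσ) m.2.1.1,
      (pairStab G a.1 b.1).mul_mem ((pairStab G a.1 b.1).mul_mem (hTu hσ).1 m.2.1.2)
        ((pairStab G a.1 b.1).inv_mem (hTu hσ).1)⟩,
      (normalizer (Q : Set G)).mul_mem ((normalizer (Q : Set G)).mul_mem (hTQ hσ) m.2.2)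
        ((normalizer (Q : Set G)).inv_mem (hTQ hσ))⟩
  -- the part centralising `E`
  set W : Subgroup ↥Db := (fixI a t).subgroupOf Db with hW
  have hWmem : ∀ m : M, θ m ∈ W ↔ ∀ e ∈ E, Commute (m : G) e := by
    intro m
    rw [hW, mem_subgroupOf, mem_fixI]
    constructor
    · intro hm e he
      by_cases he1 : e = 1
      · rw [he1]; exact Commute.one_right _
      have hc := hm.2 _ (invol_of_mem hI hL hE (e := ⟨e, hL.le (hEQ he)⟩) he he1)
      refine mul_inv_eq_iff_eq_mul.mp (congrArg Subtype.val (hL.eq_of_image_eq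
        (g := (⟨m.1, m.2.1.1⟩ : L) * ⟨e, hL.le (hEQ he)⟩ * (⟨m.1, m.2.1.1⟩ : L)⁻¹)
        (k := ⟨e, hL.le (hEQ he)⟩) (conj_mem_Q m.2.2 (hEQ he)) (hEQ he) ?_) :)
      rw [map_mul, map_mul, map_inv, ← hθval, hc.eq, mul_inv_cancel_right]
    · intro hm
      refine ⟨(θ m).2, fun s hs => ?_⟩
      obtain ⟨e, he, rfl⟩ := exists_invol_lift hI hL hE hs
      exact (show Commute (⟨m.1, m.2.1.1⟩ : L) e from Subtype.ext (hm _ he).eq).map (imgHom hS)
  have hker : ∀ σ (hσ : σ ∈ T) (m : M), θ m = 1 → θ ⟨_, hTM σ hσ m⟩ = 1 := by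
    intro σ hσ m hm
    obtain ⟨φ, hφ⟩ := exists_imageAut (hS := hS) h (hTc σ hσ)
    refine Subtype.ext ?_
    rw [hθval, ← hφ ⟨m.1, m.2.1.1⟩, ← hθval, hm, OneMemClass.coe_one, map_one]
  have hquot : ∀ σ (hσ : σ ∈ T) (m : M), θ ⟨_, hTM σ hσ m⟩ * (θ m)⁻¹ ∈ W := by
    intro σ hσ m
    rw [← map_inv, ← map_mul, hWmem]
    intro e he
    have h1 : (m : G)⁻¹ * e * (m : G) ∈ E := by simpa using hconjE (inv_mem m.2.2) he
    have h2 : σ⁻¹ * ((m : G)⁻¹ * e * m) * σ = (m : G)⁻¹ * e * m := by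
      rw [mul_assoc, (hTE _ h1 σ hσ).eq, inv_mul_cancel_left]
    have h3 : σ * e * σ⁻¹ = e := mul_inv_eq_iff_eq_mul.mpr (hTE e he σ hσ).eq.symm
    show σ * (m : G) * σ⁻¹ * (m : G)⁻¹ * e = e * (σ * (m : G) * σ⁻¹ * (m : G)⁻¹)
    calc σ * (m : G) * σ⁻¹ * (m : G)⁻¹ * e
        = σ * m * (σ⁻¹ * ((m : G)⁻¹ * e * m) * σ) * σ⁻¹ * (m : G)⁻¹ := by group
      _ = σ * e * σ⁻¹ * (σ * (m : G) * σ⁻¹ * (m : G)⁻¹) := by rw [h2]; group
      _ = e * (σ * (m : G) * σ⁻¹ * (m : G)⁻¹) := by rw [h3]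
  have hsplit : ∀ σ (hσ : σ ∈ T), (∀ m : M, θ m ∈ W → θ ⟨_, hTM σ hσ m⟩ = θ m) ∨
      ∀ m : M, θ m ∈ W → θ ⟨_, hTM σ hσ m⟩ = (θ m)⁻¹ := by
    intro σ hσ
    obtain ⟨φ, hφ⟩ := exists_imageAut (hS := hS) h (hTc σ hσ)
    have hcases := hI.shape.aut φ (fun x hx => by
        obtain ⟨g, hg, rfl⟩ := hL.surj x hx
        rw [hφ]
        exact hL.image _ (conj_mem_Q (hTQ hσ) hg))
      (fun z hz hz2 => by
        obtain ⟨g, hg, rfl⟩ := hL.surj z hz
        have hgE : (g : G) ∈ E := (hE _).mpr ⟨hg, congrArg Subtype.val (hL.eq_of_image_eq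
          (g := g * g) (k := 1) (mul_mem hg hg) (one_mem Q) (by rw [map_mul, hz2, map_one]))⟩
        rw [hφ]
        congr 1
        exact Subtype.ext (mul_inv_eq_iff_eq_mul.mpr (hTE _ hgE σ hσ).eq.symm))
      (fun d hd => by
        obtain ⟨m, hm⟩ := hθ ⟨d, hd⟩
        have hd' : d = imgHom hS ⟨m.1, m.2.1.1⟩ := congrArg Subtype.val hm.symm
        rw [hd', hφ]
        exact (θ ⟨_, hTM σ hσ m⟩).2)
    refine hcases.imp (fun hc m hm => Subtype.ext ?_) fun hc m hm => Subtype.ext ?_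
    · rw [hθval, ← hφ ⟨m.1, m.2.1.1⟩, ← hθval, hc _ (mem_subgroupOf.mp hm)]
    · rw [hθval, ← hφ ⟨m.1, m.2.1.1⟩, ← hθval, hc _ (mem_subgroupOf.mp hm), Subgroup.coe_inv]
  obtain ⟨A, hAM, hAc, hTA, hAq, hAW⟩ :=
    exists_cyclic_lift hModd hT θ hθ W hTM hker hquot hsplit
  refine ⟨A, fun g hg => (hAM hg).1, hModd.of_dvd_nat (card_dvd_of_le hAM),
    fun g hg => (hAM hg).2, hAc, ?_, ?_, ?_⟩
  · -- transitivity
    intro c hc c' hc' hc1 hc1'
    obtain ⟨d, hd, hdc⟩ := hI.shape.trans _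
      (invol_of_mem hI hL hE (e := ⟨c, hL.le (hEQ hc)⟩) hc hc1) _
      (invol_of_mem hI hL hE (e := ⟨c', hL.le (hEQ hc')⟩) hc' hc1')
    obtain ⟨m, hm⟩ := hθ ⟨d, hd⟩
    obtain ⟨k, hkA, hkm⟩ := hAq m
    rw [← map_inv, ← map_mul, hWmem] at hkm
    have hmc : (m : G) * c * (m : G)⁻¹ = c' := congrArg Subtype.val (hL.eq_of_image_eq
      (g := (⟨m.1, m.2.1.1⟩ : L) * ⟨c, hL.le (hEQ hc)⟩ * (⟨m.1, m.2.1.1⟩ : L)⁻¹)
      (k := ⟨c', hL.le (hEQ hc')⟩) (conj_mem_Q m.2.2 (hEQ hc)) (hEQ hc')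
      (by rw [map_mul, map_mul, map_inv, ← hθval, hm]; exact hdc))
    refine ⟨k, hkA, ?_⟩
    have h1 := (hkm c' hc').eq
    change (k : G) * (m : G)⁻¹ * c' = c' * ((k : G) * (m : G)⁻¹) at h1
    calc (k : G) * c * (k : G)⁻¹
        = (k : G) * (m : G)⁻¹ * ((m : G) * c * (m : G)⁻¹) * ((k : G) * (m : G)⁻¹)⁻¹ := by group
      _ = c' := by rw [hmc, h1, mul_inv_cancel_right]
  · refine Subgroup.le_normalizer_iff.mpr fun σ hσ k hk => ⟨Coprime.conj_mem (hTA hσ) hk.1, ?_⟩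
    refine mem_centralizer_iff.mpr fun e he => ?_
    have h1 := hTE e he σ hσ
    have h2 : Commute e k := mem_centralizer_iff.mp hk.2 e he
    exact ((h1.mul_right h2).mul_right h1.inv_right).eq
  -- the shape
  rcases hI.shape.cases with ⟨hel, -⟩ | ⟨-, -, hsq, hcomm⟩ | ⟨-, hne, hfix⟩
  · refine Or.inl (le_antisymm (fun g hg => (hE g).mpr ⟨hg, ?_⟩) fun g hg => hEQ hg)
    exact congrArg Subtype.val (hL.eq_of_image_eq (g := ⟨g, hL.le hg⟩ * ⟨g, hL.le hg⟩) (k := 1)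
      (mul_mem hg hg) (one_mem Q) (by rw [map_mul, hel _ (hL.image _ hg), map_one]))
  · refine Or.inr (Or.inl ⟨fun g hg k hk hgk => (hE _).mpr ⟨mul_mem hg (inv_mem hk), ?_⟩,
      fun g hg hgE => ?_⟩)
    · have h1 := hsq _ (hL.image ⟨g, hL.le hg⟩ hg) _ (hL.image ⟨k, hL.le hk⟩ hk)
        (by rw [← map_mul, ← map_mul]; exact congrArg _ (Subtype.ext hgk))
      rw [← map_inv, ← map_mul] at h1
      have hgk' : g * k⁻¹ ∈ Q := mul_mem hg (inv_mem hk)
      exact congrArg Subtype.val (hL.eq_of_image_eq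
        (g := ⟨g, hL.le hg⟩ * (⟨k, hL.le hk⟩ : L)⁻¹ * (⟨g, hL.le hg⟩ * (⟨k, hL.le hk⟩ : L)⁻¹))
        (k := 1) (mul_mem hgk' hgk') (one_mem Q) (by rw [map_mul, h1, map_one]))
    · obtain ⟨k, hk, l, hl, h1, h2, h3⟩ := hcomm _ (hL.image ⟨g, hL.le hg⟩ hg) fun h1 => hgE
        ((hE g).mpr ⟨hg, congrArg Subtype.val (hL.eq_of_image_eq
          (g := ⟨g, hL.le hg⟩ * ⟨g, hL.le hg⟩) (k := 1) (mul_mem hg hg) (one_mem Q)
          (by rw [map_mul, h1, map_one]))⟩)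
      obtain ⟨k', hk', rfl⟩ := hL.surj k hk
      obtain ⟨l', hl', rfl⟩ := hL.surj l hl
      rw [← map_commutatorElement] at h1 h2 h3
      rw [← map_commutatorElement] at h3
      exact ⟨k', hk', l', hl', fun e => h1 (by
          rw [show ⁅(⟨g, hL.le hg⟩ : L), k'⁆ = 1 from Subtype.ext e, map_one]),
        fun e => h2 (by rw [show ⁅(⟨g, hL.le hg⟩ : L), l'⁆ = 1 from Subtype.ext e, map_one]),
        fun e => h3 (congrArg _ (Subtype.ext e))⟩
  · refine Or.inr (Or.inr ?_)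
    have hWne : W ≠ ⊥ := fun hW0 => hne (by
      rw [eq_bot_iff]
      intro w hw
      have h' : (⟨w, hw.1⟩ : ↥Db) ∈ W := mem_subgroupOf.mpr hw
      rw [hW0, Subgroup.mem_bot] at h'
      exact Subgroup.mem_bot.mpr (congrArg Subtype.val h'))
    obtain ⟨k, hkA, hkW, hk1⟩ := hAW hWne
    refine ⟨k, hkA, (hWmem k).mp hkW, fun g hg hc => (hE g).mpr ⟨hg, ?_⟩⟩
    have hc' : Commute (⟨k.1, k.2.1.1⟩ : L) ⟨g, hL.le hg⟩ := Subtype.ext hc.eq
    have h1 := hfix _ (mem_subgroupOf.mp hkW) (fun e => hk1 (Subtype.ext e)) _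
      (hL.image ⟨g, hL.le hg⟩ hg) (hc'.map (imgHom hS))
    exact congrArg Subtype.val (hL.eq_of_image_eq (g := ⟨g, hL.le hg⟩ * ⟨g, hL.le hg⟩) (k := 1)
      (mul_mem hg hg) (one_mem Q) (by rw [map_mul, h1, map_one]))

omit [Finite Ω] in
/-- The two-point stabiliser of the line acts on `E` as an abelian group. -/
theorem torus_image (hE : ∀ g : G, g ∈ E ↔ g ∈ Q ∧ g * g = 1) :
    ∀ g ∈ lineGroup D u ⊓ pairStab G a.1 b.1 ⊓ normalizer (E : Set G),
      ∀ k ∈ lineGroup D u ⊓ pairStab G a.1 b.1 ⊓ normalizer (E : Set G),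
        ∀ e ∈ E, Commute ⁅g, k⁆ e := by
  intro g hg k hk e he
  haveI : IsCyclic ↥(stabilizer (Image hS) a ⊓ stabilizer (Image hS) (t • a)) := hI.shape.cyclic
  set g' : lineGroup D u := ⟨g, hg.1.1⟩
  set k' : lineGroup D u := ⟨k, hk.1.1⟩
  have hc : imgHom hS g' * imgHom hS k' = imgHom hS k' * imgHom hS g' :=
    congrArg Subtype.val (IsCyclic.isMulCommutative.is_comm.comm
      (⟨_, image_mem_pair hI (m := g') hg.1.2⟩ :
        ↥(stabilizer (Image hS) a ⊓ stabilizer (Image hS) (t • a)))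
      ⟨_, image_mem_pair hI (m := k') hk.1.2⟩)
  have h1 : imgHom hS ⁅g', k'⁆ = 1 := by
    rw [map_commutatorElement, commutatorElement_eq_one_iff_mul_comm]
    exact hc
  have hcE : ⁅g, k⁆ * e * ⁅g, k⁆⁻¹ ∈ E := by
    refine (Subgroup.mem_normalizer_iff.mp ?_ e).mp he
    rw [commutatorElement_def]
    exact mul_mem (mul_mem (mul_mem hg.2 hk.2) (inv_mem hg.2)) (inv_mem hk.2)
  refine mul_inv_eq_iff_eq_mul.mp (congrArg Subtype.val (hL.eq_of_image_eq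
    (g := ⁅g', k'⁆ * ⟨e, hL.le ((hE e).mp he).1⟩ * ⁅g', k'⁆⁻¹) (k := ⟨e, hL.le ((hE e).mp he).1⟩)
    ((hE _).mp hcE).1 ((hE e).mp he).1 (by rw [map_mul, map_mul, map_inv, h1]; simp)) :)

omit hI hL

/-- Every line of rank two has the data `Line2` at each of its points. -/
theorem hasLines2 {G : Type u} [Group G] [Finite G] {Ω : Type v} [MulAction G Ω] [Finite Ω]
    {D : Set G} (h : Crit G Ω D) : HasLines2 Ω D := by
  classical
  intro u x hbad hx
  obtain ⟨hu2, ⟨p, q, hpq, hp, hq⟩, -⟩ := id hbad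
  obtain ⟨y₀, hxy₀, hy₀⟩ : ∃ y, x ≠ y ∧ u • y = y := by
    by_cases hxp : x = p
    · exact ⟨q, hxp ▸ hpq, hq⟩
    · exact ⟨p, hxp, hp⟩
  have hS := h.line hu2 hxy₀ hx hy₀
  have hr := H4.Asch.rankTwo_lineGroup h hbad
  set a : fixedBy Ω u := ⟨x, hx⟩
  obtain ⟨t, Qi, hI⟩ := exists_imageData h hr hS (a := a) (b := ⟨y₀, hy₀⟩)
    fun e => hxy₀ (congrArg Subtype.val e)
  obtain ⟨Ei, hd⟩ := hI.data
  obtain ⟨Q, hL⟩ := exists_lift hI
  set E : Subgroup G := (Ei.comap (imgHom hS) ⊓ Q.subgroupOf (lineGroup D u)).map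
    (lineGroup D u).subtype with hEdef
  have hE : ∀ g : G, g ∈ E ↔ g ∈ Q ∧ g * g = 1 := by
    intro g
    constructor
    · rintro ⟨l, ⟨hl, hlQ⟩, rfl⟩
      refine ⟨hlQ, congrArg Subtype.val (hL.eq_of_image_eq (g := l * l) (k := 1)
        (mul_mem hlQ hlQ) (one_mem Q) ?_)⟩
      rw [map_mul, map_one, ((hd.mem_E _).mp hl).2]
    · rintro ⟨hg, hg2⟩
      refine ⟨⟨g, hL.le hg⟩, ⟨(hd.mem_E _).mpr ⟨((hI.mem_iff _).mp (hL.image _ hg)).1, ?_⟩, hg⟩, rfl⟩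
      rw [← map_mul, show (⟨g, hL.le hg⟩ * ⟨g, hL.le hg⟩ : lineGroup D u) = 1 from Subtype.ext hg2,
        map_one]
  have hmapE : ∀ (g : G) (hg : g ∈ Q), g ∈ E ↔ imgHom hS ⟨g, hL.le hg⟩ ∈ Ei := fun g hg =>
    ⟨fun ⟨l, hl, e⟩ => by
        rw [show (⟨g, hL.le hg⟩ : lineGroup D u) = l from Subtype.ext e.symm]; exact hl.1,
      fun h' => ⟨⟨g, hL.le hg⟩, ⟨h', hg⟩, rfl⟩⟩
  have hcardQ : Nat.card Q = Nat.card Qi :=
    Nat.card_congr (Equiv.ofBijective (fun g : Q => (⟨_, hL.image ⟨g.1, hL.le g.2⟩ g.2⟩ : Qi))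
      ⟨fun g g' e => Subtype.ext (congrArg Subtype.val
        (hL.eq_of_image_eq (g := ⟨g.1, hL.le g.2⟩) (k := ⟨g'.1, hL.le g'.2⟩) g.2 g'.2
          (congrArg Subtype.val e)) :), fun s => by
        obtain ⟨g, hg, hgs⟩ := hL.surj s.1 s.2
        exact ⟨⟨g, hg⟩, Subtype.ext hgs⟩⟩)
  have hEQ : E ≤ Q := fun g hg => ((hE g).mp hg).1
  have hcardE : Nat.card E = Nat.card Ei :=
    Nat.card_congr (Equiv.ofBijective
      (fun g : E => (⟨imgHom hS ⟨g.1, hL.le (hEQ g.2)⟩, (hmapE g.1 (hEQ g.2)).mp g.2⟩ : Ei))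
      ⟨fun g g' e => Subtype.ext (congrArg Subtype.val
        (hL.eq_of_image_eq (g := ⟨g.1, hL.le (hEQ g.2)⟩) (k := ⟨g'.1, hL.le (hEQ g'.2)⟩)
          (hEQ g.2) (hEQ g'.2) (congrArg Subtype.val e)) :), fun s => by
        obtain ⟨g, hg, hgs⟩ := hL.surj s.1 (hd.E_le s.2)
        exact ⟨⟨g, (hmapE g hg).mpr (show imgHom hS g ∈ Ei from hgs.symm ▸ s.2)⟩, Subtype.ext hgs⟩⟩)
  have hsameQ : ∀ (z : fixedBy Ω u), a ≠ z → ∃ t' : Image hS, ImageData hS a z t' Qi := by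
    intro z hz
    obtain ⟨t', Qi', hI'⟩ := exists_imageData h hr hS hz
    obtain rfl : Qi' = Qi := SetLike.ext fun g => (hI'.mem_iff g).trans (hI.mem_iff g).symm
    exact ⟨t', hI'⟩
  refine ⟨E, Q,
    { bad := hbad
      fix := hx
      mem_E := fun g hg => (eq_or_ne g 1).imp_right fun hne =>
        ⟨h.mem_of_mem_lineGroup hu2 hxy₀ hx hy₀
            (orderOf_eq_two_of_mul_self ((hE g).mp hg).2 hne) (hL.le (hEQ hg)),
          commute_of_mem_lineGroup (hL.le (hEQ hg)), hL.fix hI (hEQ hg)⟩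
      four_le := hcardE ▸ hd.four_le
      E_le := hEQ
      Q_le := fun g hg => ⟨hL.le hg, hL.fix hI hg⟩
      isPGroup := hL.isPGroup
      sylow := fun P hP hPle => by
        obtain ⟨k, hk, hkP⟩ := hL.sylow P hP hPle
        exact ⟨k, ⟨k.2, imgHom_eq_one_smul hS hk hx⟩, hkP⟩
      central := fun e he g hg => ?_
      omega := fun g hg hg2 => (hE g).mpr ⟨hg, mul_self_of_orderOf_eq_two hg2⟩
      sq_mem := fun g hg => ?_
      comm_mem := fun g hg k hk => ?_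
      trans := fun y z hy hz hyx hzx => ?_
      free := fun g hg y hy hyx hgy => ?_
      card_cases := by rw [hcardQ, hcardE]; exact hd.card_cases
      card_four := by rw [hcardQ, hcardE]; exact hd.card_four
      torus := fun y hy hyx T hT hTu hTE hTQ => ?_
      torus_image := fun y hy hyx => ?_ }⟩
  · exact congrArg Subtype.val (hL.eq_of_image_eq
      (g := ⟨e, hL.le (hEQ he)⟩ * ⟨g, hL.le hg⟩) (k := ⟨g, hL.le hg⟩ * ⟨e, hL.le (hEQ he)⟩)
      (mul_mem (hEQ he) hg) (mul_mem hg (hEQ he)) (by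
        rw [map_mul, map_mul]
        exact hd.central _ ((hmapE e (hEQ he)).mp he) _ (hL.image _ hg)))
  · refine (hmapE _ (mul_mem hg hg)).mpr ?_
    exact (map_mul (imgHom hS) ⟨g, hL.le hg⟩ ⟨g, hL.le hg⟩).symm ▸
      hd.sq_mem _ (hL.image ⟨g, hL.le hg⟩ hg)
  · have hck : ⁅g, k⁆ ∈ Q := by
      rw [commutatorElement_def]
      exact mul_mem (mul_mem (mul_mem hg hk) (inv_mem hg)) (inv_mem hk)
    refine (hmapE _ hck).mpr ?_
    exact (map_commutatorElement (imgHom hS) (⟨g, hL.le hg⟩ : lineGroup D u) ⟨k, hL.le hk⟩).symm ▸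
      hd.comm_mem _ (hL.image ⟨g, hL.le hg⟩ hg) _ (hL.image ⟨k, hL.le hk⟩ hk)
  · obtain ⟨s, hs, -⟩ := H38.Q_regular hI.setup (b := ⟨y, hy⟩) (c := ⟨z, hz⟩)
      (fun e => hyx (congrArg Subtype.val e)) (fun e => hzx (congrArg Subtype.val e))
    obtain ⟨g, hg, hgs⟩ := hL.surj s s.2
    exact ⟨g, hg,
      congrArg Subtype.val ((congrArg (fun r => r • (⟨y, hy⟩ : fixedBy Ω u)) hgs).trans hs)⟩
  · refine congrArg Subtype.val (hL.eq_of_image_eq (g := ⟨g, hL.le hg⟩) (k := 1) hg (one_mem Q) ?_)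
    rw [map_one]
    by_contra hne
    exact hyx (congrArg Subtype.val (H38.Q_fix_only hI.setup (hL.image _ hg) hne
      (c := ⟨y, hy⟩) ((imgHom_fix_iff hS _ _).mpr hgy)))
  · have hne : a ≠ ⟨y, hy⟩ := fun e => hyx (congrArg Subtype.val e).symm
    obtain ⟨t', hI'⟩ := hsameQ ⟨y, hy⟩ hne
    exact exists_torus hI' hL h hne hE hT hTu hTE hTQ
  · have hne : a ≠ ⟨y, hy⟩ := fun e => hyx (congrArg Subtype.val e).symm
    obtain ⟨t', hI'⟩ := hsameQ ⟨y, hy⟩ hne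
    intro g hg k hk e he
    have hfin := torus_image hI' hL hE g
    exact hfin hg k hk e he

end Cfsg.Agent.H72.Asch
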