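import Cfsg.Agent.H72.Asch.ShapeTwoBase
import Cfsg.Agent.H14.Asch.ShapesFill

/-!
CLASS for a line of shape two in several layers: `N` is the join of the Frattini part and the second
centre modulo `E`.
-/

set_option autoImplicit false
set_option linter.style.haveILetI false
set_option linter.unusedSectionVars false

namespace Cfsg.Agent.H72.Asch

open Subgroup
open Cfsg.Agent.H14.Asch
open Cfsg.Agent.H51.Asch (nxt nxt_le norm_nxt sq_mem_nxt comm_mem_nxt inf_norm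
  card_le_centralized_mul)
open scoped commutatorElement

universe u

variable {G : Type u} [Group G] [Finite G] {R Q E A : Subgroup G} {u : G}
  (h : ShapeData R Q E A u)
include h

/-- Elements of `⁅R, A⁆` with the same commutator with `u` differ by `Q`. -/
theorem inv_mul_mem_Q (hu : u ∉ ⁅R, A⁆) {k l : G} (hk : k ∈ ⁅R, A⁆) (hl : l ∈ ⁅R, A⁆)
    (e : ⁅k, u⁆ = ⁅l, u⁆) : l⁻¹ * k ∈ Q := by
  refine h.mem_Q_of_commute hu (mul_mem (inv_mem hl) hk) ?_
  refine mul_inv_eq_iff_eq_mul.mp ?_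
  rw [commutatorElement_def, commutatorElement_def] at e
  calc l⁻¹ * k * u * (l⁻¹ * k)⁻¹ = l⁻¹ * (k * u * k⁻¹ * u⁻¹) * u * l := by group
    _ = l⁻¹ * (l * u * l⁻¹ * u⁻¹) * u * l := by rw [e]
    _ = u := by group

theorem E_le_nxt (hQE : ¬ Q ≤ E) : E ≤ nxt R R := fun e he => by
  obtain ⟨g, hg, rfl⟩ := h.exists_sq hQE he
  exact sq_mem_nxt (h.le hg)

/-- An element normalising `R` and `E` normalises the second centre modulo `E`. -/
theorem conj_mem_zTwo {g z : G} (hgR : g ∈ normalizer (R : Set G))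
    (hgE : g ∈ normalizer (E : Set G)) (hz : z ∈ h.zTwo) : g * z * g⁻¹ ∈ h.zTwo := by
  refine ⟨(mem_normalizer_iff.mp hgR z).mp hz.1, fun r hr => ?_⟩
  have hr' := (mem_normalizer_iff.mp (inv_mem hgR) r).mp hr
  rw [inv_inv] at hr'
  have h1 := (mem_normalizer_iff.mp hgE _).mp (hz.2 _ hr')
  convert h1 using 1
  simp only [commutatorElement_def]
  group

variable (hs : Squaring Q E) (hQE : ¬ Q ≤ E) (hmulti : u ∉ h.zTwo)
include hs hQE hmulti

theorem zTwo_le_of_Q_le (hQX : Q ≤ h.zTwo) : h.zTwo ≤ nxt R R ⊔ Q := by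
  have hu := h.u_notMem_commutator (Or.inl hs)
  have hΦQ : ¬ nxt R R ≤ Q := fun hle => hmulti ⟨h.u_mem, fun r hr =>
    h.comm_u_mem_E (hle (comm_mem_nxt hr h.u_mem))⟩
  obtain ⟨y, hy, hyQ, hyc⟩ := exists_mem_layer h.two (nxt_le le_normalizer)
    (norm_nxt le_normalizer le_normalizer) hΦQ
  have hye : ⁅y, u⁆ ∈ E := h.comm_u_mem_E (by
    rw [← commutatorElement_inv]; exact inv_mem (hyc u h.u_mem))
  have hy1 : ⁅y, u⁆ ≠ 1 := fun e =>
    hyQ (h.mem_Q_of_commute hu (h.nxt_le_commutator hy) (commutatorElement_eq_one_iff_commute.mp e))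
  intro z hz
  have hzK : z ∈ ⁅R, A⁆ := h.le_commutator h.zTwo_le h.normA_zTwo hmulti hz
  by_cases hz1 : ⁅z, u⁆ = 1
  · exact mem_sup_right (h.mem_Q_of_commute hu hzK (commutatorElement_eq_one_iff_commute.mp hz1))
  obtain ⟨a, ha, hae⟩ := h.trans _ hye hy1 _ (h.comm_u_zTwo hz) hz1
  rw [h.conj_comm_u ha] at hae
  have hy' : a * y * a⁻¹ ∈ nxt R R :=
    (mem_normalizer_iff.mp (norm_nxt h.normM h.normM ha) y).mp hy
  have h1 := inv_mul_mem_Q h hu hzK (h.nxt_le_commutator hy') hae.symm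
  have h2 := mul_mem (mem_sup_left hy' : _ ∈ nxt R R ⊔ Q) (mem_sup_right h1)
  rwa [mul_inv_cancel_left] at h2

theorem inf_le_E (hQX : Q ≤ h.zTwo) : nxt R R ⊓ Q ≤ E := by
  intro t ht
  refine h.abelian_le (Or.inl hs) (B := Q ⊓ centralizer (Q : Set G)) inf_le_left ?_
    (le_inf h.le_E fun e he => mem_centralizer_iff.mpr fun q hq =>
      ((h.central e he q (h.le hq)).symm).eq)
    (fun a ha b hb => (mem_centralizer_iff.mp hb.2 a ha.1))
    ⟨ht.2, mem_centralizer_iff.mpr fun q hq => (h.commute_nxt (hQX hq) ht.1).symm.eq⟩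
  refine inf_norm h.normQ (le_normalizer_iff.mpr fun a ha c hc => ?_)
  refine mem_centralizer_iff.mpr fun q hq => ?_
  have h1 := mem_centralizer_iff.mp hc _
    ((mem_normalizer_iff.mp (h.normQ (inv_mem ha)) q).mp hq)
  have h2 := commute_conj (show Commute _ c from h1) a
  rw [show a * (a⁻¹ * q * a⁻¹⁻¹) * a⁻¹ = q by group] at h2
  exact h2.eq

/-- `N` when `Q` lies in the second centre. -/
theorem layers_of_le (hQX : Q ≤ h.zTwo) :
    Nat.card (⁅R, A⁆ : Subgroup G) ≤ Nat.card E * Nat.card (nxt R R ⊔ h.zTwo : Subgroup G) ∧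
      ¬ ⁅R, A⁆ ≤ nxt R R ⊔ h.zTwo ∧
      ∀ n ∈ nxt R R ⊔ h.zTwo, n * u * (n * u) = 1 → n ∈ nxt R R := by
  classical
  have hu := h.u_notMem_commutator (Or.inl hs)
  have hRQ : R ≤ normalizer (Q : Set G) := h.M_le_normalizer_Q hQX
  have hNeq : nxt R R ⊔ h.zTwo = nxt R R ⊔ Q := le_antisymm
    (sup_le le_sup_left (zTwo_le_of_Q_le h hs hQE hmulti (hQX := hQX)))
    (sup_le_sup_left hQX _)
  rw [hNeq]
  have hmem : ∀ n ∈ nxt R R ⊔ Q, ∃ y ∈ nxt R R, ∃ q ∈ Q, y * q = n := by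
    intro n hn
    rw [sup_comm] at hn
    obtain ⟨q, hq, y, hy, rfl⟩ := (Coprime.mem_sup_iff ((nxt_le le_normalizer).trans hRQ)).mp hn
    refine ⟨y, hy, y⁻¹ * q * y, ?_, by group⟩
    have := (mem_normalizer_iff.mp (hRQ (inv_mem (nxt_le le_normalizer hy))) q).mp hq
    rwa [inv_inv] at this
  refine ⟨?_, fun hle => ?_, fun n hn hn2 => ?_⟩
  · have h1 : Nat.card (nxt R R : Subgroup G) * Nat.card E ≤
        Nat.card (nxt R R ⊔ Q : Subgroup G) := by
      choose r hrQ hr using fun e : E => h.exists_sq hQE e.2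
      rw [← Nat.card_prod]
      refine Nat.card_le_card_of_injective (fun p : ↥(nxt R R) × E =>
        (⟨(p.1 : G) * r p.2, mul_mem (mem_sup_left p.1.2) (mem_sup_right (hrQ p.2))⟩ :
          (nxt R R ⊔ Q : Subgroup G))) fun p p' hp => ?_
      have h0 : (p.1 : G) * r p.2 = p'.1 * r p'.2 := congrArg Subtype.val hp
      have hd : r p'.2 * (r p.2)⁻¹ ∈ E := inf_le_E h hs hQE hmulti (hQX := hQX) <| mem_inf.mpr ⟨by
        rw [show r p'.2 * (r p.2)⁻¹ = (p'.1 : G)⁻¹ * p.1 by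
          rw [eq_inv_mul_iff_mul_eq, ← mul_assoc, ← h0, mul_inv_cancel_right]]
        exact mul_mem (inv_mem p'.1.2) p.1.2, Q.mul_mem (hrQ _) (Q.inv_mem (hrQ _))⟩
      have h2 : p.2 = p'.2 := Subtype.ext (by
        rw [← hr p.2, ← hr p'.2, show r p'.2 = r p'.2 * (r p.2)⁻¹ * r p.2 by group,
          (h.central _ hd _ (h.le (hrQ p.2))).symm.mul_mul_mul_comm]
        · rw [h.sq _ hd, one_mul])
      rw [h2] at h0
      exact Prod.ext (Subtype.ext (mul_right_cancel h0)) h2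
    have hcQ : Nat.card (⁅R, A⁆ ⊓ centralizer {u} : Subgroup G) ≤ Nat.card Q :=
      card_le_of_le fun k hk =>
        h.mem_Q_of_commute hu hk.1 (mem_centralizer_singleton_iff.mp hk.2)
    calc Nat.card (⁅R, A⁆ : Subgroup G)
        ≤ Nat.card Q * Nat.card (nxt R R : Subgroup G) :=
          ((card_le_centralized_mul (K := ⁅R, A⁆) (T := nxt R R) u fun g hg =>
            comm_mem_nxt (h.commutator_le hg) h.u_mem).1).trans (Nat.mul_le_mul_right _ hcQ)
      _ = Nat.card E * (Nat.card (nxt R R : Subgroup G) * Nat.card E) := by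
          rw [h.card_Q hs hQE]; ring
      _ ≤ _ := Nat.mul_le_mul_left _ h1
  · obtain ⟨huH, R', htd, -⟩ := h.exists_torusData hs hQX hmulti
    set H := normalizer (Q : Set G) with hH
    set π := QuotientGroup.mk' (Q.subgroupOf H) with hπ
    have hKbar : img Q ⁅R, A⁆ = ⁅img Q R, img Q A⁆ := by
      rw [img, img, img, ← map_commutator]
      congr 1
      apply map_injective H.subtype_injective
      rw [map_commutator, map_subgroupOf_eq_of_le hRQ, map_subgroupOf_eq_of_le h.normQ,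
        map_subgroupOf_eq_of_le (h.commutator_le.trans hRQ)]
    have hΦ : nxt R R ≤ ((nxt (img Q R) (img Q R)).comap π).map H.subtype :=
      h.nxt_le_of_sq fun g hg => ⟨⟨g, hRQ hg⟩ * ⟨g, hRQ hg⟩, by
        show π _ ∈ nxt (img Q R) (img Q R)
        rw [_root_.map_mul]
        exact sq_mem_nxt (mem_img_iff.mpr ⟨⟨g, hRQ hg⟩, hg, rfl⟩), rfl⟩
    obtain ⟨z, hz, hzn⟩ := SetLike.exists_of_lt htd.nxt_lt_commutator
    rw [← hKbar] at hz
    obtain ⟨w, hw, rfl⟩ := mem_img_iff.mp hz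
    obtain ⟨y, hy, q, hq, hyq⟩ := hmem _ (hle hw)
    obtain ⟨y', hy', rfl⟩ := hΦ hy
    refine hzn ?_
    rw [show (w : H ⧸ Q.subgroupOf H) = y' from (QuotientGroup.eq.mpr (mem_subgroupOf.mpr (by
      show (y' : G)⁻¹ * w ∈ Q
      rw [← hyq, H.coe_subtype, inv_mul_cancel_left]
      exact hq))).symm]
    exact hy'
  · obtain ⟨y, hy, q, hq, rfl⟩ := hmem n hn
    obtain ⟨m, hm, hmy⟩ := h.exists_comm_of_le_zTwo hs hQX hmulti y hy
    set q' := m⁻¹ * q * m with hq'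
    have hq'Q : q' ∈ Q := by
      have := (mem_normalizer_iff.mp (hRQ (inv_mem hm)) q).mp hq
      rwa [inv_inv] at this
    have e : y * q * u = m * (u * q') * m⁻¹ := by
      rw [mul_assoc, (h.commute q hq).eq, ← mul_assoc, hq', ← hmy, commutatorElement_def]
      group
    have h1 : u * q' * (u * q') = 1 := by
      rw [e] at hn2
      have h2 : m * (u * q' * (u * q')) * m⁻¹ = 1 := by rw [← hn2]; group
      exact conj_eq_one_iff.mp h2
    rw [(h.commute q' hq'Q).mul_mul_mul_comm, h.sq_u, one_mul] at h1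
    have hqE : q ∈ E := by
      rw [show q = m * q' * m⁻¹ by rw [hq']; group, h.conj_E hm (h.omega q' hq'Q h1)]
      exact h.omega q' hq'Q h1
    exact mul_mem hy (E_le_nxt h hQE hqE)

/-- `N` when `Q` lies outside the second centre. -/
theorem layers_of_not_le (hQX : ¬ Q ≤ h.zTwo) :
    h.zTwo ≤ nxt R R ∧
      Nat.card (⁅R, A⁆ : Subgroup G) ≤ Nat.card E * Nat.card (nxt R R : Subgroup G) := by
  classical
  have hu := h.u_notMem_commutator (Or.inl hs)
  have hAΦ : A ≤ normalizer (nxt R R : Set G) := norm_nxt h.normM h.normM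
  have hXΦ : h.zTwo ≤ nxt R R := by
    obtain ⟨r, hr, q, hq, hrq⟩ : ∃ r ∈ R, ∃ q ∈ Q, ⁅r, q⁆ ∉ E := by
      by_contra hc
      push Not at hc
      exact hQX fun q hq => ⟨h.le hq, fun r hr => hc r hr q hq⟩
    intro z hz
    by_cases hzE : z ∈ E
    · exact E_le_nxt h hQE hzE
    obtain ⟨a, ha, haz⟩ := h.trans_zTwo hs hQE hmulti hQX
      (h.comm_Q_mem_zTwo hs hQE hmulti hQX r hr q hq) hrq hz hzE
    have h1 := mul_mem ((mem_normalizer_iff.mp (hAΦ ha) _).mp (comm_mem_nxt hr (h.le hq)))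
      (E_le_nxt h hQE haz)
    rwa [mul_inv_cancel_left] at h1
  refine ⟨hXΦ, ?_⟩
  have hinv2 : ∀ g : G, ⁅g, u⁆ * u * (⁅g, u⁆ * u) = 1 := fun g => by
    rw [show ⁅g, u⁆ * u * (⁅g, u⁆ * u) = ⁅g, u⁆ * (u * ⁅g, u⁆ * u) by group, h.comm_comm_u,
      mul_inv_cancel]
  have hQΦ : Q ≤ nxt R R := by
    obtain ⟨g, hg, hgu⟩ : ∃ g ∈ R, ⁅g, u⁆ ∉ E := by
      by_contra hcon
      push Not at hcon
      exact hmulti ⟨h.u_mem, hcon⟩
    have hgΦ : ⁅g, u⁆ ∈ nxt R R := comm_mem_nxt hg h.u_mem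
    obtain ⟨x, hx, q, hq, hxq, -⟩ := h.exists_graph hs hQE hmulti hQX hgΦ (hinv2 g)
    have hqE : q ∉ E := fun hqE => hgu (h.mem_E_of_comm_u_mem_zTwo hs hQE hmulti hQX (by
      rw [hxq]; exact mul_mem hx (h.E_le_zTwo hqE)))
    refine h.Q_le_of_mem hs hAΦ (E_le_nxt h hQE) ?_ hq hqE
    have := mul_mem (inv_mem (hXΦ hx)) hgΦ
    rwa [hxq, inv_mul_cancel_left] at this
  choose ξ hξ hξe using fun e : E => h.exists_comm_eq hs hQE hmulti hQX e.2
  have hlow : Nat.card E * Nat.card Q ≤ Nat.card (nxt R R : Subgroup G) := by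
    rw [← Nat.card_prod]
    refine Nat.card_le_card_of_injective (fun p : E × Q =>
      (⟨ξ p.1 * p.2, mul_mem (hXΦ (hξ p.1)) (hQΦ p.2.2)⟩ : (nxt R R : Subgroup G))) fun p p' hp => ?_
    have h0 : ξ p.1 * (p.2 : G) = ξ p'.1 * p'.2 := congrArg Subtype.val hp
    have hc : ∀ (e : E) (q : Q), ⁅ξ e * (q : G), u⁆ = e := fun e q => by
      have hqu : ⁅(q : G), u⁆ = 1 := commutatorElement_eq_one_iff_commute.mpr (h.commute q q.2)
      rw [h.comm_mul_left (h.zTwo_le (hξ e)) (hqu ▸ E.one_mem), hqu, one_mul, hξe]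
    have h1 : p.1 = p'.1 := Subtype.ext (by rw [← hc p.1 p.2, ← hc p'.1 p'.2, h0])
    rw [h1] at h0
    exact Prod.ext h1 (Subtype.ext (mul_left_cancel h0))
  have hpar : ∀ k : (⁅R, A⁆ : Subgroup G), ∃ q : Q,
      ⁅(k : G), u⁆ = ξ ⟨(q : G) * q, h.sq_mem q q.2⟩ * q := by
    intro k
    obtain ⟨x, hx, q, hq, hxq, hxu⟩ := h.exists_graph hs hQE hmulti hQX
      (comm_mem_nxt (h.commutator_le k.2) h.u_mem) (hinv2 _)
    set d := (ξ ⟨q * q, h.sq_mem q hq⟩)⁻¹ * x with hd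
    have hdE : d ∈ E := h.inv_mul_mem_of_comm_eq hs hQE hmulti hQX (hξ _) hx (by rw [hξe, hxu])
    have hsq : d * q * (d * q) = q * q := by
      rw [(h.central d hdE q (h.le hq)).symm.mul_mul_mul_comm, h.sq d hdE, one_mul]
    refine ⟨⟨d * q, Q.mul_mem (h.le_E hdE) hq⟩, ?_⟩
    rw [show (⟨d * q * (d * q), h.sq_mem _ (Q.mul_mem (h.le_E hdE) hq)⟩ : E) =
      ⟨q * q, h.sq_mem q hq⟩ from Subtype.ext hsq, hxq]
    show x * q = ξ ⟨q * q, h.sq_mem q hq⟩ * ((ξ ⟨q * q, h.sq_mem q hq⟩)⁻¹ * x * q)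
    group
  choose qq hqq using hpar
  have hle : Nat.card (⁅R, A⁆ : Subgroup G) ≤ Nat.card Q * Nat.card Q := by
    rw [← Nat.card_prod]
    have hcomm : ∀ k l, qq k = qq l → ⁅((k : (⁅R, A⁆ : Subgroup G)) : G), u⁆ = ⁅(l : G), u⁆ :=
      fun k l e => by rw [hqq k, hqq l, e]
    let f : (⁅R, A⁆ : Subgroup G) → Q × Q := fun k =>
      (⟨((Function.invFun qq (qq k) : (⁅R, A⁆ : Subgroup G)) : G)⁻¹ * k,
        inv_mul_mem_Q h hu k.2 (Function.invFun qq (qq k)).2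
          (hcomm _ _ (Function.invFun_eq ⟨k, rfl⟩).symm)⟩, qq k)
    refine Nat.card_le_card_of_injective f fun k l e => ?_
    simp only [f, Prod.mk.injEq, Subtype.mk.injEq] at e
    rw [e.2] at e
    exact Subtype.ext (mul_left_cancel e.1)
  calc Nat.card (⁅R, A⁆ : Subgroup G) ≤ Nat.card Q * Nat.card Q := hle
    _ = Nat.card E * (Nat.card E * Nat.card Q) := by rw [h.card_Q hs hQE]; ring
    _ ≤ _ := Nat.mul_le_mul_left _ hlow

/-- Several layers: the subgroup `N`. -/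
theorem exists_class_layers :
    ∃ N : Subgroup G, N ≤ ⁅R, A⁆ ∧ nxt R R ≤ N ∧
      (∀ g ∈ normalizer (R : Set G), g ∈ normalizer (E : Set G) → ∀ n ∈ N, g * n * g⁻¹ ∈ N) ∧
      Nat.card (⁅R, A⁆ : Subgroup G) = Nat.card E * Nat.card N ∧
      ∀ n ∈ N, n * u * (n * u) = 1 → ∃ c ∈ R, c * u * c⁻¹ = n * u := by
  set N := nxt R R ⊔ h.zTwo with hN
  have hNK : N ≤ ⁅R, A⁆ :=
    sup_le h.nxt_le_commutator (h.le_commutator h.zTwo_le h.normA_zTwo hmulti)
  have hinv : ∀ g ∈ normalizer (R : Set G), g ∈ normalizer (E : Set G) →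
      ∀ n ∈ N, g * n * g⁻¹ ∈ N := by
    intro g hgR hgE n hn
    have hle : N ≤ N.comap (MulAut.conj g).toMonoidHom := sup_le
      (fun y hy => mem_sup_left
        ((mem_normalizer_iff.mp (norm_nxt le_rfl le_rfl hgR) y).mp hy))
      fun z hz => mem_sup_right (conj_mem_zTwo h hgR hgE hz)
    exact hle hn
  obtain ⟨hupper, hne, hfill⟩ : Nat.card (⁅R, A⁆ : Subgroup G) ≤ Nat.card E * Nat.card N ∧
      ¬ ⁅R, A⁆ ≤ N ∧ ∀ n ∈ N, n * u * (n * u) = 1 → n ∈ nxt R R := by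
    by_cases hQX : Q ≤ h.zTwo
    · exact layers_of_le h hs hQE hmulti (hQX := hQX)
    · obtain ⟨h1, h2⟩ := layers_of_not_le h hs hQE hmulti (hQX := hQX)
      rw [hN, sup_eq_left.mpr h1]
      exact ⟨h2, h.nxt_lt_commutator.not_ge, fun n hn _ => hn⟩
  obtain ⟨g, hg, hgN⟩ := SetLike.not_le_iff_exists.mp hne
  refine ⟨N, hNK, le_sup_left, hinv, le_antisymm hupper ?_, fun n hn hn2 =>
    h.exists_conj_of_nxt hs hQE hmulti (hfill n hn hn2) hn2⟩
  exact (card_mul_le_section h hNK h.commutator_le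
    (le_normalizer_iff.mpr fun a ha n hn => hinv a (h.normM ha) (h.normE ha) n hn)
    h.normA_commutator (h.u_notMem_commutator (Or.inl hs)) hg hgN).1

/-- Several layers: an element normalising `R` and `E` moves `u` outside `⁅R, A⁆`. -/
theorem conj_mul_mem_layers {g : G} (hgR : g ∈ normalizer (R : Set G))
    (hgE : g ∈ normalizer (E : Set G)) : g * u * g⁻¹ * u ∈ ⁅R, A⁆ := by
  refine (h.mem_or_mul_mem ((mem_normalizer_iff.mp hgR u).mp h.u_mem)).resolve_left fun hv => ?_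
  by_cases hQX : Q ≤ h.zTwo
  · exact h.not_small_of_le_zTwo hs hQX hmulti hv (card_centralizer_conj_le h hgR)
  have hback : ∀ z, g⁻¹ * z * g ∈ E → z ∈ E := fun z hz => by
    have := (mem_normalizer_iff.mp hgE _).mp hz
    rwa [show g * (g⁻¹ * z * g) * g⁻¹ = z by group] at this
  refine h.false_of_omega hs hQE hmulti hQX hv
    (fun hvE => h.u_notMem_E ((mem_normalizer_iff.mp hgE u).mpr hvE))
    (by rw [conj_mul, h.sq_u, mul_one, mul_inv_cancel]) fun y hy hy2 hyv => ?_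
  have hsq : g⁻¹ * y * g * (g⁻¹ * y * g) = 1 := by
    rw [show g⁻¹ * y * g * (g⁻¹ * y * g) = g⁻¹ * (y * y) * g by group, hy2]; group
  rcases mem_cases_of_commute_conj h hgR hy hyv with h1 | h1
  · exact Or.inl (hback y (h.omega _ h1 hsq))
  · refine Or.inr (hback _ ?_)
    have hc : Commute (g⁻¹ * y * g) u := by
      have h2 := commute_conj hyv g⁻¹
      rw [inv_inv] at h2
      rwa [show g⁻¹ * (g * u * g⁻¹) * g = u by group] at h2
    rw [show g⁻¹ * (y * (g * u * g⁻¹)) * g = g⁻¹ * y * g * u by group]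
    exact h.omega _ h1 (by rw [hc.symm.mul_mul_mul_comm, hsq, h.sq_u, mul_one])

end Cfsg.Agent.H72.Asch
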