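import Cfsg.Agent.H26.Asch.Classes
import Cfsg.Agent.H51.Asch.Weights
import Cfsg.Agent.Coprime.Action

/-!
CLASS for a Sylow two-subgroup `R` of `C(E)` at `x` of any shape.  The elements of `classGroup`
centralising `E` act on `R` modulo its Frattini part through a group of odd order; the norm map of
this action fixes the class of `u`, its kernel gives the subgroup `N` of `ClassData` and its fixed
points the quotient `K / N`.
-/

set_option autoImplicit false
set_option linter.style.haveILetI false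
set_option linter.unusedSectionVars false

namespace Cfsg.Agent.H72.Asch

open Subgroup MulAction
open Cfsg.Agent.H6.Asch (normAt centAt)
open Cfsg.Agent.H26.Asch (classGroup ClassData ClassResidue centAt_le_normAt' mem_centAt')
open Cfsg.Agent.H51.Asch (nxt nxt_le norm_nxt sq_mem_nxt comm_mem_nxt)
open scoped commutatorElement

universe u v

variable {G : Type u} [Group G] {Ω : Type v} [MulAction G Ω]

/-- The data of CLASS without a subgroup `N`. -/
structure FixData (u : G) (x : Ω) (E R K A : Subgroup G) : Prop where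
  R_two : IsPGroup 2 R
  R_le : R ≤ centAt x E
  R_max : ∀ P : Subgroup G, IsPGroup 2 P → P ≤ centAt x E → R ≤ P → P ≤ R
  u_mem : u ∈ R
  sq_u : u * u = 1
  E_two : ∀ e ∈ E, e * e = 1
  four_le : 4 ≤ Nat.card E
  K_le : K ≤ R
  K_cases : ∀ g ∈ R, g ∈ K ∨ g * u ∈ K
  u_notMem : u ∉ K
  nxt_le : nxt R R ≤ K
  A_le : A ≤ classGroup x E R
  A_odd : Odd (Nat.card A)
  A_commute : ∀ a ∈ A, Commute a u
  A_comm : ∀ a ∈ A, ∀ b ∈ A, Commute a b
  trans : ∀ a ∈ E, ∀ b ∈ E, a ≠ 1 → b ≠ 1 → ∃ k ∈ A, k * a * k⁻¹ = b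
  K_invariant : ∀ a ∈ A, ∀ k ∈ K, a * k * a⁻¹ ∈ K
  A_fix : ∀ c ∈ R, (∀ a ∈ A, Commute a c) → c ∈ zpowers u
  conj_mul_mem : ∀ g ∈ classGroup x E R, g * u * g⁻¹ * u ∈ K
  /-- The coset of the Frattini part holds one class. -/
  fill : ∀ n ∈ nxt R R, ∃ c ∈ R, c * u * c⁻¹ = n * u
  /-- The elements centralising `u` normalise the image of the torus on `E`. -/
  torus_norm : ∀ g ∈ classGroup x E R, Commute g u → ∀ a ∈ A, ∃ b ∈ A,
    b⁻¹ * (g * a * g⁻¹) ∈ centAt x E

/-- The averaging map over a group of automorphisms. -/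
noncomputable def normMap {M : Type*} [CommGroup M] (H : Subgroup (MulAut M)) [Fintype H] :
    M →* M where
  toFun m := ∏ s : H, (s : MulAut M) m
  map_one' := by simp
  map_mul' a b := by simp [Finset.prod_mul_distrib]

theorem normMap_apply {M : Type*} [CommGroup M] (H : Subgroup (MulAut M)) [Fintype H] (m : M) :
    normMap H m = ∏ s : H, (s : MulAut M) m := rfl

theorem normMap_fixed {M : Type*} [CommGroup M] (H : Subgroup (MulAut M)) [Fintype H] {s : MulAut M}
    (hs : s ∈ H) (m : M) : normMap H (s m) = normMap H m :=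
  Fintype.prod_equiv (Equiv.mulRight (⟨s, hs⟩ : H)) _ _ fun _ => rfl

theorem fixed_normMap {M : Type*} [CommGroup M] (H : Subgroup (MulAut M)) [Fintype H] {s : MulAut M}
    (hs : s ∈ H) (m : M) : s (normMap H m) = normMap H m := by
  rw [normMap_apply, map_prod]
  exact Fintype.prod_equiv (Equiv.mulLeft (⟨s, hs⟩ : H)) _ _ fun _ => rfl

theorem normMap_of_fixed {M : Type*} [CommGroup M] (H : Subgroup (MulAut M)) [Fintype H] {m : M}
    (hodd : Odd (Fintype.card H)) (hm2 : m * m = 1) (h : ∀ s ∈ H, s m = m) : normMap H m = m := by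
  rw [normMap_apply, Finset.prod_congr rfl fun (s : H) _ => h s s.2, Finset.prod_const,
    Finset.card_univ]
  obtain ⟨k, hk⟩ := hodd
  rw [hk, pow_succ, pow_mul, pow_two, hm2, one_pow, one_mul]

theorem map_normMap {M : Type*} [CommGroup M] (H : Subgroup (MulAut M)) [Fintype H] {g : MulAut M}
    (hg : ∀ s ∈ H, g⁻¹ * s * g ∈ H) (hg' : ∀ s ∈ H, g * s * g⁻¹ ∈ H) (m : M) :
    g (normMap H m) = normMap H (g m) := by
  rw [normMap_apply, normMap_apply, map_prod]
  refine Fintype.prod_equiv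
    { toFun := fun s : H => ⟨g * s * g⁻¹, hg' s s.2⟩
      invFun := fun s : H => ⟨g⁻¹ * s * g, hg s s.2⟩
      left_inv := fun s => Subtype.ext (by simp [mul_assoc])
      right_inv := fun s => Subtype.ext (by simp [mul_assoc]) } _ _ fun s => ?_
  simp

namespace FixData

variable [Finite G] {u : G} {x : Ω} {E R K A : Subgroup G} (h : FixData u x E R K A)
include h

omit [Finite G] in
theorem centAt_conj {g c : G} (hg : g ∈ normAt x E) (hc : c ∈ centAt x E) :
    g * c * g⁻¹ ∈ centAt x E := by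
  obtain ⟨hgx, hgE⟩ := mem_inf.mp hg
  rw [mem_stabilizer_iff] at hgx
  obtain ⟨hcx, hce⟩ := mem_centAt'.mp hc
  refine mem_centAt'.mpr ⟨by rw [mul_smul, mul_smul, inv_smul_eq_iff.mpr hgx.symm, hcx, hgx],
    fun e he => ?_⟩
  have h1 := hce _ ((mem_normalizer_iff.mp (inv_mem hgE) e).mp he)
  rw [inv_inv] at h1
  calc g * c * g⁻¹ * e * (g * c * g⁻¹)⁻¹ = g * (c * (g⁻¹ * e * g) * c⁻¹) * g⁻¹ := by group
    _ = e := by rw [h1]; group

theorem exists_frattini {g : G} (hg : g ∈ normAt x E) :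
    ∃ c ∈ centAt x E, c * g ∈ classGroup x E R := by
  obtain ⟨c, hc, hcR⟩ := H14.Asch.exists_conj_le_of_maximal h.R_two h.R_le h.R_max
    (R := R.map (MulAut.conj g).toMonoidHom) (h.R_two.map _) (by
      rintro _ ⟨r, hr, rfl⟩
      exact h.centAt_conj hg (h.R_le hr))
  refine ⟨c, hc, mem_inf.mpr ⟨(normAt x E).mul_mem (centAt_le_normAt' x E hc) hg,
    Coprime.mem_normalizer_of_map_conj (Subgroup.eq_of_le_of_card_ge ?_ (by
      rw [Subgroup.card_map_of_injective (f := (MulAut.conj (c * g)).toMonoidHom)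
        (MulAut.conj (c * g)).injective]))⟩⟩
  rintro _ ⟨r, hr, rfl⟩
  show c * g * r * (c * g)⁻¹ ∈ R
  have h1 := hcR (g * r * g⁻¹) ⟨r, hr, rfl⟩
  rwa [show c * g * r * (c * g)⁻¹ = c * (g * r * g⁻¹) * c⁻¹ by group]

omit [Finite G] in
theorem zpowers_cases {c : G} (hc : c ∈ zpowers u) : c = 1 ∨ c = u := by
  obtain ⟨i, rfl⟩ := mem_zpowers_iff.mp hc
  rcases Int.even_or_odd i with ⟨j, rfl⟩ | ⟨j, rfl⟩
  · left; rw [← two_mul, zpow_mul, zpow_two, h.sq_u, one_zpow]
  · right; rw [zpow_add, zpow_mul, zpow_two, h.sq_u, one_zpow, one_mul, zpow_one]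

/-- An `A`-invariant coset in `R` contains `1` or `u`. -/
theorem exists_fixed_cases {S : Subgroup G} (hS : S ≤ R) (hAS : A ≤ normalizer (S : Set G)) {r : G}
    (hr : r ∈ R) (hfix : ∀ a ∈ A, r⁻¹ * (a * r * a⁻¹) ∈ S) :
    ∃ c : G, (c = 1 ∨ c = u) ∧ r⁻¹ * c ∈ S := by
  haveI : Fact (Nat.Prime 2) := ⟨Nat.prime_two⟩
  haveI := h.R_two.isNilpotent
  obtain ⟨n, hn⟩ := IsPGroup.iff_card.mp h.R_two
  obtain ⟨c, hc, hcS⟩ := Coprime.exists_centralizer_mem_coset (h.A_le.trans inf_le_right)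
    (by rw [hn]; exact (Nat.coprime_two_right.mpr h.A_odd).pow_right n)
    (Or.inr inferInstance) hS hAS hr hfix
  exact ⟨c, h.zpowers_cases (h.A_fix c hc.1 fun a ha => mem_centralizer_iff.mp hc.2 a ha), hcS⟩

/-- **CLASS in the fixed quotient**, or the residue. -/
theorem fused_or_residue
    (htop : ∀ W : Subgroup G, nxt R R ≤ W → W ≤ K → A ≤ normalizer (W : Set G) →
      (∀ y ∈ classGroup x E R ⊓ centAt x E, ∀ w ∈ W, ⁅y, w⁆ ∈ nxt R R) → ¬ W ≤ nxt R R →
      Nat.card W = Nat.card E * Nat.card (nxt R R : Subgroup G) ∧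
        ∀ k ∈ W, ∀ l ∈ W, k ∉ nxt R R → l ∉ nxt R R →
          ∃ a ∈ A, a * k * a⁻¹ * l⁻¹ ∈ nxt R R) :
    (∀ g ∈ normAt x E, ∃ c ∈ centAt x E, g * u * g⁻¹ = c * u * c⁻¹) ∨
      ∃ N : Subgroup G, ClassResidue u x E R K N A := by
  classical
  haveI : Fact (Nat.Prime 2) := ⟨Nat.prime_two⟩
  set C := classGroup x E R with hC
  set Φ := nxt R R with hΦ
  have hRC : R ≤ C := le_inf (h.R_le.trans (centAt_le_normAt' x E)) le_normalizer
  have hΦR : Φ ≤ R := Cfsg.Agent.H51.Asch.nxt_le le_normalizer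
  have hCΦ : C ≤ normalizer (Φ : Set G) := norm_nxt inf_le_right inf_le_right
  haveI hΦn : (Φ.subgroupOf C).Normal :=
    ⟨fun n hn g => mem_subgroupOf.mpr ((mem_normalizer_iff.mp (hCΦ g.2) n).mp (mem_subgroupOf.mp hn))⟩
  haveI hRn : (R.subgroupOf C).Normal :=
    ⟨fun n hn g => mem_subgroupOf.mpr
      ((mem_normalizer_iff.mp (mem_inf.mp g.2).2 n).mp (mem_subgroupOf.mp hn))⟩
  let q := QuotientGroup.mk' (Φ.subgroupOf C)
  have hq : ∀ a b : C, q a = q b ↔ (a : G)⁻¹ * b ∈ Φ := fun a b => by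
    rw [QuotientGroup.mk'_apply, QuotientGroup.mk'_apply, QuotientGroup.eq]
    rfl
  set RQ : Subgroup (C ⧸ Φ.subgroupOf C) := (R.subgroupOf C).map q with hRQ
  haveI : RQ.Normal := hRn.map q (QuotientGroup.mk'_surjective _)
  have hcomm : ∀ a b : RQ, a * b = b * a := by
    rintro ⟨_, a, ha, rfl⟩ ⟨_, b, hb, rfl⟩
    refine Subtype.ext ?_
    show q a * q b = q b * q a
    rw [← _root_.map_mul, ← _root_.map_mul, hq]
    have h1 := comm_mem_nxt (R.inv_mem (mem_subgroupOf.mp hb)) (R.inv_mem (mem_subgroupOf.mp ha))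
    rw [commutatorElement_def] at h1
    push_cast
    convert h1 using 1
    group
  letI : CommGroup RQ := { (inferInstance : Group RQ) with mul_comm := hcomm }
  let η : C →* MulAut RQ := (MulAut.conjNormal (H := RQ)).comp q
  -- classes of elements of `R`
  let bar : R →* RQ :=
    (q.comp (Subgroup.inclusion hRC)).codRestrict RQ fun r => ⟨_, mem_subgroupOf.mpr r.2, rfl⟩
  have hbar : ∀ a b : R, bar a = bar b ↔ (a : G)⁻¹ * b ∈ Φ := fun a b => by
    rw [Subtype.ext_iff]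
    exact hq ⟨a, hRC a.2⟩ ⟨b, hRC b.2⟩
  have hbar1 : ∀ a : R, bar a = 1 ↔ (a : G) ∈ Φ := fun a => by
    rw [← _root_.map_one bar, hbar]
    simp
  have hbarsurj : Function.Surjective bar := by
    rintro ⟨_, r, hr, rfl⟩
    exact ⟨⟨r, mem_subgroupOf.mp hr⟩, rfl⟩
  have hCR : ∀ (g : C) (r : R), (g : G) * r * (g : G)⁻¹ ∈ R := fun g r =>
    (mem_normalizer_iff.mp (mem_inf.mp g.2).2 r).mp r.2
  have hη : ∀ (g : C) (r : R), η g (bar r) = bar ⟨_, hCR g r⟩ := fun g r => by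
    refine Subtype.ext ?_
    show ((MulAut.conjNormal (q g) (bar r) : RQ) : C ⧸ Φ.subgroupOf C) = _
    rw [MulAut.conjNormal_apply]
    show q g * q ⟨r, hRC r.2⟩ * (q g)⁻¹ = q _
    rw [← _root_.map_mul, ← _root_.map_inv, ← _root_.map_mul]
    rfl
  have hsq2 : ∀ m : RQ, m * m = 1 := fun m => by
    obtain ⟨r, rfl⟩ := hbarsurj m
    rw [← _root_.map_mul, hbar1]
    exact sq_mem_nxt r.2
  -- the odd group of the action of `C(E)`
  set Y : Subgroup G := C ⊓ centAt x E with hY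
  have hRY : R ≤ Y := le_inf hRC h.R_le
  set H : Subgroup (MulAut RQ) := ((centAt x E).subgroupOf C).map η with hH
  haveI : Finite H := by
    haveI : Finite (MulAut RQ) :=
      Finite.of_injective (fun f : MulAut RQ => ((f : RQ ≃* RQ) : RQ → RQ)) DFunLike.coe_injective
    infer_instance
  letI : Fintype H := Fintype.ofFinite H
  have hodd : Odd (Fintype.card H) := by
    let ψ : Y →* MulAut RQ := η.comp (Subgroup.inclusion inf_le_left)
    have hrange : ψ.range = H := by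
      ext s
      constructor
      · rintro ⟨y, rfl⟩
        exact ⟨⟨y, y.2.1⟩, mem_subgroupOf.mpr y.2.2, rfl⟩
      · rintro ⟨g, hg, rfl⟩
        exact ⟨⟨g, g.2, mem_subgroupOf.mp hg⟩, rfl⟩
    have hle : R.subgroupOf Y ≤ ψ.ker := by
      intro y hy
      rw [MonoidHom.mem_ker]
      refine MulEquiv.ext fun m => ?_
      obtain ⟨r, rfl⟩ := hbarsurj m
      show η ⟨y, y.2.1⟩ (bar r) = bar r
      rw [hη, hbar]
      show ((y : G) * r * (y : G)⁻¹)⁻¹ * r ∈ Φ
      have h1 := comm_mem_nxt (mem_subgroupOf.mp hy) (R.inv_mem r.2)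
      rw [commutatorElement_def] at h1
      convert h1 using 1
      group
    let S : Sylow 2 Y :=
      { toSubgroup := R.subgroupOf Y
        isPGroup' := h.R_two.of_equiv (subgroupOfEquivOfLe hRY).symm
        is_maximal' := fun {P} hP hle' => le_antisymm (fun y hy => mem_subgroupOf.mpr
          (h.R_max (P.map Y.subtype) (hP.map _)
            ((map_subtype_le P).trans inf_le_right)
            (fun r hr => ⟨⟨r, hRY hr⟩, hle' (mem_subgroupOf.mpr hr), rfl⟩) ⟨y, hy, rfl⟩)) hle' }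
    rw [← Nat.card_eq_fintype_card, ← hrange, ← Subgroup.index_ker]
    exact Odd.of_dvd_nat (Nat.odd_iff.mpr (Nat.two_dvd_ne_zero.mp S.not_dvd_index))
      (Subgroup.index_dvd_of_le hle)
  have hHnorm : ∀ g : C, ∀ s ∈ H, η g * s * (η g)⁻¹ ∈ H := by
    rintro g _ ⟨y, hy, rfl⟩
    refine ⟨g * y * g⁻¹, mem_subgroupOf.mpr
      (h.centAt_conj (mem_inf.mp g.2).1 (mem_subgroupOf.mp hy)), ?_⟩
    rw [_root_.map_mul, _root_.map_mul, _root_.map_inv]
  set π := normMap H with hπ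
  have hπequiv : ∀ (g : C) (m : RQ), η g (π m) = π (η g m) := fun g m =>
    map_normMap H (fun s hs => by
      have h1 := hHnorm g⁻¹ s hs
      rwa [_root_.map_inv, inv_inv] at h1) (hHnorm g) m
  have hfixH : ∀ {m : RQ}, (∀ s ∈ H, s m = m) → π m = m := fun {m} hm =>
    normMap_of_fixed H hodd (hsq2 m) hm
  have hπidem : ∀ m : RQ, π (π m) = π m := fun m => hfixH fun s hs => fixed_normMap H hs m
  -- the class of `u`
  set uR : R := ⟨u, h.u_mem⟩ with huR
  set KR : Subgroup RQ := (K.subgroupOf R).map bar with hKR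
  have hKRmem : ∀ r : R, bar r ∈ KR → (r : G) ∈ K := by
    rintro r ⟨k, hk, hkr⟩
    have h1 := K.mul_mem (mem_subgroupOf.mp hk) (h.nxt_le ((hbar k r).mp hkr))
    rwa [mul_inv_cancel_left] at h1
  have huA : ∀ a ∈ A, ∀ a' : C, (a' : G) = a → η a' (bar uR) = bar uR := by
    intro a ha a' ha'
    rw [hη]
    congr 1
    refine Subtype.ext ?_
    show (a' : G) * u * (a' : G)⁻¹ = u
    rw [ha']
    exact mul_inv_eq_iff_eq_mul.mpr (h.A_commute a ha)
  have hπu : π (bar uR) = bar uR := by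
    obtain ⟨r, hr⟩ := hbarsurj (π (bar uR) * bar uR)
    have hKR' : bar r ∈ KR := by
      rw [hr, normMap_apply]
      have hpow : bar uR ^ (Fintype.card H + 1) = 1 := by
        obtain ⟨k, hk⟩ := hodd
        rw [hk, show 2 * k + 1 + 1 = 2 * (k + 1) by ring, pow_mul, pow_two, hsq2, one_pow]
      have e : (∏ s : H, (s : MulAut RQ) (bar uR)) * bar uR =
          ∏ s : H, ((s : MulAut RQ) (bar uR) * bar uR) := by
        rw [Finset.prod_mul_distrib, Finset.prod_const, Finset.card_univ]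
        congr 1
        rw [pow_succ] at hpow
        exact (inv_eq_of_mul_eq_one_left hpow).symm.trans (inv_eq_of_mul_eq_one_right (hsq2 _))
          |>.symm
      rw [e]
      refine Subgroup.prod_mem KR fun s _ => ?_
      obtain ⟨g, hg, hgs⟩ := s.2
      rw [← hgs, hη, ← _root_.map_mul]
      exact ⟨_, mem_subgroupOf.mpr (h.conj_mul_mem g g.2), rfl⟩
    have hrK := hKRmem r hKR'
    have hfixr : ∀ a ∈ A, (r : G)⁻¹ * (a * r * a⁻¹) ∈ Φ := by
      intro a ha
      have h1 : bar r = bar ⟨_, hCR ⟨a, h.A_le ha⟩ r⟩ := by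
        rw [← hη, hr, _root_.map_mul, hπequiv, huA a ha _ rfl]
      exact (hbar _ _).mp h1
    obtain ⟨c, hc, hcr⟩ := h.exists_fixed_cases hΦR (h.A_le.trans hCΦ) r.2 hfixr
    have hcK : c ∈ K := by
      have := K.mul_mem hrK (h.nxt_le hcr)
      rwa [mul_inv_cancel_left] at this
    rcases hc with rfl | rfl
    · have h1 : bar r = 1 := (hbar1 r).mpr (by simpa using inv_mem hcr)
      rw [h1] at hr
      exact (eq_inv_of_mul_eq_one_left hr.symm).trans (inv_eq_of_mul_eq_one_right (hsq2 _))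
    · exact absurd hcK h.u_notMem
  -- every class is fixed
  have hclass : ∀ g : C, π (bar ⟨_, hCR g uR⟩) = bar ⟨_, hCR g uR⟩ := fun g => by
    rw [← hη, ← hπequiv, hπu]
  -- the kernel of the norm map
  set N : Subgroup G := ((π.comp bar).ker).map R.subtype with hN
  have hNmem : ∀ {n : G} (hn : n ∈ R), n ∈ N ↔ π (bar ⟨n, hn⟩) = 1 := fun {n} hn =>
    ⟨fun ⟨r, hr, e⟩ => by rw [show (⟨n, hn⟩ : R) = r from Subtype.ext e.symm]; exact hr,
      fun h1 => ⟨⟨n, hn⟩, h1, rfl⟩⟩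
  have hNR : N ≤ R := map_subtype_le _
  have hΦN : Φ ≤ N := fun n hn =>
    (hNmem (hΦR hn)).mpr (by rw [(hbar1 ⟨n, hΦR hn⟩).mpr hn, _root_.map_one])
  have hNinv : ∀ g ∈ C, ∀ n ∈ N, g * n * g⁻¹ ∈ N := by
    intro g hg n hn
    refine (hNmem (hCR ⟨g, hg⟩ ⟨n, hNR hn⟩)).mpr ?_
    rw [← hη ⟨g, hg⟩ ⟨n, hNR hn⟩, ← hπequiv, (hNmem (hNR hn)).mp hn, _root_.map_one]
  have hNK : N ≤ K := by
    intro n hn
    by_contra hnK
    have hnu := (h.K_cases n (hNR hn)).resolve_left hnK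
    have hfixn : ∀ a ∈ A, n⁻¹ * (a * n * a⁻¹) ∈ N ⊓ K := by
      intro a ha
      refine ⟨N.mul_mem (N.inv_mem hn) (hNinv a (h.A_le ha) n hn), ?_⟩
      have h1 := K.mul_mem (K.inv_mem hnu) (h.K_invariant a ha _ hnu)
      have h2 : a * u * a⁻¹ = u := mul_inv_eq_iff_eq_mul.mpr (h.A_commute a ha)
      have h3 : a * (n * u) * a⁻¹ = a * n * a⁻¹ * u := by
        rw [show a * (n * u) * a⁻¹ = a * n * a⁻¹ * (a * u * a⁻¹) by group, h2]
      rw [h3, mul_inv_rev] at h1
      rcases h.K_cases _ (R.mul_mem (R.inv_mem (hNR hn)) (hCR ⟨a, h.A_le ha⟩ ⟨n, hNR hn⟩)) with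
        h4 | h4
      · exact h4
      · exfalso
        set z := n⁻¹ * (a * n * a⁻¹) with hz
        have h5 : u * (z * u) ∈ K := by
          convert h1 using 1
          rw [hz, inv_eq_of_mul_eq_one_right h.sq_u]; group
        exact h.u_notMem (by simpa [mul_assoc] using K.mul_mem h5 (K.inv_mem h4))
    obtain ⟨c, hc, hcn⟩ := h.exists_fixed_cases (inf_le_left.trans hNR)
      (le_normalizer_iff.mpr fun a ha z hz => ⟨hNinv a (h.A_le ha) z hz.1, h.K_invariant a ha z hz.2⟩)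
      (hNR hn) hfixn
    have hcN : c ∈ N := by
      have := N.mul_mem hn hcn.1
      rwa [mul_inv_cancel_left] at this
    rcases hc with rfl | rfl
    · exact hnK (by simpa using K.inv_mem hcn.2)
    · have h1 : bar uR = 1 := hπu ▸ (hNmem h.u_mem).mp hcN
      exact h.u_notMem (h.nxt_le ((hbar1 uR).mp h1))
  have hinN : ∀ a b : R, π (bar a) = π (bar b) ↔ (a : G)⁻¹ * b ∈ N := fun a b => by
    rw [hNmem (R.mul_mem (R.inv_mem a.2) b.2), show (⟨(a : G)⁻¹ * b, _⟩ : R) = a⁻¹ * b from rfl,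
      _root_.map_mul, _root_.map_mul, _root_.map_inv, _root_.map_inv, inv_mul_eq_one]
  -- the fixed part of `K`
  set WR : Subgroup R :=
    { carrier := {r | (r : G) ∈ K ∧ π (bar r) = bar r}
      one_mem' := ⟨K.one_mem, by rw [_root_.map_one, _root_.map_one]⟩
      mul_mem' := fun {a b} ha hb => ⟨K.mul_mem ha.1 hb.1, by
        rw [_root_.map_mul, _root_.map_mul, ha.2, hb.2]⟩
      inv_mem' := fun {a} ha => ⟨K.inv_mem ha.1, by
        rw [_root_.map_inv, _root_.map_inv, ha.2]⟩ } with hWR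
  set W : Subgroup G := WR.map R.subtype with hW
  have hWmem : ∀ {w : G} (hw : w ∈ R), w ∈ W ↔ w ∈ K ∧ π (bar ⟨w, hw⟩) = bar ⟨w, hw⟩ :=
    fun {w} hw => ⟨fun ⟨r, hr, e⟩ => by
      subst e
      exact hr, fun h1 => ⟨⟨w, hw⟩, h1, rfl⟩⟩
  have hWR' : W ≤ R := map_subtype_le _
  have hWK : W ≤ K := fun w hw => ((hWmem (hWR' hw)).mp hw).1
  have hΦW : Φ ≤ W := fun n hn => (hWmem (hΦR hn)).mpr ⟨h.nxt_le hn, by
    rw [(hbar1 ⟨n, hΦR hn⟩).mpr hn, _root_.map_one]⟩
  -- representatives in `W`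
  have hrep : ∀ k ∈ K, ∃ w ∈ W, w⁻¹ * k ∈ N := by
    intro k hk
    obtain ⟨r, hr⟩ := hbarsurj (π (bar ⟨k, h.K_le hk⟩))
    have h1 : (r : G)⁻¹ * k ∈ N :=
      (hinN r ⟨k, h.K_le hk⟩).mp (by rw [hr, hπidem])
    have hrK : (r : G) ∈ K := by
      have := K.mul_mem hk (K.inv_mem (hNK h1))
      rwa [mul_inv_rev, inv_inv, mul_inv_cancel_left] at this
    exact ⟨r, (hWmem r.2).mpr ⟨hrK, by rw [hr, hπidem, ← hr]⟩, h1⟩
  by_cases hWΦ : W ≤ Φ
  · -- every class is the class of `u`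
    left
    intro g hg
    obtain ⟨c, hc, hcg⟩ := h.exists_frattini hg
    set g' := c * g with hg'
    have hk := h.conj_mul_mem g' hcg
    have hkW : g' * u * g'⁻¹ * u ∈ W := by
      refine (hWmem (h.K_le hk)).mpr ⟨hk, ?_⟩
      rw [show (⟨g' * u * g'⁻¹ * u, h.K_le hk⟩ : R) = ⟨_, hCR ⟨g', hcg⟩ uR⟩ * uR from rfl,
        _root_.map_mul, _root_.map_mul, hclass, hπu]
    obtain ⟨d, hd, hdu⟩ := h.fill _ (hWΦ hkW)
    refine ⟨c⁻¹ * d, (centAt x E).mul_mem ((centAt x E).inv_mem hc) (h.R_le hd), ?_⟩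
    calc g * u * g⁻¹ = c⁻¹ * (g' * u * g'⁻¹ * u * u) * c := by
          rw [mul_assoc _ u u, h.sq_u, mul_one, hg']; group
      _ = c⁻¹ * d * u * (c⁻¹ * d)⁻¹ := by rw [← hdu]; group
  obtain ⟨hWcard, hWtrans⟩ := htop W hΦW hWK
    (le_normalizer_iff.mpr fun a ha w hw => by
      have hwR := hWR' hw
      refine (hWmem (hCR ⟨a, h.A_le ha⟩ ⟨w, hwR⟩)).mpr ⟨h.K_invariant a ha w (hWK hw), ?_⟩
      rw [← hη ⟨a, h.A_le ha⟩ ⟨w, hwR⟩, ← hπequiv, ((hWmem hwR).mp hw).2])
    (fun y hy w hw => by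
      have hwR := hWR' hw
      have h1 : η ⟨y, hy.1⟩ (bar ⟨w, hwR⟩) = bar ⟨w, hwR⟩ := by
        rw [← ((hWmem hwR).mp hw).2]
        exact fixed_normMap H ⟨⟨y, hy.1⟩, mem_subgroupOf.mpr hy.2, rfl⟩ _
      rw [hη, hbar] at h1
      have h2 := inv_mem h1
      change ((y * w * y⁻¹)⁻¹ * w)⁻¹ ∈ Φ at h2
      have h3 := (mem_normalizer_iff.mp (hCΦ (hRC hwR)) _).mp h2
      convert h3 using 1
      rw [commutatorElement_def]; group) hWΦ
  have hWN : W ⊓ N = Φ := le_antisymm (fun z hz => by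
    have hzR := hNR hz.2
    rw [← hbar1 ⟨z, hzR⟩, ← ((hWmem hzR).mp hz.1).2]
    exact (hNmem hzR).mp hz.2) (le_inf hΦW hΦN)
  have hcard : Nat.card K = Nat.card E * Nat.card N := by
    let f : K →* RQ := (π.comp bar).comp (Subgroup.inclusion h.K_le)
    have hker : f.ker = N.subgroupOf K := by
      ext k
      rw [MonoidHom.mem_ker, mem_subgroupOf, hNmem (h.K_le k.2)]
      rfl
    let f' : W →* RQ := (π.comp bar).comp (Subgroup.inclusion hWR')
    have hker' : f'.ker = Φ.subgroupOf W := by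
      ext k
      rw [MonoidHom.mem_ker, mem_subgroupOf, ← SetLike.ext_iff.mp hWN, mem_inf, hNmem (hWR' k.2)]
      exact ⟨fun h1 => ⟨k.2, h1⟩, fun h1 => h1.2⟩
    have hrange : f.range = f'.range := by
      refine le_antisymm ?_ ?_
      · rintro _ ⟨k, rfl⟩
        obtain ⟨w, hw, hwk⟩ := hrep k k.2
        exact ⟨⟨w, hw⟩, (hinN ⟨w, hWR' hw⟩ ⟨k, h.K_le k.2⟩).mpr hwk⟩
      · rintro _ ⟨w, rfl⟩
        exact ⟨⟨w, hWK w.2⟩, rfl⟩
    have e1 : Nat.card K = f.ker.index * Nat.card f.ker := (Subgroup.index_mul_card _).symm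
    have e2 : Nat.card W = f'.ker.index * Nat.card f'.ker := (Subgroup.index_mul_card _).symm
    rw [Subgroup.index_ker, hker, Nat.card_congr (subgroupOfEquivOfLe hNK).toEquiv] at e1
    rw [Subgroup.index_ker, hker', Nat.card_congr (subgroupOfEquivOfLe hΦW).toEquiv, hWcard] at e2
    rw [e1, hrange, ← Nat.eq_of_mul_eq_mul_right Nat.card_pos e2]
  have hdata : ClassData u x E R K N A :=
    { R_two := h.R_two
      R_le := h.R_le
      R_max := h.R_max
      u_mem := h.u_mem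
      sq_u := h.sq_u
      E_two := h.E_two
      four_le := h.four_le
      K_le := h.K_le
      K_cases := h.K_cases
      u_notMem := h.u_notMem
      N_le := hNK
      sq_mem := fun g hg => hΦN (sq_mem_nxt hg)
      N_invariant := hNinv
      card_K := hcard
      A_le := h.A_le
      A_commute := h.A_commute
      A_comm := h.A_comm
      trans := h.trans
      K_invariant := h.K_invariant
      trans_top := fun k hk l hl hkN hlN => by
        obtain ⟨w, hw, hwk⟩ := hrep k hk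
        obtain ⟨w', hw', hwl⟩ := hrep l hl
        have hnot : ∀ {z k' : G}, z⁻¹ * k' ∈ N → k' ∉ N → z ∉ Φ := fun {z k'} h1 h2 hz => h2 (by
          have := N.mul_mem (hΦN hz) h1
          rwa [mul_inv_cancel_left] at this)
        obtain ⟨a, ha, hak⟩ := hWtrans w hw w' hw' (hnot hwk hkN) (hnot hwl hlN)
        refine ⟨a, ha, ?_⟩
        have haC := h.A_le ha
        set p := a * w * a⁻¹ with hp
        have hpC : p ∈ C := C.mul_mem (C.mul_mem haC (hRC (hWR' hw))) (C.inv_mem haC)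
        have hw'C : w' ∈ C := hRC (hWR' hw')
        have h1 := hNinv p hpC _ (hNinv a haC _ hwk)
        have h2 := hΦN hak
        have h3 := hNinv p hpC _ (hNinv w'⁻¹ (C.inv_mem hw'C) _ (hΦN hak))
        have h4 := hNinv w' hw'C _ (N.inv_mem hwl)
        have h5 := N.mul_mem (N.mul_mem h1 h2) h4
        convert h5 using 1
        rw [hp]; group
      conj_mul_mem := h.conj_mul_mem
      filled := fun n hn g hg hgn => by
        have hnR := hNR hn
        have h1 : bar ⟨n, hnR⟩ = 1 := by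
          have h2 := (hNmem hnR).mp hn
          have e : (⟨n, hnR⟩ : R) = ⟨_, hCR ⟨g, hg⟩ uR⟩ * uR := Subtype.ext (by
            show n = g * u * g⁻¹ * u
            rw [hgn, mul_assoc, h.sq_u, mul_one])
          rw [e, _root_.map_mul, _root_.map_mul, hclass, hπu] at h2
          rw [e, _root_.map_mul]
          exact h2
        obtain ⟨c, hc, hcu⟩ := h.fill n ((hbar1 _).mp h1)
        exact ⟨c, hc, hgn.trans hcu.symm⟩
      cent_triv := fun c hc hcE _ k hk => by
        have hkR := h.K_le hk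
        have h1 : π (bar ⟨_, hCR ⟨c, hc⟩ ⟨k, hkR⟩⟩) = π (bar ⟨k, hkR⟩) := by
          rw [← hη ⟨c, hc⟩ ⟨k, hkR⟩]
          exact normMap_fixed H ⟨⟨c, hc⟩, mem_subgroupOf.mpr hcE, rfl⟩ _
        rw [hinN] at h1
        have h2 := N.inv_mem h1
        change ((c * k * c⁻¹)⁻¹ * k)⁻¹ ∈ N at h2
        have h3 := hNinv k (hRC hkR) _ h2
        convert h3 using 1
        rw [commutatorElement_def]; group
      torus_norm := h.torus_norm }
  rcases hdata.fused_or_residue with hf | hres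
  · exact Or.inl hf
  · exact Or.inr ⟨N, hres⟩

end FixData

end Cfsg.Agent.H72.Asch
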