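import Cfsg.Agent.H4.Asch.LineImage
import Cfsg.Agent.H14.Asch.Count
import Cfsg.Agent.H72.Asch.RankOneShape

/-!
The rank-one set-up of the image of a line on the fixed points of a bad involution, and a Sylow
2-subgroup of the line over its kernel.
-/

set_option autoImplicit false
set_option linter.style.haveILetI false

namespace Cfsg.Agent.H72.Asch

open Subgroup MulAction
open Cfsg.Agent.H39 (mul_self_of_orderOf_eq_two)
open Cfsg.Agent.H73.Bender
open Cfsg.Agent.H14.Asch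
open scoped Pointwise

universe u v

variable {G : Type u} [Group G] {Ω : Type v} [MulAction G Ω]

section Res

variable {S : Subgroup G} {C : Set Ω} (hS : SE S C)

/-- The image of `S` as a homomorphism. -/
def imgHom : S →* Image hS := (cPerm hS).rangeRestrict

theorem imgHom_surjective : Function.Surjective (imgHom hS) :=
  (cPerm hS).rangeRestrict_surjective

theorem imgHom_smul (g : S) (z : C) : ((imgHom hS g • z : C) : Ω) = (g : G) • z.1 := rfl

theorem imgHom_fix_iff (g : S) (z : C) : imgHom hS g • z = z ↔ (g : G) • z.1 = z.1 := by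
  rw [Subtype.ext_iff, imgHom_smul]

theorem imgHom_eq_one_iff (g : S) : imgHom hS g = 1 ↔ (g : G) ∈ kernel S C := by
  rw [← cPerm_eq_one_iff hS, Subtype.ext_iff]
  rfl

theorem imgHom_eq_one_smul {g : S} (h : imgHom hS g = 1) {z : Ω} (hz : z ∈ C) : (g : G) • z = z :=
  (mem_kernel.mp ((imgHom_eq_one_iff hS g).mp h)).2 z hz

theorem odd_orderOf_of_imgHom_eq_one [Finite G] {g : S} (h : imgHom hS g = 1) :
    Odd (orderOf (g : G)) :=
  hS.odd_kernel.of_dvd_nat (Subgroup.orderOf_dvd_natCard _ ((imgHom_eq_one_iff hS g).mp h))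

end Res

/-- The data of the image of a line at the points `a`, `b`. -/
structure ImageData {S : Subgroup G} {C : Set Ω} (hS : SE S C) (a b : C) (t : Image hS)
    (Qi : Subgroup (Image hS)) : Prop where
  setup : Cfsg.IsRankOneSetup (Image hS) C a t Qi
  smul : t • a = b
  isPGroup : IsPGroup 2 Qi
  mem_iff : ∀ g : Image hS, g ∈ Qi ↔ g • a = a ∧ ∃ n : ℕ, g ^ 2 ^ n = 1
  data : ∃ Ei, H4.Asch.RankOneData a t Qi Ei
  shape : RankOneShape a t Qi

/-- A set-up of a group generated by involutions is generated by `Q` and `t`. -/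
theorem closure_setup_eq_top {H : Type*} [Group H] [Finite H] {X : Type*} [MulAction H X] {a : X}
    {t : H} {Q : Subgroup H} [FaithfulSMul H X] (hS : Cfsg.IsRankOneSetup H X a t Q) {I : Set H}
    (hI : closure I = ⊤) (hinv : ∀ i ∈ I, i * i = 1)
    (hQ : ∀ g : H, g * g = 1 → g • a = a → g ∈ Q) (hfix : ∀ i ∈ I, ∃ c : X, i • c = c) :
    closure ((Q : Set H) ∪ {t}) = ⊤ := by
  set K := closure ((Q : Set H) ∪ {t})
  have hQK : Q ≤ K := fun g hg => subset_closure (Or.inl hg)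
  have htK : t ∈ K := subset_closure (Or.inr rfl)
  rw [eq_top_iff, ← hI, closure_le]
  intro i hi
  obtain ⟨c, hc⟩ := hfix i hi
  obtain ⟨k, hk, hka⟩ : ∃ k ∈ K, k • a = c := by
    by_cases hca : c = a
    · exact ⟨1, one_mem K, by rw [one_smul, hca]⟩
    · obtain ⟨q, hq, -⟩ := H38.Q_regular hS (H38.t_smul_ne hS) hca
      exact ⟨(q : H) * t, mul_mem (hQK q.2) htK, by rw [mul_smul]; exact hq⟩
  have hmem : k⁻¹ * i * k ∈ Q := hQ _
    (by rw [show k⁻¹ * i * k * (k⁻¹ * i * k) = k⁻¹ * (i * i) * k by group, hinv i hi]; group)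
    (by rw [mul_smul, mul_smul, hka, hc, ← hka, inv_smul_smul])
  have h := mul_mem (mul_mem hk (hQK hmem)) (inv_mem hk)
  rwa [show k * (k⁻¹ * i * k) * k⁻¹ = i by group] at h

variable [Finite G] [Finite Ω] {D : Set G}

/-- The image of a line of rank two has the data at each ordered pair of its points. -/
theorem exists_imageData (h : Crit G Ω D) {u : G} (hr : RankTwo (lineGroup D u))
    (hS : SE (lineGroup D u) (fixedBy Ω u)) {a b : fixedBy Ω u} (hab : a ≠ b) :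
    ∃ (t : Image hS) (Qi : Subgroup (Image hS)), ImageData hS a b t Qi := by
  classical
  obtain ⟨t, Qi, Ei, -, htab, hsetup, hQi, hd, hstab⟩ :=
    H4.Asch.exists_setup (se_image hS) (rankTwo_image hS hr) (faithful_image hS) hab
  have hmem : ∀ g : Image hS, g ∈ Qi ↔ g • a = a ∧ ∃ n : ℕ, g ^ 2 ^ n = 1 := fun g =>
    ⟨fun hg => ⟨hsetup.le hg, by
      obtain ⟨n, hn⟩ := hQi ⟨g, hg⟩
      exact ⟨n, congrArg Subtype.val hn⟩⟩, fun hg => hstab g hg.1 hg.2⟩
  have h2 : ∃ x y : Image hS, x ≠ 1 ∧ y ≠ 1 ∧ x ≠ y ∧ x * x = 1 ∧ y * y = 1 ∧ x * y = y * x := by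
    obtain ⟨s, hs, v, hv, hs2, hv2, hne, hc⟩ := rankTwo_image hS hr
    refine ⟨⟨s, hs⟩, ⟨v, hv⟩, fun e => ?_, fun e => ?_, fun e => hne (congrArg Subtype.val e),
      Subtype.ext (mul_self_of_orderOf_eq_two hs2), Subtype.ext (mul_self_of_orderOf_eq_two hv2),
      Subtype.ext hc.eq⟩
    · rw [show s = 1 from congrArg Subtype.val e, orderOf_one] at hs2; omega
    · rw [show v = 1 from congrArg Subtype.val e, orderOf_one] at hv2; omega
  set I : Set (Image hS) :=
    imgHom hS '' ((lineGroup D u).subtype ⁻¹' (D ∩ (centralizer ({u} : Set G) : Set G)))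
  have hI : closure I = ⊤ := by
    rw [← MonoidHom.map_closure, ← MonoidHom.range_eq_top.mpr (imgHom_surjective hS),
      MonoidHom.range_eq_map]
    congr 1
    exact closure_closure_coe_preimage
  have hInv : ∀ i ∈ I, i * i = 1 := by
    rintro _ ⟨d, hd', rfl⟩
    rw [← map_mul, show d * d = 1 from Subtype.ext (mul_self_of_orderOf_eq_two (h.inv hd'.1)),
      map_one]
  have hgen := closure_setup_eq_top hsetup hI hInv
    (fun g hg hga => (hmem g).mpr ⟨hga, 1, by rw [pow_one, sq, hg]⟩) (by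
      rintro _ ⟨d, hd', rfl⟩
      obtain ⟨z, hz, hdz⟩ := hS.exists_fix d.2 (h.inv hd'.1)
      exact ⟨⟨z, hz⟩, (imgHom_fix_iff hS d _).mpr hdz⟩)
  exact ⟨t, Qi, hsetup, htab, hQi, hmem, ⟨Ei, hd⟩, rankOneShape hsetup h2 hgen⟩

/-- A Sylow 2-subgroup of the line at a point, over the kernel `Qi` of the image. -/
structure Lift {u : G} (hS : SE (lineGroup D u) (fixedBy Ω u)) (a : fixedBy Ω u)
    (Qi : Subgroup (Image hS)) (Q : Subgroup G) : Prop where
  le : Q ≤ lineGroup D u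
  isPGroup : IsPGroup 2 Q
  image : ∀ g : lineGroup D u, (g : G) ∈ Q → imgHom hS g ∈ Qi
  surj : ∀ q ∈ Qi, ∃ g : lineGroup D u, (g : G) ∈ Q ∧ imgHom hS g = q
  sylow : ∀ P : Subgroup G, IsPGroup 2 P → P ≤ lineGroup D u ⊓ stabilizer G a.1 →
    ∃ k : lineGroup D u, imgHom hS k = 1 ∧ P ≤ MulAut.conj (k : G) • Q

/-- The lift exists. -/
theorem exists_lift {u : G} {hS : SE (lineGroup D u) (fixedBy Ω u)} {a b : fixedBy Ω u}
    {t : Image hS} {Qi : Subgroup (Image hS)} (hI : ImageData hS a b t Qi) :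
    ∃ Q : Subgroup G, Lift hS a Qi Q := by
  classical
  haveI : Fact (Nat.Prime 2) := ⟨Nat.prime_two⟩
  set L := lineGroup D u
  set P₀ : Subgroup L := Qi.comap (imgHom hS) with hP₀
  obtain ⟨S⟩ : Nonempty (Sylow 2 P₀) := inferInstance
  set Q : Subgroup G := ((S : Subgroup P₀).map P₀.subtype).map L.subtype with hQ
  have hmem : ∀ g : L, (g : G) ∈ Q → ∃ hg : g ∈ P₀, (⟨g, hg⟩ : P₀) ∈ (S : Subgroup P₀) := by
    rintro g ⟨g', ⟨p, hp, hpg⟩, hg'⟩
    obtain rfl : g' = g := Subtype.ext hg'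
    subst hpg
    exact ⟨p.2, hp⟩
  let f : P₀ →* Qi := (imgHom hS).subgroupComap Qi
  have hfsurj : Function.Surjective f := fun q => by
    obtain ⟨l, hl⟩ := imgHom_surjective hS q.1
    exact ⟨⟨l, mem_comap.mpr (by rw [hl]; exact q.2)⟩, Subtype.ext hl⟩
  have htop : (S : Subgroup P₀).map f = ⊤ := by
    rw [← index_eq_one]
    obtain ⟨n, hn⟩ := hI.isPGroup.index ((S : Subgroup P₀).map f)
    rcases n with _ | n
    · simpa using hn
    · exact absurd ((hn ▸ dvd_pow_self 2 n.succ_ne_zero).trans (index_map_dvd _ hfsurj))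
        S.not_dvd_index
  refine ⟨Q, map_subtype_le _, (S.isPGroup'.map _).map _, fun g hg => (hmem g hg).1, fun q hq => ?_,
    fun P hP hPle => ?_⟩
  · obtain ⟨p, hp, hpq⟩ : (⟨q, hq⟩ : Qi) ∈ (S : Subgroup P₀).map f := htop ▸ mem_top _
    exact ⟨p, ⟨p, ⟨p, hp, rfl⟩, rfl⟩, congrArg Subtype.val hpq⟩
  have hPL : P ≤ L := hPle.trans inf_le_left
  have hP₀mem : P.subgroupOf L ≤ P₀ := fun g hg => by
    refine mem_comap.mpr ((hI.mem_iff _).mpr ⟨(imgHom_fix_iff hS g a).mpr (hPle hg).2, ?_⟩)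
    obtain ⟨n, hn⟩ := hP ⟨g, hg⟩
    have hn' : (g : G) ^ 2 ^ n = 1 := congrArg Subtype.val hn
    exact ⟨n, by rw [← map_pow, show g ^ 2 ^ n = 1 from Subtype.ext hn', map_one]⟩
  obtain ⟨S', hS'⟩ := ((hP.of_equiv (subgroupOfEquivOfLe hPL).symm).of_equiv
    (subgroupOfEquivOfLe hP₀mem).symm).exists_le_sylow
  obtain ⟨p, rfl⟩ := MulAction.exists_smul_eq P₀ S S'
  obtain ⟨s, hs, hsp⟩ : f p ∈ (S : Subgroup P₀).map f := htop ▸ mem_top _
  refine ⟨(p * s⁻¹ : P₀), ?_, fun g hg => ?_⟩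
  · show ((f (p * s⁻¹) : Qi) : Image hS) = 1
    rw [map_mul, map_inv, hsp, mul_inv_cancel, OneMemClass.coe_one]
  have hgp : (⟨⟨g, hPL hg⟩, hP₀mem hg⟩ : P₀) ∈ (p • S : Sylow 2 P₀) := hS' hg
  change _ ∈ MulAut.conj p • (S : Subgroup P₀) at hgp
  rw [Subgroup.mem_pointwise_smul_iff_inv_smul_mem] at hgp
  rw [Subgroup.mem_pointwise_smul_iff_inv_smul_mem]
  have h := S.toSubgroup.mul_mem (S.toSubgroup.mul_mem hs hgp) (S.toSubgroup.inv_mem hs)
  refine ⟨_, ⟨_, h, rfl⟩, ?_⟩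
  simp [MulAut.smul_def, mul_assoc]

namespace Lift

variable {u : G} {hS : SE (lineGroup D u) (fixedBy Ω u)} {a b : fixedBy Ω u} {t : Image hS}
  {Qi : Subgroup (Image hS)} {Q : Subgroup G} (hL : Lift hS a Qi Q)
include hL

omit [Finite Ω] in
theorem eq_of_image_eq {g k : lineGroup D u} (hg : (g : G) ∈ Q) (hk : (k : G) ∈ Q)
    (h : imgHom hS g = imgHom hS k) : g = k := by
  haveI : Fact (Nat.Prime 2) := ⟨Nat.prime_two⟩
  have h1 : imgHom hS (g⁻¹ * k) = 1 := by rw [map_mul, map_inv, h, inv_mul_cancel]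
  have hodd := odd_orderOf_of_imgHom_eq_one hS h1
  obtain ⟨n, hn⟩ := (IsPGroup.iff_orderOf.mp hL.isPGroup) ⟨_, mul_mem (inv_mem hg) hk⟩
  rw [Subgroup.orderOf_mk] at hn
  rcases n with _ | n
  · exact Subtype.ext (inv_mul_eq_one.mp (orderOf_eq_one_iff.mp (by rw [hn, pow_zero])))
  · rw [show ((g⁻¹ * k : lineGroup D u) : G) = (g : G)⁻¹ * k from rfl, hn] at hodd
    exact absurd hodd (by rw [Nat.not_odd_iff_even, Nat.even_pow]; exact ⟨even_two, by omega⟩)

omit [Finite Ω] [Finite G] in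
theorem fix (hI : ImageData hS a b t Qi) {g : G} (hg : g ∈ Q) : g • a.1 = a.1 :=
  (imgHom_fix_iff hS ⟨g, hL.le hg⟩ a).mp ((hI.mem_iff _).mp (hL.image ⟨g, hL.le hg⟩ hg)).1

end Lift

end Cfsg.Agent.H72.Asch
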