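import Cfsg.Agent.H26.Asch.TorusField
import Cfsg.Agent.H38.FieldEndo

/-!
Additive maps on a line with a torus: an equivariant alternating biadditive map is zero, and the
non-zero elements of an additive group of maps which is one orbit of the torus are injective.
-/

set_option autoImplicit false
set_option linter.style.haveILetI false
set_option linter.unusedSectionVars false

namespace Cfsg.Agent.H72.Asch

open Subgroup MulAction
open Cfsg.Agent.H26.Asch (Torus torusRing mem_torusRing)

universe u v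

section Field

variable {F : Type*} [Field F] [Fintype F] [CharP F 2]

/-- An additive group of maps of a field as large as the field whose non-zero elements are
conjugate by multiplications consists of semilinear maps. -/
theorem injective_of_orbit (T : AddSubgroup (F →+ F)) (hcard : Nat.card T = Nat.card F)
    (hconj : ∀ P ∈ T, ∀ Q ∈ T, P ≠ 0 → Q ≠ 0 → ∃ a : F, a ≠ 0 ∧ ∀ x, Q (a * x) = a * P x)
    {P : F →+ F} (hP : P ∈ T) (hP0 : P ≠ 0) : Function.Injective P := by
  classical
  haveI : Finite (F ≃+* F) :=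
    Finite.of_injective (fun σ : F ≃+* F => (σ : F → F)) DFunLike.coe_injective
  letI : Fintype (F ≃+* F) := Fintype.ofFinite _
  choose d hd using fun Q : F →+ F => Cfsg.Agent.H38.additive_eq_sum Q
  have huniq : ∀ {Q : F →+ F} {c : (F ≃+* F) → F}, (∀ x, Q x = ∑ σ, c σ * σ x) → d Q = c :=
    fun {Q c} h => Cfsg.Agent.H38.autos_coeff_unique fun x => (hd Q x).symm.trans (h x)
  have hadd : ∀ Q Q' σ, d (Q + Q') σ = d Q σ + d Q' σ := fun Q Q' σ => congrFun
    (huniq (Q := Q + Q') (c := fun σ => d Q σ + d Q' σ) fun x => by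
      rw [AddMonoidHom.add_apply, hd, hd, ← Finset.sum_add_distrib]
      exact Finset.sum_congr rfl fun σ _ => (add_mul _ _ _).symm) σ
  have hscale : ∀ {Q : F →+ F} {a : F}, a ≠ 0 → (∀ x, Q (a * x) = a * P x) →
      ∀ σ, d Q σ = d P σ * (a / σ a) := by
    intro Q a ha hQ σ
    refine congrFun (huniq (c := fun σ => d P σ * (a / σ a)) fun x => ?_) σ
    rw [show Q x = a * P (x / a) by rw [← hQ, mul_div_cancel₀ _ ha], hd P, Finset.mul_sum]
    refine Finset.sum_congr rfl fun σ _ => ?_
    rw [map_div₀]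
    ring
  obtain ⟨σ, hσ⟩ : ∃ σ, d P σ ≠ 0 := by
    by_contra hc
    push Not at hc
    exact hP0 (AddMonoidHom.ext fun x => by simp [hd P x, hc])
  let Φ : (F ≃+* F) → (T →+ F) := fun τ =>
    AddMonoidHom.mk' (fun Q : T => d (Q : F →+ F) τ) fun Q Q' => hadd _ _ τ
  have hinj : Function.Injective (Φ σ) := by
    rw [injective_iff_map_eq_zero]
    intro Q hQ
    by_contra hQ0
    obtain ⟨a, ha, hax⟩ := hconj P hP Q Q.2 hP0 fun e => hQ0 (Subtype.ext e)
    refine mul_ne_zero hσ (div_ne_zero ha ((map_ne_zero σ).mpr ha)) ?_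
    rw [← hscale ha hax]
    exact hQ
  have hbij : Function.Bijective (Φ σ) :=
    (Nat.bijective_iff_injective_and_card _).mpr ⟨hinj, hcard⟩
  by_cases hsupp : ∀ τ, d P τ ≠ 0 → τ = σ
  · intro x y hxy
    have hsingle : ∀ z, P z = d P σ * σ z := fun z => by
      rw [hd P z]
      refine Finset.sum_eq_single σ (fun τ _ hτ => ?_) fun h => absurd (Finset.mem_univ _) h
      rw [show d P τ = 0 by by_contra h0; exact hτ (hsupp τ h0), zero_mul]
    rw [hsingle, hsingle] at hxy
    exact σ.injective (mul_left_cancel₀ hσ hxy)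
  exfalso
  push Not at hsupp
  obtain ⟨τ, hτ, hτσ⟩ := hsupp
  let e := Equiv.ofBijective _ hbij
  have he : ∀ l, Φ σ (e.symm l) = l := fun l => Equiv.ofBijective_apply_symm_apply _ hbij l
  -- every value is taken
  have hsurj : ∀ l : F, l ≠ 0 → ∃ a : F, a ≠ 0 ∧ a / σ a = l ∧
      d (e.symm (d P σ * l) : F →+ F) τ = d P τ * (a / τ a) := by
    intro l hl
    set Q := e.symm (d P σ * l) with hQ
    have hQ0 : (Q : F →+ F) ≠ 0 := fun h0 => by
      have h1 := he (d P σ * l)
      rw [← hQ, show Q = 0 from Subtype.ext h0, _root_.map_zero] at h1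
      exact mul_ne_zero hσ hl h1.symm
    obtain ⟨a, ha, hax⟩ := hconj P hP Q Q.2 hP0 hQ0
    refine ⟨a, ha, mul_left_cancel₀ hσ ?_, hscale ha hax τ⟩
    rw [← hscale ha hax]
    exact he _
  choose r hr hrσ hrτ using hsurj
  have hback : ∀ a : F, (ha : a ≠ 0) →
      r (a / σ a) (div_ne_zero ha ((map_ne_zero σ).mpr ha)) = a := by
    let f : {l : F // l ≠ 0} → {l : F // l ≠ 0} := fun l => ⟨r l l.2, hr l l.2⟩
    have hfinj : Function.Injective f := fun l l' h => Subtype.ext (by
      have h1 : r l l.2 = r l' l'.2 := congrArg Subtype.val h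
      rw [← hrσ l l.2, h1, hrσ l' l'.2])
    intro a ha
    obtain ⟨⟨l, hl⟩, hla⟩ := Finite.surjective_of_injective hfinj ⟨a, ha⟩
    have h1 : r l hl = a := congrArg Subtype.val hla
    have h2 := hrσ l hl
    simp only [h1] at h2
    simp only [h2, h1]
  -- the map between the coefficients
  let φ : F →+ F := AddMonoidHom.mk' (fun l => d (e.symm (d P σ * l) : F →+ F) τ / d P τ)
    fun l l' => by
      rw [← add_div, ← hadd, ← AddSubgroup.coe_add]
      congr 4
      refine hinj ?_
      rw [map_add, he, he, he, mul_add]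
  have hφ : ∀ {a : F}, a ≠ 0 → φ (a / σ a) = a / τ a := by
    intro a ha
    have h1 := hrτ _ (div_ne_zero ha ((map_ne_zero σ).mpr ha))
    rw [hback a ha] at h1
    show d _ τ / d P τ = _
    rw [h1, mul_div_cancel_left₀ _ hτ]
  have hφ1 : φ 1 = 1 := by simpa using hφ one_ne_zero
  have hφmul : ∀ l l', φ (l * l') = φ l * φ l' := by
    intro l l'
    by_cases hl : l = 0
    · rw [hl, zero_mul, _root_.map_zero, zero_mul]
    by_cases hl' : l' = 0
    · rw [hl', mul_zero, _root_.map_zero, mul_zero]
    have ha := hr l hl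
    have hb := hr l' hl'
    conv_lhs => rw [← hrσ l hl, ← hrσ l' hl']
    rw [div_mul_div_comm, ← _root_.map_mul, hφ (mul_ne_zero ha hb), _root_.map_mul τ]
    conv_rhs => rw [← hrσ l hl, ← hrσ l' hl', hφ ha, hφ hb, div_mul_div_comm]
  let ρ : F →+* F := { φ with map_one' := hφ1, map_mul' := hφmul }
  have hkey : ∀ a : F, ρ a * τ a = a * ρ (σ a) := by
    intro a
    by_cases ha : a = 0
    · simp [ha]
    have h1 : ρ (a / σ a) = a / τ a := hφ ha
    rw [map_div₀, div_eq_div_iff ((map_ne_zero ρ).mpr ((map_ne_zero σ).mpr ha))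
      ((map_ne_zero τ).mpr ha)] at h1
    exact h1
  have hroot : ∀ a : F, ρ a = a ∨ τ a = a := by
    intro a
    have h1 := hkey (a + 1)
    simp only [map_add, _root_.map_one] at h1
    have h2 : (ρ a - a) * (τ a - a) = 0 := by linear_combination (1 + a) * hkey a - a * h1
    rcases mul_eq_zero.mp h2 with h3 | h3
    · exact Or.inl (sub_eq_zero.mp h3)
    · exact Or.inr (sub_eq_zero.mp h3)
  rcases (show (∀ a, ρ a = a) ∨ ∀ a, τ a = a by
    by_contra hc
    push Not at hc
    obtain ⟨⟨a, ha⟩, ⟨b, hb⟩⟩ := hc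
    have ha' := (hroot a).resolve_left ha
    have hb' := (hroot b).resolve_right hb
    rcases hroot (a + b) with h1 | h1
    · rw [map_add, hb', add_left_inj] at h1; exact ha h1
    · rw [map_add, ha', add_right_inj] at h1; exact hb h1) with h1 | h1
  · refine hτσ (RingEquiv.ext fun a => ?_)
    have h2 := hkey a
    rw [h1, h1] at h2
    by_cases ha : a = 0
    · simp [ha]
    exact mul_left_cancel₀ ha h2
  · refine hτσ (RingEquiv.ext fun a => ?_)
    have h2 := hkey a
    rw [h1, mul_comm] at h2
    rw [h1]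
    by_cases ha : a = 0
    · simp [ha]
    exact ρ.injective (mul_left_cancel₀ ha h2)

end Field

variable {G : Type v} [Group G] {E : Type u} [AddCommGroup E] [Finite E] [DistribMulAction G E]
  {A : Subgroup G}

/-- An equivariant alternating biadditive map is zero. -/
theorem alternating_eq_zero (hA : Torus A E) (hodd : ∀ a ∈ A, Odd (orderOf a))
    (f : E →+ E →+ E) (hf : ∀ a ∈ A, ∀ x y : E, f (a • x) (a • y) = a • f x y)
    (hdiag : ∀ x, f x x = 0) (x y : E) : f x y = 0 := by
  have hring : ∀ φ ∈ torusRing A E, ∀ x y : E, f (φ x) (φ y) = φ (f x y) := by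
    intro φ hφ x y
    rcases hA.eq_zero_or_smul hφ with rfl | ⟨a, ha, h⟩
    · simp
    · rw [h, h, h]; exact hf a ha x y
  by_cases hx : x = 0
  · simp [hx]
  by_cases hy : y = 0
  · simp [hy]
  obtain ⟨a, ha, rfl⟩ := hA.trans x y hx hy
  obtain ⟨k, hk⟩ := hodd a ha
  set b := a ^ (k + 1) with hb
  have hbA : b ∈ A := pow_mem ha _
  have hbb : a = b * b := by
    rw [hb, ← pow_add, show k + 1 + (k + 1) = orderOf a + 1 by omega, pow_succ, pow_orderOf_eq_one,
      one_mul]
  have hmem := hA.smul_mem_torusRing hbA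
  have h1 := hring _ ((torusRing A E).add_mem hmem (one_mem _)) x (b • x)
  change f (b • x + x) (b • b • x + b • x) = b • f x (b • x) + f x (b • x) at h1
  simp only [map_add, AddMonoidHom.add_apply, hdiag] at h1
  rw [hf b hbA] at h1
  rw [hbb, mul_smul]
  refine add_left_cancel (a := b • f x (b • x) + f x (b • x)) ?_
  rw [add_zero]
  refine Eq.trans ?_ h1
  abel

/-- The non-zero elements of an additive group of maps as large as `E` which is one orbit are
injective. -/
theorem injective_of_orbit_torus (hA : Torus A E) (T : AddSubgroup (E →+ E))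
    (hcard : Nat.card T = Nat.card E)
    (hconj : ∀ P ∈ T, ∀ Q ∈ T, P ≠ 0 → Q ≠ 0 → ∃ a ∈ A, ∀ e : E, Q (a • e) = a • P e)
    {P : E →+ E} (hP : P ∈ T) (hP0 : P ≠ 0) : Function.Injective P := by
  classical
  haveI := hA.nontrivial
  obtain ⟨c, hc⟩ := exists_ne (0 : E)
  haveI : Finite (AddMonoid.End E) :=
    Finite.of_injective (fun f => (f : E → E)) DFunLike.coe_injective
  letI : Field (torusRing A E) := hA.ring_isField.toField
  letI : Fintype (torusRing A E) := Fintype.ofFinite _
  let ev : torusRing A E ≃+ E := AddEquiv.ofBijective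
    (AddMonoidHom.mk' (fun φ : torusRing A E => (φ : AddMonoid.End E) c) fun _ _ => rfl)
    (hA.eval_bijective hc)
  haveI : CharP (torusRing A E) 2 := CharTwo.of_one_ne_zero_of_two_eq_zero one_ne_zero (by
    rw [← one_add_one_eq_two]
    refine ev.injective ?_
    rw [map_add, _root_.map_zero]
    exact hA.two _)
  let conj : (E →+ E) →+ (torusRing A E →+ torusRing A E) := AddMonoidHom.mk'
    (fun Q => (ev.symm.toAddMonoidHom.comp Q).comp ev.toAddMonoidHom)
    fun Q Q' => AddMonoidHom.ext fun z => map_add ev.symm _ _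
  have hev : ∀ (Q : E →+ E) (z : torusRing A E), ev (conj Q z) = Q (ev z) := fun Q z =>
    ev.apply_symm_apply _
  have hcinj : Function.Injective conj := fun Q Q' h => AddMonoidHom.ext fun z => by
    rw [← ev.apply_symm_apply z, ← hev, h, hev]
  have hcard' : Nat.card (T.map conj) = Nat.card (torusRing A E) := by
    rw [← Nat.card_congr (T.equivMapOfInjective conj hcinj).toEquiv, hcard,
      Nat.card_congr ev.toEquiv]
  have hinj := injective_of_orbit (T.map conj) hcard' ?_ ⟨P, hP, rfl⟩
    (fun h => hP0 (hcinj (h.trans (_root_.map_zero conj).symm)))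
  · intro z w hzw
    have h1 : conj P (ev.symm z) = conj P (ev.symm w) := ev.injective (by
      rw [hev, hev, ev.apply_symm_apply, ev.apply_symm_apply, hzw])
    exact ev.symm.injective (hinj h1)
  · rintro _ ⟨Q, hQ, rfl⟩ _ ⟨Q', hQ', rfl⟩ h0 h0'
    obtain ⟨a, ha, hax⟩ := hconj Q hQ Q' hQ' (fun h => h0 (by rw [h, _root_.map_zero]))
      (fun h => h0' (by rw [h, _root_.map_zero]))
    refine ⟨⟨_, hA.smul_mem_torusRing ha⟩, fun h => ?_, fun z => ev.injective ?_⟩
    · have h1 : a • c = (0 : E) := congrArg (fun φ : torusRing A E => (φ : AddMonoid.End E) c) h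
      exact hc (by simpa using congrArg (a⁻¹ • ·) h1)
    · rw [hev]
      show Q' (a • ev z) = a • ev (conj Q z)
      rw [hev, hax]

end Cfsg.Agent.H72.Asch
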