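import Cfsg.Agent.H38.TypeAGroup

/-!
Setting-free lemmas for the shapes of a line: a field endomorphism fixing the values of a quadratic
polynomial, the identity of Hua in characteristic two, norm preserving maps in a quadratic extension,
and squares and commutators in the groups of type A.
-/

set_option autoImplicit false

namespace Cfsg.Agent.H72.Asch

open Cfsg.Agent.H38
open scoped commutatorElement

section Field

variable {F K : Type*} [Field F] [Field K] [CharP F 2] [CharP K 2]

/-- A non-zero additive map which commutes with inversion is a ring homomorphism. -/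
theorem map_mul_of_inv [Finite F] (ω : F → K) (hadd : ∀ x y, ω (x + y) = ω x + ω y)
    (hinj : Function.Injective ω) (hinv : ∀ x, x ≠ 0 → ω x⁻¹ = (ω x)⁻¹) :
    ω 1 = 1 ∧ ∀ x y, ω (x * y) = ω x * ω y := by
  have h0 : ω 0 = 0 := by simpa using hadd 0 0
  have hne : ∀ x, x ≠ 0 → ω x ≠ 0 := fun x hx e => hx (hinj (e.trans h0.symm))
  have h1 : ω 1 = 1 := by
    have h := hinv 1 one_ne_zero
    rw [inv_one] at h
    have hsq : (ω 1 + 1) ^ 2 = 0 := by
      rw [CharTwo.add_sq, one_pow, sq]
      nth_rewrite 1 [h]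
      rw [inv_mul_cancel₀ (hne 1 one_ne_zero), CharTwo.add_self_eq_zero]
    exact CharTwo.add_eq_zero.mp (pow_eq_zero_iff two_ne_zero |>.mp hsq)
  have hkey : ∀ a b, ω (a * a * b) = ω a * ω a * ω b := by
    intro a b
    by_cases ha : a = 0
    · simp [ha, h0]
    by_cases hb : b = 0
    · simp [hb, h0]
    by_cases hab : a * b = 1
    · rw [mul_assoc, hab, mul_one, eq_inv_of_mul_eq_one_right hab, hinv a ha, mul_assoc,
        mul_inv_cancel₀ (hne a ha), mul_one]
    have hba : b⁻¹ + a ≠ 0 := fun e => hab (by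
      rw [← CharTwo.add_eq_zero.mp e]; exact inv_mul_cancel₀ hb)
    have hd : (1 : F) + a * b ≠ 0 := fun e => hab (CharTwo.add_eq_zero.mp e).symm
    have hab' : a⁻¹ + (b⁻¹ + a)⁻¹ ≠ 0 := by
      have e : a⁻¹ + (b⁻¹ + a)⁻¹ = (a * (1 + a * b))⁻¹ := by
        field_simp
        linear_combination (a * b) * CharTwo.two_eq_zero (R := F)
      rw [e]; exact inv_ne_zero (mul_ne_zero ha hd)
    have hid : a * a * b = a + (a⁻¹ + (b⁻¹ + a)⁻¹)⁻¹ := by
      have e : a⁻¹ + (b⁻¹ + a)⁻¹ = (a * (1 + a * b))⁻¹ := by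
        field_simp
        linear_combination (a * b) * CharTwo.two_eq_zero (R := F)
      rw [e, inv_inv]
      linear_combination -a * CharTwo.two_eq_zero (R := F)
    rw [hid, hadd, hinv _ hab', hadd, hinv a ha, hinv _ hba, hadd, hinv b hb]
    have ha' := hne a ha
    have hb' := hne b hb
    have hba' : (ω b)⁻¹ + ω a ≠ 0 := by
      rw [← hinv b hb, ← hadd]; exact hne _ hba
    have hd' : (1 : K) + ω a * ω b ≠ 0 := fun e => hba' (by
      field_simp; linear_combination e)
    have e : (ω a)⁻¹ + ((ω b)⁻¹ + ω a)⁻¹ = (ω a * (1 + ω a * ω b))⁻¹ := by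
      field_simp
      linear_combination (ω a * ω b) * CharTwo.two_eq_zero (R := K)
    rw [e, inv_inv]
    linear_combination ω a * CharTwo.two_eq_zero (R := K)
  refine ⟨h1, fun x y => ?_⟩
  obtain ⟨a, rfl⟩ : ∃ a, a * a = x := by
    refine (Finite.injective_iff_surjective.mp fun a b (hab : a * a = b * b) => ?_) x
    have h : (a + b) ^ 2 = 0 := by
      rw [CharTwo.add_sq, sq, sq, hab, CharTwo.add_self_eq_zero]
    exact CharTwo.add_eq_zero.mp (pow_eq_zero_iff two_ne_zero |>.mp h)
  have hsq := hkey a 1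
  rw [mul_one, h1, mul_one] at hsq
  rw [hkey, hsq]

/-- A field endomorphism fixing a subgroup of index two is its own inverse. -/
theorem apply_apply_of_fix_index_two (σ : F →+* F) (W : AddSubgroup F)
    (hW : ∀ y z, y ∉ W → z ∉ W → y + z ∈ W) (hfix : ∀ w ∈ W, σ w = w) (y : F) : σ (σ y) = y := by
  by_cases hy : y ∈ W
  · rw [hfix y hy, hfix y hy]
  have hshift : ∀ z, z ∉ W → σ z + z = σ y + y := fun z hz => by
    have h := hfix _ (hW y z hy hz)
    rw [map_add] at h
    linear_combination h + (z - σ y) * CharTwo.two_eq_zero (R := F)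
  set v := σ y + y with hv
  have hvfix : σ v = v := by
    by_cases hvW : v ∈ W
    · exact hfix v hvW
    · have h := hshift v hvW
      have h0 : σ v = 0 := by linear_combination h
      rw [(map_eq_zero σ).mp h0, map_zero]
  have e : σ y = v + y := by rw [hv, add_assoc, CharTwo.add_self_eq_zero, add_zero]
  calc σ (σ y) = σ v + σ y := by rw [← map_add, ← e]
    _ = y := by rw [hvfix, e, ← add_assoc, CharTwo.add_self_eq_zero, zero_add]

/-- A field endomorphism multiplying all values `1 + s a + n a²`, `a ≠ 0`, by the same factor is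
its own inverse. -/
theorem apply_apply_of_quadratic [Fintype F] (hq : 4 ≤ Fintype.card F) (σ : F →+* F) {s n k : F}
    (hn : n ≠ 0) (h : ∀ a, a ≠ 0 → σ (1 + s * a + n * a * a) = k * (1 + s * a + n * a * a))
    (y : F) : σ (σ y) = y := by
  classical
  let f : F →+ F := AddMonoidHom.mk' (fun a => s * a + n * a * a) fun a b => by
    linear_combination (n * a * b) * CharTwo.two_eq_zero (R := F)
  let φ : F →+ F := AddMonoidHom.mk' (fun a => σ a + k * a) fun a b => by
    rw [map_add]; ring
  have hφ : ∀ a, a ≠ 0 → φ (f a) = φ 1 := by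
    intro a ha
    have h' := h a ha
    rw [add_assoc, map_add] at h'
    show σ (s * a + n * a * a) + k * (s * a + n * a * a) = σ 1 + k * 1
    linear_combination h' + (k * (s * a + n * a * a) - σ 1) * CharTwo.two_eq_zero (R := F)
  obtain ⟨b, hb0, hb1⟩ : ∃ b : F, b ≠ 0 ∧ b ≠ 1 := by
    obtain ⟨b, -, hb⟩ := Finset.exists_mem_notMem_of_card_lt_card
      (s := ({0, 1} : Finset F)) (t := Finset.univ) (by
        rw [Finset.card_univ]; exact lt_of_le_of_lt Finset.card_le_two (by omega))
    exact ⟨b, fun e => hb (by simp [e]), fun e => hb (by simp [e])⟩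
  have hφ1 : φ 1 = 0 := by
    have h1 := hφ (1 + b) fun e => hb1 (CharTwo.add_eq_zero.mp e).symm
    rw [map_add, map_add, hφ 1 one_ne_zero, hφ b hb0, CharTwo.add_self_eq_zero] at h1
    exact h1.symm
  have hk : k = 1 := by
    have h1 : σ 1 + k * 1 = 0 := hφ1
    rw [map_one, mul_one] at h1
    exact (CharTwo.add_eq_zero.mp h1).symm
  have hfix : ∀ w ∈ f.range, σ w = w := by
    rintro w ⟨a, rfl⟩
    by_cases ha : a = 0
    · rw [ha, map_zero, map_zero]
    · have h1 := (hφ a ha).trans hφ1
      exact CharTwo.add_eq_zero.mp (show σ (f a) + f a = 0 by rwa [show φ (f a) =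
        σ (f a) + k * f a from rfl, hk, one_mul] at h1)
  refine apply_apply_of_fix_index_two σ f.range (fun u w hu hw => ?_) hfix y
  have hker : Nat.card f.ker ≤ 2 := by
    have hsub : (f.ker : Set F) ⊆ {0, s / n} := fun a ha => by
      have ha' : s * a + n * a * a = 0 := ha
      by_cases h0 : a = 0
      · simp [h0]
      · refine Set.mem_insert_of_mem _ (Set.mem_singleton_iff.mpr ?_)
        rw [eq_div_iff hn]
        refine mul_right_cancel₀ h0 ?_
        linear_combination ha' - s * a * CharTwo.two_eq_zero (R := F)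
    change Nat.card ↥(f.ker : Set F) ≤ 2
    rw [Nat.card_coe_set_eq]
    exact (Set.ncard_le_ncard hsub).trans
      ((Set.ncard_insert_le _ _).trans (by rw [Set.ncard_singleton]))
  have hidx : f.range.index ≤ 2 := by
    have h1 := f.range.index_mul_card
    have h2 := f.ker.index_mul_card
    rw [AddSubgroup.index_ker, Nat.mul_comm, ← h1] at h2
    exact le_of_eq_of_le (Nat.eq_of_mul_eq_mul_right Nat.card_pos h2).symm hker
  rcases Nat.lt_or_ge f.range.index 2 with h2 | h2
  · have h1 : f.range.index = 1 := by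
      have := AddSubgroup.index_ne_zero_of_finite (H := f.range)
      omega
    rw [AddSubgroup.index_eq_one] at h1
    exact h1 ▸ AddSubgroup.mem_top _
  · exact (AddSubgroup.add_mem_iff_of_index_two (le_antisymm hidx h2)).mpr
      ⟨fun h' => absurd h' hu, fun h' => absurd h' hw⟩

variable {q : ℕ}

/-- Additive maps preserving the norm: the two possibilities. -/
theorem norm_cases {A : Type*} [Group A] (hpow : ∀ x y : K, (x + y) ^ q = x ^ q + y ^ q)
    (hpp : ∀ x : K, (x ^ q) ^ q = x) (f g : A → K) (hf : ∀ x y, f (x * y) = f x + f y)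
    (hg : ∀ x y, g (x * y) = g x + g y) (hN : ∀ x, g x * g x ^ q = f x * f x ^ q) :
    ∃ m : K, m * m ^ q = 1 ∧ ((∀ x, g x = m * f x) ∨ ∀ x, g x = m * f x ^ q) := by
  by_cases h0 : ∀ x, f x = 0
  · refine ⟨1, by rw [one_pow, one_mul], Or.inl fun x => ?_⟩
    rw [h0 x, mul_zero]
    have := hN x
    rw [h0 x, zero_mul] at this
    rcases mul_eq_zero.mp this with h | h
    · exact h
    · exact eq_zero_of_pow_eq_zero h
  push Not at h0
  obtain ⟨x₀, hx₀⟩ := h0
  have hx₀' : g x₀ ≠ 0 := fun e => by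
    have := hN x₀
    rw [e, zero_mul] at this
    exact mul_ne_zero hx₀ (pow_ne_zero _ hx₀) this.symm
  have htr : ∀ x, g x * g x₀ ^ q + g x ^ q * g x₀ = f x * f x₀ ^ q + f x ^ q * f x₀ := by
    intro x
    have h := hN (x * x₀)
    rw [hg, hf, hpow, hpow] at h
    linear_combination h - hN x - hN x₀
  set m := g x₀ / f x₀ with hm
  set m' := g x₀ / f x₀ ^ q with hm'
  have hm1 : m * m ^ q = 1 := by
    rw [hm, div_pow, div_mul_div_comm, hN x₀, div_self (mul_ne_zero hx₀ (pow_ne_zero _ hx₀))]
  have hm1' : m' * m' ^ q = 1 := by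
    rw [hm', div_pow, hpp, div_mul_div_comm, hN x₀, mul_comm (f x₀),
      div_self (mul_ne_zero (pow_ne_zero _ hx₀) hx₀)]
  have hor : ∀ x, g x = m * f x ∨ g x = m' * f x ^ q := by
    intro x
    set P := g x * g x₀ ^ q with hP
    have hsum : P + P ^ q = f x * f x₀ ^ q + f x ^ q * f x₀ := by
      rw [hP, mul_pow, hpp]; exact htr x
    have hprod : P * P ^ q = (f x * f x₀ ^ q) * (f x ^ q * f x₀) := by
      rw [hP, mul_pow, hpp]
      linear_combination (g x₀ * g x₀ ^ q) * hN x + (f x * f x ^ q) * hN x₀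
    have hroot : (P + f x * f x₀ ^ q) * (P + f x ^ q * f x₀) = 0 := by
      linear_combination -P * hsum - hprod +
        (P * P + P * P ^ q) * CharTwo.two_eq_zero (R := K)
    rcases mul_eq_zero.mp hroot with h | h
    · left
      have h' : P = f x * f x₀ ^ q := CharTwo.add_eq_zero.mp h
      rw [hm, div_mul_eq_mul_div, eq_div_iff hx₀]
      refine mul_right_cancel₀ (pow_ne_zero q hx₀') ?_
      linear_combination f x₀ * h' - f x * hN x₀
    · right
      have h' : P = f x ^ q * f x₀ := CharTwo.add_eq_zero.mp h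
      rw [hm', div_mul_eq_mul_div, eq_div_iff (pow_ne_zero _ hx₀)]
      refine mul_right_cancel₀ (pow_ne_zero q hx₀') ?_
      linear_combination f x₀ ^ q * h' - f x ^ q * hN x₀
  by_cases ha : ∀ x, g x = m * f x
  · exact ⟨m, hm1, Or.inl ha⟩
  refine ⟨m', hm1', Or.inr fun x => ?_⟩
  by_contra hx
  push Not at ha
  obtain ⟨y, hy⟩ := ha
  have hy' := (hor y).resolve_left hy
  have hx' := (hor x).resolve_right hx
  rcases hor (x * y) with h | h <;> rw [hg, hf] at h
  · exact hy (by linear_combination h - hx')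
  · rw [hpow] at h
    exact hx (by linear_combination h - hy')

end Field

section TypeA

variable {F : Type*} [Field F] [CharP F 2] (φ : F ≃+* F)

local notation "PA" => Cfsg.suzukiTypeA F (φ : F →+* F)

theorem sq_eq_taEl (x y : F) :
    taEl (φ : F →+* F) x y * taEl (φ : F →+* F) x y = taEl (φ : F →+* F) 0 (φ x * x) :=
  Subtype.ext (ta_sq x y)

omit [CharP F 2] in
/-- An automorphism of odd order fixing `r` twice fixes `r`. -/
theorem fix_of_apply_apply (hodd : Odd (orderOf φ)) {r : F} (h : φ (φ r) = r) : φ r = r := by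
  obtain ⟨j, hj⟩ := hodd
  have h2 : ∀ i : ℕ, (φ ^ (2 * i)) r = r := by
    intro i
    induction i with
    | zero => rfl
    | succ i ih =>
      rw [show 2 * (i + 1) = 2 * i + (1 + 1) by ring, pow_add, pow_add, pow_one, RingAut.mul_apply,
        RingAut.mul_apply, h, ih]
  have h1 : (φ ^ (2 * j + 1)) r = r := by rw [← hj, pow_orderOf_eq_one]; rfl
  rw [pow_succ, RingAut.mul_apply] at h1
  have h3 := h2 j
  exact EquivLike.injective (φ ^ (2 * j)) (h1.trans h3.symm)

/-- Equal squares only inside one coset of the squares. -/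
theorem sq_inj_typeA (hodd : Odd (orderOf φ)) {g k : PA} (h : g * g = k * k) :
    (g * k⁻¹) * (g * k⁻¹) = 1 := by
  obtain ⟨x, y, rfl⟩ := taEl_surj g
  obtain ⟨x', y', rfl⟩ := taEl_surj k
  rw [sq_eq_taEl, sq_eq_taEl] at h
  have h' := (ta_inj (congrArg Subtype.val h)).2
  have hinv : (taEl (φ : F →+* F) x' y')⁻¹ = taEl (φ : F →+* F) x' (y' + φ x' * x') :=
    Subtype.ext (Units.ext rfl)
  have hxx : x = x' := by
    by_cases hx' : x' = 0
    · subst hx'
      rw [map_zero, zero_mul] at h'
      rcases mul_eq_zero.mp h' with h0 | h0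
      · exact (map_eq_zero φ).mp h0
      · exact h0
    by_cases hx : x = 0
    · subst hx
      rw [map_zero, zero_mul] at h'
      rcases mul_eq_zero.mp h'.symm with h0 | h0
      · exact ((map_eq_zero φ).mp h0).symm
      · exact h0.symm
    set r := x / x' with hr
    have hr0 : r ≠ 0 := div_ne_zero hx hx'
    have hr1 : φ r * r = 1 := by
      rw [hr, map_div₀, div_mul_div_comm, h',
        div_self (mul_ne_zero ((map_ne_zero φ).mpr hx') hx')]
    have hr2 : φ r = r := fix_of_apply_apply φ hodd (by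
      rw [eq_inv_of_mul_eq_one_left hr1, map_inv₀, eq_inv_of_mul_eq_one_left hr1, inv_inv])
    rw [hr2] at hr1
    have hr3 : (r + 1) ^ 2 = 0 := by
      rw [CharTwo.add_sq, sq, hr1, one_pow, CharTwo.add_self_eq_zero]
    have hr4 := CharTwo.add_eq_zero.mp (pow_eq_zero_iff two_ne_zero |>.mp hr3)
    rw [hr, div_eq_one_iff_eq hx'] at hr4
    exact hr4
  rw [hinv]
  refine Subtype.ext ?_
  show ta _ x y * ta _ x' _ * (ta _ x y * ta _ x' _) = 1
  rw [ta_mul, ta_sq, hxx, CharTwo.add_self_eq_zero, map_zero, zero_mul, ta_one]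

/-- The commutator maps have at least three values. -/
theorem exists_two_commutators (hodd : Odd (orderOf φ)) (hne : φ ≠ RingEquiv.refl F)
    {g : PA} (hg : g * g ≠ 1) :
    ∃ k l : PA, ⁅g, k⁆ ≠ 1 ∧ ⁅g, l⁆ ≠ 1 ∧ ⁅g, k⁆ ≠ ⁅g, l⁆ := by
  obtain ⟨a, b, rfl⟩ := taEl_surj g
  have ha : a ≠ 0 := fun h => hg (by
    refine Subtype.ext ?_
    show ta _ a b * ta _ a b = 1
    rw [ta_sq, h, map_zero, zero_mul, ta_one])
  have hc : ∀ r : F, ⁅taEl (φ : F →+* F) a b, taEl (φ : F →+* F) (a * r) 0⁆ =
      taEl (φ : F →+* F) 0 (φ a * a * (r + φ r)) := by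
    intro r
    rw [commutatorElement_def, mul_inv_eq_iff_eq_mul, mul_inv_eq_iff_eq_mul]
    refine Subtype.ext ?_
    show ta _ a b * ta _ (a * r) 0 = ta _ 0 _ * ta _ (a * r) 0 * ta _ a b
    rw [ta_mul, ta_mul, ta_mul]
    congr 1
    · ring
    · simp only [RingEquiv.coe_toRingHom, zero_add, add_zero, map_mul, map_zero]
      linear_combination (-(φ a * φ r * a)) * CharTwo.two_eq_zero (R := F)
  have hval : ∀ r : F, φ a * a * (r + φ r) = 0 ↔ φ r = r := fun r => by
    rw [mul_eq_zero, or_iff_right (mul_ne_zero ((map_ne_zero φ).mpr ha) ha), CharTwo.add_eq_zero]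
    exact eq_comm
  obtain ⟨r₀, hr₀⟩ : ∃ r, φ r ≠ r := by
    by_contra h
    push Not at h
    exact hne (RingEquiv.ext h)
  obtain ⟨r₁, hr₁, hr₁'⟩ : ∃ r, φ r ≠ r ∧ r + φ r ≠ r₀ + φ r₀ := by
    by_contra h
    push Not at h
    set v := r₀ + φ r₀ with hv
    have hvfix : φ v = v := by
      by_contra hv'
      have h' : φ v = 0 := by linear_combination h v hv'
      rw [(map_eq_zero φ).mp h', map_zero] at hv'
      exact hv' rfl
    refine hr₀ (fix_of_apply_apply φ hodd ?_)
    have e : φ r₀ = v + r₀ := by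
      rw [hv]; linear_combination -r₀ * CharTwo.two_eq_zero (R := F)
    rw [e, map_add, hvfix, e]
    linear_combination v * CharTwo.two_eq_zero (R := F)
  refine ⟨taEl _ (a * r₀) 0, taEl _ (a * r₁) 0, ?_, ?_, ?_⟩
  · rw [hc]; exact fun h => hr₀ ((hval r₀).mp (ta_inj ((congrArg Subtype.val h).trans ta_one.symm)).2)
  · rw [hc]; exact fun h => hr₁ ((hval r₁).mp (ta_inj ((congrArg Subtype.val h).trans ta_one.symm)).2)
  · rw [hc, hc]
    intro h
    exact hr₁' (mul_left_cancel₀ (mul_ne_zero ((map_ne_zero φ).mpr ha) ha)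
      (ta_inj (congrArg Subtype.val h)).2).symm

end TypeA

end Cfsg.Agent.H72.Asch
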