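import Cfsg.Agent.H14.Asch.ShapesBase
import Cfsg.Agent.H26.Asch.TorusNormal
import Cfsg.Agent.H26.Asch.ClassBasics
import Cfsg.Agent.H29.Asch.ShapeChain

/-!
CLASS for a line of shape two: the general part of `ClassData`.  An element centralising `E` and
`u` and normalising a Sylow subgroup `R` of `C(E)` at `x` acts on it as an element of `R`.
-/

set_option autoImplicit false
set_option linter.style.haveILetI false
set_option linter.unusedSectionVars false

namespace Cfsg.Agent.H72.Asch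

open Subgroup MulAction
open Cfsg.Agent.H14.Asch
open Cfsg.Agent.H73.Asch (Line2)
open Cfsg.Agent.H6.Asch (normAt centAt)
open Cfsg.Agent.H26.Asch (classGroup ClassData)
open Cfsg.Agent.H51.Asch (MaxTwo coreStab nxt norm_nxt sq_mem_nxt comm_mem_nxt)
open scoped commutatorElement

universe u v

variable {G : Type u} [Group G] [Finite G]

section Shape

variable {R Q E A : Subgroup G} {u : G} (h : ShapeData R Q E A u)
include h

/-- An element of odd order centralising `E` and `u` and normalising `R` centralises `C_R(u)`. -/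
theorem commute_Q_of_odd (hs : Squaring Q E) {o : G} (ho : Odd (orderOf o))
    (hoR : o ∈ normalizer (R : Set G)) (hoE : ∀ e ∈ E, Commute o e) (hou : Commute o u) :
    ∀ q ∈ Q, Commute o q := by
  intro q hq
  obtain ⟨k, hk⟩ := ho
  have hpow : o = (o * o) ^ (k + 1) := by
    rw [← pow_two, ← pow_mul, show 2 * (k + 1) = orderOf o + 1 by omega, pow_succ,
      pow_orderOf_eq_one, one_mul]
  suffices Commute (o * o) q by rw [hpow]; exact this.pow_left _
  set z := o * q * o⁻¹ with hz
  have hzR : z ∈ R := (mem_normalizer_iff.mp hoR q).mp (h.le hq)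
  have hzu : Commute z u := (hou.mul_left (h.commute q hq)).mul_left hou.inv_left
  have hz2 : z * z = q * q := by
    rw [hz, show o * q * o⁻¹ * (o * q * o⁻¹) = o * (q * q) * o⁻¹ by group,
      (hoE _ (h.sq_mem q hq)).eq, mul_inv_cancel_right]
  have key : ∀ d ∈ E, ∀ w : G, Commute o w → Commute q w → w * w = 1 → z = d * q * w →
      Commute (o * o) q := by
    intro d hd w how hqw hw2 hzd
    refine mul_inv_eq_iff_eq_mul.mp ?_
    calc o * o * q * (o * o)⁻¹ = o * z * o⁻¹ := by rw [hz]; group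
      _ = o * d * o⁻¹ * (o * q * o⁻¹) * (o * w * o⁻¹) := by rw [hzd]; group
      _ = d * (d * q * w) * w := by
          rw [(hoE d hd).eq, mul_inv_cancel_right, how.eq, mul_inv_cancel_right, ← hz, hzd]
      _ = d * d * q * (w * w) := by group
      _ = q := by rw [h.sq d hd, hw2, one_mul, mul_one]
  rcases h.cent z hzR hzu with h1 | h1
  · exact key _ (hs.inj z h1 q hq hz2) 1 (Commute.one_right o) (Commute.one_right q) (one_mul 1)
      (by group)
  · have h2 : z * u * (z * u) = q * q := by rw [hzu.symm.mul_mul_mul_comm, h.sq_u, mul_one, hz2]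
    refine key _ (hs.inj (z * u) h1 q hq h2) u hou (h.commute q hq) h.sq_u ?_
    rw [inv_mul_cancel_right, mul_assoc, h.sq_u, mul_one]

/-- An element of `S ≤ C(E)` centralising `u` and normalising `R`, maximal among the two-subgroups
of `S`, acts on `R` as an element of `R`. -/
theorem exists_mem_conj_eq (hs : Squaring Q E) {S : Subgroup G} (hRS : R ≤ S)
    (hmax : ∀ P : Subgroup G, IsPGroup 2 P → P ≤ S → R ≤ P → P ≤ R)
    (hSE : ∀ s ∈ S, ∀ e ∈ E, Commute s e) {k : G} (hkS : k ∈ S)
    (hkR : k ∈ normalizer (R : Set G)) (hku : Commute k u) :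
    ∃ r ∈ R, ∀ z ∈ R, k * z * k⁻¹ = r * z * r⁻¹ := by
  haveI : Fact (Nat.Prime 2) := ⟨Nat.prime_two⟩
  set d := orderOf k with hd
  set v := d.factorization 2 with hv
  have hdiv : 2 ^ v ∣ d := Nat.ordProj_dvd _ _
  have hdm : ¬ 2 ∣ d / 2 ^ v := Nat.not_dvd_ordCompl Nat.prime_two (orderOf_pos k).ne'
  set o := k ^ (2 ^ v) with ho
  set t := k ^ (d / 2 ^ v) with ht
  have htR : t ∈ R := by
    have ht2 : IsPGroup 2 (zpowers t) := by
      intro y
      refine ⟨v, Subtype.ext ?_⟩
      obtain ⟨i, hi⟩ := mem_zpowers_iff.mp y.2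
      push_cast
      rw [← hi, ← zpow_natCast (t ^ i) (2 ^ v), ← zpow_mul, mul_comm, zpow_mul, zpow_natCast, ht,
        ← pow_mul, Nat.div_mul_cancel hdiv, hd, pow_orderOf_eq_one, one_zpow]
    exact hmax (R ⊔ zpowers t)
      (h.two.to_sup_of_normal_left' ht2 (zpowers_le.mpr (pow_mem hkR _)))
      (sup_le hRS (zpowers_le.mpr (pow_mem hkS _))) le_sup_left (mem_sup_right (mem_zpowers t))
  have hoR : o ∈ centralizer (R : Set G) := by
    have hodd : Nat.Coprime (orderOf o) 2 := by
      rw [ho, orderOf_pow' k (by positivity), Nat.gcd_eq_right hdiv]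
      exact (Nat.prime_two.coprime_iff_not_dvd.mpr hdm).symm
    have hou : Commute o u := hku.pow_left _
    have hoS : o ∈ S := pow_mem hkS _
    have hoQ := commute_Q_of_odd h hs (Nat.coprime_two_right.mp hodd) (pow_mem hkR _)
      (hSE o hoS) hou
    refine Coprime.thompson_AxB (P := zpowers u) (Q := zpowers o)
      (h.two.to_le (zpowers_le.mpr h.u_mem))
      (by rwa [Nat.card_zpowers]) ?_ R h.two ((zpowers_le.mpr h.u_mem).trans le_normalizer)
      (zpowers_le.mpr (pow_mem hkR _)) ?_ (mem_zpowers o)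
    · rw [zpowers_le, mem_centralizer_iff]
      rintro _ ⟨i, rfl⟩
      exact (hou.zpow_left i).eq
    · intro y hy
      rw [mem_centralizer_iff]
      rintro _ ⟨i, rfl⟩
      have hoy : Commute o y := by
        rcases h.cent y hy.1 (mem_centralizer_iff.mp hy.2 u (mem_zpowers u)).symm with h1 | h1
        · exact hoQ y h1
        · rw [show y = y * u * u by rw [mul_assoc, h.sq_u, mul_one]]
          exact (hoQ _ h1).mul_right hou
      exact (hoy.zpow_left i).eq
  have hco : Nat.Coprime (2 ^ v) (d / 2 ^ v) :=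
    (Nat.prime_two.coprime_iff_not_dvd.mpr hdm).pow_left v
  have hsplit : k = t ^ Nat.gcdB (2 ^ v) (d / 2 ^ v) * o ^ Nat.gcdA (2 ^ v) (d / 2 ^ v) := by
    have h1 := Nat.gcd_eq_gcd_ab (2 ^ v) (d / 2 ^ v)
    rw [hco.gcd_eq_one] at h1
    rw [ho, ht, ← zpow_natCast k, ← zpow_natCast k, ← zpow_mul, ← zpow_mul, ← zpow_add,
      add_comm, ← h1]
    simp
  refine ⟨t ^ Nat.gcdB (2 ^ v) (d / 2 ^ v), zpow_mem htR _, fun z hz => ?_⟩
  have hoz : Commute (o ^ Nat.gcdA (2 ^ v) (d / 2 ^ v)) z :=
    Commute.zpow_left (Commute.symm (mem_centralizer_iff.mp hoR z hz)) _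
  conv_lhs => rw [hsplit]
  rw [mul_inv_rev, show ∀ p q : G, p * q * z * (q⁻¹ * p⁻¹) = p * (q * z * q⁻¹) * p⁻¹ from
    fun p q => by group, hoz.eq, mul_inv_cancel_right]

/-- A non-trivial `A`-section without `u` above `S` has at least `|E|` elements; if no more, `A` is
transitive on it. -/
theorem card_mul_le_section {S K : Subgroup G} (hSK : S ≤ K) (hKM : K ≤ R)
    (hAS : A ≤ normalizer (S : Set G)) (hAK : A ≤ normalizer (K : Set G))
    (hu : u ∉ K) {g : G} (hg : g ∈ K) (hgS : g ∉ S) :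
    Nat.card E * Nat.card S ≤ Nat.card K ∧
      (Nat.card K ≤ Nat.card E * Nat.card S →
        ∀ y ∈ K, y ∉ S → ∃ a ∈ A, (a * g * a⁻¹)⁻¹ * y ∈ S) := by
  classical
  obtain ⟨e0, he0, he01⟩ := h.exists_ne_one
  have hb : ∀ e : E, ∃ a ∈ A, (e : G) ≠ 1 → a * e0 * a⁻¹ = e := fun e => by
    by_cases he : (e : G) = 1
    · exact ⟨1, A.one_mem, fun hn => absurd he hn⟩
    · obtain ⟨a, ha, hae⟩ := h.trans e0 he0 he01 e e.2 he
      exact ⟨a, ha, fun _ => hae⟩
  choose b hbA hbe using hb
  let p : E → G := fun e => if (e : G) = 1 then 1 else b e * g * (b e)⁻¹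
  have hpK : ∀ e, p e ∈ K := fun e => by
    simp only [p]
    split_ifs
    · exact K.one_mem
    · exact (mem_normalizer_iff.mp (hAK (hbA e)) g).mp hg
  have hmoveS : ∀ a ∈ A, a * g * a⁻¹ ∉ S := fun a ha hm =>
    hgS ((mem_normalizer_iff.mp (hAS ha) g).mpr hm)
  have hinj : ∀ e e', (p e)⁻¹ * p e' ∈ S → e = e' := by
    intro e e' hm
    simp only [p] at hm
    split_ifs at hm with h1 h2 h2
    · exact Subtype.ext (h1.trans h2.symm)
    · rw [inv_one, one_mul] at hm
      exact absurd hm (hmoveS _ (hbA e'))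
    · rw [mul_one] at hm
      exact absurd (inv_mem_iff.mp hm) (hmoveS _ (hbA e))
    · by_contra hne
      set a := (b e)⁻¹ * b e' with hadef
      have haA : a ∈ A := A.mul_mem (inv_mem (hbA e)) (hbA e')
      have hmove : a * e0 * a⁻¹ ≠ e0 := fun hfx => hne (Subtype.ext (by
        rw [← hbe e h1, ← hbe e' h2]
        calc b e * e0 * (b e)⁻¹ = b e * (a * e0 * a⁻¹) * (b e)⁻¹ := by rw [hfx]
          _ = b e' * e0 * (b e')⁻¹ := by rw [hadef]; group))
      have hga : g⁻¹ * (a * g * a⁻¹) ∈ S := by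
        have h3 := (mem_normalizer_iff.mp (hAS (inv_mem (hbA e))) _).mp hm
        convert h3 using 1
        rw [hadef]; group
      obtain ⟨c, hc, hcs⟩ := Coprime.exists_centralizer_mem_coset
        ((zpowers_le.mpr haA).trans h.normM) (h.coprime_zpowers haA) (Or.inr h.isSolvable)
        (N := S) (hSK.trans hKM) ((zpowers_le.mpr haA).trans hAS) (hKM hg) (by
          intro x hx
          obtain ⟨i, rfl⟩ : ∃ i : ℕ, a ^ i = x :=
            (isOfFinOrder_of_finite a).mem_powers_iff_mem_zpowers.mpr hx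
          induction i with
          | zero => simp
          | succ i ih =>
            have e1 : g⁻¹ * (a ^ (i + 1) * g * (a ^ (i + 1))⁻¹) =
                g⁻¹ * (a * g * a⁻¹) * (a * (g⁻¹ * (a ^ i * g * (a ^ i)⁻¹)) * a⁻¹) := by
              rw [pow_succ']; group
            rw [e1]
            exact mul_mem hga ((mem_normalizer_iff.mp (hAS haA) _).mp
              (ih (pow_mem (mem_zpowers a) i))))
      have hca : a * c * a⁻¹ = c := by
        rw [mem_centralizer_iff.mp hc.2 a (mem_zpowers a), mul_inv_cancel_right]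
      have hcK : c ∈ K := by
        have := K.mul_mem hg (hSK hcs)
        rwa [mul_inv_cancel_left] at this
      have hcS : c ∈ S := by
        rcases h.eq_one_or_eq haA he0 hmove hc.1 hca with rfl | rfl
        · exact S.one_mem
        · exact absurd hcK hu
      exact hgS (by simpa using S.mul_mem hcS (inv_mem hcs))
  let f : E × S → K := fun q => ⟨p q.1 * q.2, K.mul_mem (hpK q.1) (hSK q.2.2)⟩
  have hf : Function.Injective f := by
    rintro ⟨e, s⟩ ⟨e', s'⟩ he
    have he' : p e * (s : G) = p e' * (s' : G) := congrArg Subtype.val he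
    have hee : e = e' := hinj e e' (by
      have : (p e)⁻¹ * p e' = (s : G) * (s' : G)⁻¹ := by
        rw [eq_mul_inv_iff_mul_eq, mul_assoc, ← he', inv_mul_cancel_left]
      rw [this]
      exact S.mul_mem s.2 (inv_mem s'.2))
    subst hee
    exact Prod.ext rfl (Subtype.ext (mul_left_cancel he'))
  have hle := Nat.card_le_card_of_injective f hf
  rw [Nat.card_prod] at hle
  refine ⟨hle, fun hge y hy hyS => ?_⟩
  obtain ⟨⟨e, s⟩, he⟩ := ((Nat.bijective_iff_injective_and_card f).mpr
    ⟨hf, by rw [Nat.card_prod]; exact le_antisymm hle hge⟩).2 ⟨y, hy⟩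
  have he' : p e * (s : G) = y := congrArg Subtype.val he
  have he1 : (e : G) ≠ 1 := fun h1 => hyS (by
    rw [← he', show p e = 1 from if_pos h1, one_mul]; exact s.2)
  refine ⟨b e, hbA e, ?_⟩
  rw [← he', show p e = b e * g * (b e)⁻¹ from if_neg he1, inv_mul_cancel_left]
  exact s.2

/-- The conjugate of `C_R(u)` by an element normalising `R`. -/
theorem mem_cases_of_commute_conj {g : G} (hgR : g ∈ normalizer (R : Set G)) {z : G} (hz : z ∈ R)
    (hzv : Commute z (g * u * g⁻¹)) : g⁻¹ * z * g ∈ Q ∨ g⁻¹ * z * g * u ∈ Q := by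
  refine h.cent _ ?_ ?_
  · have := (mem_normalizer_iff.mp (inv_mem hgR) z).mp hz
    rwa [inv_inv] at this
  · have h1 := commute_conj hzv g⁻¹
    rw [inv_inv] at h1
    rwa [show g⁻¹ * (g * u * g⁻¹) * g = u by group] at h1

theorem card_centralizer_conj_le {g : G} (hgR : g ∈ normalizer (R : Set G)) :
    Nat.card (⁅R, A⁆ ⊓ centralizer {g * u * g⁻¹} : Subgroup G) ≤ 2 * Nat.card Q := by
  classical
  have hc : ∀ z : (⁅R, A⁆ ⊓ centralizer {g * u * g⁻¹} : Subgroup G),
      g⁻¹ * (z : G) * g ∈ Q ∨ g⁻¹ * (z : G) * g * u ∈ Q := fun z =>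
    mem_cases_of_commute_conj h hgR (h.commutator_le z.2.1) (mem_centralizer_singleton_iff.mp z.2.2)
  let f : (⁅R, A⁆ ⊓ centralizer {g * u * g⁻¹} : Subgroup G) → Bool × Q := fun z =>
    if hq : g⁻¹ * (z : G) * g ∈ Q then (true, ⟨_, hq⟩) else (false, ⟨_, (hc z).resolve_left hq⟩)
  have hf : Function.Injective f := by
    intro z z' e
    apply Subtype.ext
    simp only [f] at e
    split_ifs at e with h1 h2 h2 <;> simp at e <;> exact congrArg Subtype.val e
  have h1 := Nat.card_le_card_of_injective f hf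
  rwa [Nat.card_prod, Nat.card_eq_fintype_card (α := Bool), Fintype.card_bool] at h1

end Shape

variable {Ω : Type v} [MulAction G Ω] [Finite Ω] {D : Set G} {u : G} {x y : Ω}
  {E Q A₀ R A : Subgroup G}

/-- `ClassData` at the top of the climb for shape two. -/
theorem classData_of_shapeTwo (h : Crit G Ω D) (hl : Line2 D u x E Q) (hy : u • y = y) (hyx : y ≠ x)
    (hA₀ : A₀ ≤ lineGroup D u ⊓ pairStab G x y) (hA₀E : A₀ ≤ normalizer (E : Set G))
    (hA₀K : A₀ ≤ normalizer (coreStab x E : Set G)) (hR : MaxTwo (coreStab x E) R)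
    (hA : A ≤ A₀ ⊔ coreStab x E) (hd : ShapeData R Q E A u) (hs : Squaring Q E) {N : Subgroup G}
    (hNK : N ≤ ⁅R, A⁆) (hsq : ∀ g ∈ R, g * g ∈ N)
    (hinv : ∀ g ∈ classGroup x E R, ∀ n ∈ N, g * n * g⁻¹ ∈ N)
    (hcard : Nat.card (⁅R, A⁆ : Subgroup G) = Nat.card E * Nat.card N)
    (hconj : ∀ g ∈ classGroup x E R, g * u * g⁻¹ * u ∈ ⁅R, A⁆)
    (hfilled : ∀ n ∈ N, ∀ g ∈ classGroup x E R, g * u * g⁻¹ = n * u →
      ∃ c ∈ R, g * u * g⁻¹ = c * u * c⁻¹) :
    ClassData u x E R ⁅R, A⁆ N A := by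
  have hu := hd.u_notMem_commutator (Or.inl hs)
  have hAn : A ≤ normAt x E := le_inf (hA.trans (sup_le
    (fun _ ha => mem_stabilizer_iff.mpr (mem_pairStab.mp (mem_inf.mp (hA₀ ha)).2).1) inf_le_left))
    hd.normE
  have hcomm : ∀ a ∈ A, ∀ b ∈ A, Commute a b := fun a ha b hb =>
    congrArg Subtype.val (hd.comm ⟨a, ha⟩ ⟨b, hb⟩)
  have hRC : R ≤ classGroup x E R :=
    le_inf (hR.2.1.trans (H26.Asch.centAt_le_normAt' x E)) le_normalizer
  have hAC : A ≤ classGroup x E R := le_inf hAn hd.normM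
  refine
    { R_two := hR.1
      R_le := hR.2.1
      R_max := fun P h1 h2 h3 => (hR.2.2 P h1 h2 h3).le
      u_mem := hd.u_mem
      sq_u := hd.sq_u
      E_two := hd.sq
      four_le := hd.four_le
      K_le := hd.commutator_le
      K_cases := fun _ hg => hd.mem_or_mul_mem hg
      u_notMem := hu
      N_le := hNK
      sq_mem := hsq
      N_invariant := hinv
      card_K := hcard
      A_le := hAC
      A_commute := fun a ha => mul_inv_eq_iff_eq_mul.mp (hd.fix a ha)
      A_comm := hcomm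
      trans := fun a ha b hb ha1 hb1 => hd.trans a ha ha1 b hb hb1
      K_invariant := fun _ ha k hk =>
        (mem_normalizer_iff.mp (normalizer_commutator_ge_right R A ha) k).mp hk
      trans_top := fun k hk l hl hkN hlN => ?_
      conj_mul_mem := hconj
      filled := hfilled
      cent_triv := fun g hg hgE hgu k hk => ?_
      torus_norm := fun g hg hgu a ha => ?_ }
  · have hAN : A ≤ normalizer (N : Set G) :=
      le_normalizer_iff.mpr fun a ha n hn => hinv a (hAC ha) n hn
    obtain ⟨a, ha, hal⟩ := (card_mul_le_section hd hNK hd.commutator_le hAN hd.normA_commutator hu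
      hk hkN).2 hcard.le l hl hlN
    refine ⟨a, ha, ?_⟩
    set p := a * k * a⁻¹ with hp
    have h1 := hinv p (hRC (hd.conj_mem_M ha (hd.commutator_le hk))) _ (inv_mem hal)
    rwa [show p * (p⁻¹ * l)⁻¹ * p⁻¹ = p * l⁻¹ by group] at h1
  · obtain ⟨r, hr, hrz⟩ := exists_mem_conj_eq hd hs hR.2.1
      (fun P h1 h2 h3 => (hR.2.2 P h1 h2 h3).le)
      (fun s hs' e he => (mem_centralizer_iff.mp (mem_inf.mp hs').2 e he).symm)
      hgE (mem_inf.mp hg).2 hgu
    rw [commutatorElement_def, hrz k (hd.commutator_le hk), ← commutatorElement_def]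
    have hkR := hd.commutator_le hk
    rw [show ⁅r, k⁆ = r * r * (r⁻¹ * k * (r⁻¹ * k)) * (k⁻¹ * k⁻¹) by
      rw [commutatorElement_def]; group]
    exact N.mul_mem (N.mul_mem (hsq r hr) (hsq _ (R.mul_mem (R.inv_mem hr) hkR)))
      (hsq _ (R.inv_mem hkR))
  · refine H26.Asch.exists_torus_conj h hl hy hyx hAn
      (fun a ha => H29.Asch.exists_core_image h hl hy hyx hA₀ hA₀E hA₀K (hA ha))
      (fun a ha b hb e _ => ?_)
      (fun a ha b hb ha1 hb1 => hd.trans a ha ha1 b hb hb1) (mem_inf.mp hg).1 hgu ha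
    rw [commutatorElement_eq_one_iff_commute.mpr (hcomm a ha b hb), one_mul, mul_one]

end Cfsg.Agent.H72.Asch
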