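import Cfsg.Agent.H72.Asch.ShapeTwoBase
import Cfsg.Agent.H72.Asch.ShapeTwoLayers
import Cfsg.Agent.H72.Asch.OrbitMaps

/-!
One layer of shape two: an invariant complement `C` of `Q` modulo `E` in `⁅R, A⁆` is abelian, and
either `Q` centralises it or no element of `Q` outside `E` commutes with one of `C` outside `E`.
-/

set_option autoImplicit false
set_option linter.style.haveILetI false
set_option linter.unusedSectionVars false

namespace Cfsg.Agent.H72.Asch

open Subgroup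
open Cfsg.Agent.H14.Asch
open Cfsg.Agent.H51.Asch (nxt nxt_le norm_nxt sq_mem_nxt comm_mem_nxt inf_norm
  card_le_centralized_mul)
open scoped commutatorElement

universe u

variable {G : Type u} [Group G] [Finite G]

/-- The data of one layer: `C` is a complement of `Q` modulo `E` in `⁅R, A⁆`. -/
structure LayerCompl (R Q E A : Subgroup G) (u : G) (C : Subgroup G) : Prop where
  layer : ∀ g ∈ R, ∀ k ∈ R, ⁅g, k⁆ ∈ E
  sq : ∀ g ∈ R, g * g ∈ E
  le_E : E ≤ C
  le : C ≤ ⁅R, A⁆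
  normA : A ≤ normalizer (C : Set G)
  inf_le : ∀ q ∈ Q, q ∈ C → q ∈ E
  onto : ∀ e ∈ E, ∃ x ∈ C, ⁅x, u⁆ = e
  comm : ∀ x ∈ C, ∀ y ∈ C, Commute x y

variable {R Q E A : Subgroup G} {u : G} (h : ShapeData R Q E A u)
include h

theorem comm_E_mul {g x d : G} (hg : g ∈ R) (hx : x ∈ R) (hd : d ∈ E) :
    ⁅g, x * d⁆ = ⁅g, x⁆ := by
  have h1 : ⁅g, d⁆ = 1 := h.comm_E hg hd
  rw [h.comm_mul_right hx (h1 ▸ E.one_mem), h1, mul_one]

theorem comm_E_mul_left {g x d : G} (hg : g ∈ R) (hx : x ∈ R) (hd : d ∈ E) :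
    ⁅x * d, g⁆ = ⁅x, g⁆ := by
  rw [← commutatorElement_inv, comm_E_mul h hg hx hd, commutatorElement_inv]

variable (hs : Squaring Q E) (hlayer : u ∈ h.zTwo) (hmove : ∃ g ∈ R, ¬ Commute g u)
include hs hlayer

theorem layer_sq : ∀ g ∈ R, g * g ∈ E := h.sq_mem_E_of_layer hs hlayer.2

theorem layer_comm : ∀ g ∈ R, ∀ k ∈ R, ⁅g, k⁆ ∈ E := by
  intro g hg k hk
  rw [show ⁅g, k⁆ = g * g * (g⁻¹ * k * (g⁻¹ * k)) * (k⁻¹ * k⁻¹) by
    rw [commutatorElement_def]; group]
  exact E.mul_mem (E.mul_mem (layer_sq h hs hlayer g hg)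
    (layer_sq h hs hlayer _ (R.mul_mem (R.inv_mem hg) hk))) (layer_sq h hs hlayer _ (R.inv_mem hk))

include hmove

theorem layer_onto {e : G} (he : e ∈ E) : ∃ k ∈ ⁅R, A⁆, ⁅k, u⁆ = e := by
  by_cases he1 : e = 1
  · exact ⟨1, one_mem _, by rw [he1, commutatorElement_one_left]⟩
  obtain ⟨g, hg, hgu⟩ := hmove
  obtain ⟨k, hk, hku⟩ : ∃ k ∈ ⁅R, A⁆, ⁅k, u⁆ ≠ 1 := by
    rcases h.mem_or_mul_mem hg with h1 | h1
    · exact ⟨g, h1, fun e1 => hgu (commutatorElement_eq_one_iff_commute.mp e1)⟩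
    · refine ⟨g * u, h1, fun e1 => hgu ?_⟩
      have h2 := (commutatorElement_eq_one_iff_commute.mp e1).mul_left (Commute.refl u)
      rwa [mul_assoc, h.sq_u, mul_one] at h2
  obtain ⟨a, ha, hae⟩ := h.trans _ (hlayer.2 k (h.commutator_le hk)) hku e he he1
  exact ⟨a * k * a⁻¹, (mem_normalizer_iff.mp (h.normA_commutator ha) k).mp hk,
    by rw [← h.conj_comm_u ha, hae]⟩

/-- An `A`-invariant complement of `Q` modulo `E`. -/
theorem exists_compl_weak : ∃ C : Subgroup G, E ≤ C ∧ C ≤ ⁅R, A⁆ ∧ A ≤ normalizer (C : Set G) ∧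
    (∀ q ∈ Q, q ∈ C → q ∈ E) ∧ ∀ e ∈ E, ∃ x ∈ C, ⁅x, u⁆ = e := by
  classical
  set K : Subgroup G := ⁅R, A⁆ with hK
  have hKR : K ≤ R := h.commutator_le
  have hQK : Q ≤ K := h.Q_le_commutator
  obtain ⟨T, -, hT⟩ := Finite.exists_le_maximal
    (p := fun T : Subgroup G => E ≤ T ∧ T ≤ K ∧ ∀ q ∈ Q, q ∈ T → q ∈ E) (a := E)
    ⟨le_rfl, h.E_le_commutator, fun q _ hq => hq⟩
  obtain ⟨hET, hTK, hTQ⟩ := hT.1
  have hnorm : ∀ r ∈ R, ∀ t ∈ T, r * t * r⁻¹ ∈ T := fun r hr t ht => by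
    have := T.mul_mem (hET (layer_comm h hs hlayer r hr t (hKR (hTK ht)))) ht
    rwa [commutatorElement_def, inv_mul_cancel_right] at this
  -- `K = Q T`
  have hex : ∀ k : K, ∃ q : Q, (q : G)⁻¹ * k ∈ T := by
    intro k
    by_contra hc
    push Not at hc
    let T' : Subgroup G :=
      { carrier := {g | g ∈ T ∨ g * (k : G) ∈ T}
        one_mem' := Or.inl T.one_mem
        mul_mem' := by
          intro a b ha hb
          have hk2 : (k : G) * k ∈ T := hET (layer_sq h hs hlayer k (hKR k.2))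
          rcases hb with hb | hb
          · rcases ha with ha | ha
            · exact Or.inl (T.mul_mem ha hb)
            · refine Or.inr ?_
              have h1 := T.mul_mem ha (hnorm _ (R.inv_mem (hKR k.2)) b hb)
              rwa [show a * k * ((k : G)⁻¹ * b * (k : G)⁻¹⁻¹) = a * b * k by group] at h1
          · rcases ha with ha | ha
            · exact Or.inr (by rw [mul_assoc]; exact T.mul_mem ha hb)
            · refine Or.inl ?_
              have h1 := T.mul_mem (T.mul_mem ha (hnorm _ (R.inv_mem (hKR k.2)) _ hb))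
                (T.inv_mem hk2)
              convert h1 using 1
              group
        inv_mem' := by
          intro a ha
          rcases ha with ha | ha
          · exact Or.inl (T.inv_mem ha)
          · refine Or.inr ?_
            have hk2 : (k : G) * k ∈ T := hET (layer_sq h hs hlayer k (hKR k.2))
            have h1 := T.mul_mem (hnorm _ (hKR k.2) _ (T.inv_mem ha)) hk2
            convert h1 using 1
            group }
    have hT'K : T' ≤ K := fun g hg => by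
      rcases hg with hg | hg
      · exact hTK hg
      · have := K.mul_mem (hTK hg) (K.inv_mem k.2)
        rwa [mul_inv_cancel_right] at this
    have hkT' : (k : G) ∈ T' := Or.inr (hET (layer_sq h hs hlayer k (hKR k.2)))
    have hle := hT.2 (y := T') ⟨fun e he => Or.inl (hET he), hT'K, fun q hq hq' => by
      rcases hq' with h1 | h1
      · exact hTQ q hq h1
      · exact absurd (by rwa [← inv_inv q] at h1) (hc ⟨q⁻¹, Q.inv_mem hq⟩)⟩
      (fun t ht => Or.inl ht) hkT'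
    exact hc 1 (by rw [OneMemClass.coe_one, inv_one, one_mul]; exact hle)
  choose p hp using hex
  haveI hEn : (E.subgroupOf Q).Normal := ⟨fun n hn g => mem_subgroupOf.mpr (by
    push_cast
    rw [h.conj_E (h.le g.2) (mem_subgroupOf.mp hn)]
    exact mem_subgroupOf.mp hn)⟩
  let cl : Q → Q ⧸ E.subgroupOf Q := QuotientGroup.mk
  have hcl : ∀ a b : Q, cl a = cl b ↔ (a : G)⁻¹ * b ∈ E := fun a b => QuotientGroup.eq
  letI : CommGroup (Q ⧸ E.subgroupOf Q) :=
    { (inferInstance : Group (Q ⧸ E.subgroupOf Q)) with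
      mul_comm := fun a b => by
        obtain ⟨a, rfl⟩ := QuotientGroup.mk_surjective a
        obtain ⟨b, rfl⟩ := QuotientGroup.mk_surjective b
        refine QuotientGroup.eq.mpr (mem_subgroupOf.mpr ?_)
        have h1 := h.comm_mem _ (Q.inv_mem b.2) _ (Q.inv_mem a.2)
        rw [commutatorElement_def] at h1
        push_cast
        convert h1 using 1
        group }
  -- well defined and multiplicative
  have hpuniq : ∀ (k : K) (q : Q), (q : G)⁻¹ * k ∈ T → cl (p k) = cl q := fun k q hq => by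
    refine (hcl _ _).mpr (hTQ _ (Q.mul_mem (Q.inv_mem (p k).2) q.2) ?_)
    have := T.mul_mem (hp k) (T.inv_mem hq)
    convert this using 1
    group
  have hpmul : ∀ k l : K, cl (p (k * l)) = cl (p k * p l) := fun k l => by
    refine hpuniq _ _ ?_
    push_cast
    have h1 := T.mul_mem (hnorm _ (R.inv_mem (h.le (p l).2)) _ (hp k)) (hp l)
    convert h1 using 1
    group
  have hAK : ∀ (a : A) (k : K), (a : G)⁻¹ * k * a ∈ K := fun a k => by
    have := (mem_normalizer_iff.mp (h.normA_commutator (inv_mem a.2)) k).mp k.2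
    rwa [inv_inv] at this
  let w : A → K → Q := fun a k => ⟨(a : G) * (p ⟨_, hAK a k⟩ : G) * (a : G)⁻¹,
    (mem_normalizer_iff.mp (h.normQ a.2) _).mp (p _).2⟩
  have hconjE : ∀ (a : A) (x y : G), x⁻¹ * y ∈ E →
      ((a : G) * x * (a : G)⁻¹)⁻¹ * ((a : G) * y * (a : G)⁻¹) ∈ E := fun a x y hxy => by
    have := (mem_normalizer_iff.mp (h.normE a.2) _).mp hxy
    convert this using 1
    group
  letI : Fintype A := Fintype.ofFinite A
  have hwmul : ∀ a k l, cl (w a (k * l)) = cl (w a k) * cl (w a l) := fun a k l => by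
    refine (hcl _ (w a k * w a l)).mpr ?_
    have h1 := hconjE a _ _ ((hcl _ _).mp (hpmul ⟨_, hAK a k⟩ ⟨_, hAK a l⟩))
    have e : (⟨_, hAK a (k * l)⟩ : K) = ⟨_, hAK a k⟩ * ⟨_, hAK a l⟩ := Subtype.ext (by
      push_cast; group)
    push_cast at h1
    show ((a : G) * (p ⟨_, hAK a (k * l)⟩ : G) * (a : G)⁻¹)⁻¹ * _ ∈ E
    rw [e]
    push_cast
    convert h1 using 1
    simp only [w]
    group
  let π : K →* Q ⧸ E.subgroupOf Q := MonoidHom.mk' (fun k => ∏ a : A, cl (w a k)) fun k l => by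
    rw [← Finset.prod_mul_distrib]
    exact Finset.prod_congr rfl fun a _ => hwmul a k l
  have hπQ : ∀ (q : G) (hq : q ∈ Q), π ⟨q, hQK hq⟩ = cl ⟨q, hq⟩ := by
    intro q hq
    show ∏ a : A, cl (w a _) = _
    rw [Finset.prod_congr rfl fun a _ => show cl (w a ⟨q, hQK hq⟩) = cl ⟨q, hq⟩ from ?_,
      Finset.prod_const, Finset.card_univ]
    · obtain ⟨m, hm⟩ := h.odd
      rw [Nat.card_eq_fintype_card] at hm
      have h2 : cl ⟨q, hq⟩ ^ 2 = 1 := by
        rw [pow_two]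
        refine (QuotientGroup.eq_one_iff (N := E.subgroupOf Q) (⟨q, hq⟩ * ⟨q, hq⟩ : Q)).mpr (mem_subgroupOf.mpr ?_)
        exact h.sq_mem q hq
      rw [hm, pow_succ, pow_mul, h2, one_pow, one_mul]
    · have hq' : (a : G)⁻¹ * q * a ∈ Q := by
        have := (mem_normalizer_iff.mp (h.normQ (inv_mem a.2)) q).mp hq
        rwa [inv_inv] at this
      have h1 := hconjE a _ _ ((hcl _ _).mp (hpuniq ⟨_, hAK a ⟨q, hQK hq⟩⟩ ⟨_, hq'⟩
        (by rw [inv_mul_cancel]; exact T.one_mem)))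
      refine (hcl _ _).mpr ?_
      convert h1 using 1
      simp only [w]
      group
  refine ⟨π.ker.map K.subtype, fun e he => ?_, map_subtype_le _, le_normalizer_iff.mpr ?_,
    fun q hq hq' => ?_, fun e he => ?_⟩
  · refine ⟨⟨e, hQK (h.le_E he)⟩, ?_, rfl⟩
    show π _ = 1
    rw [hπQ e (h.le_E he)]
    exact (QuotientGroup.eq_one_iff _).mpr (mem_subgroupOf.mpr he)
  · rintro b hb _ ⟨k, hk, rfl⟩
    have hbk : b * (k : G) * b⁻¹ ∈ K := (mem_normalizer_iff.mp (h.normA_commutator hb) k).mp k.2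
    refine ⟨⟨_, hbk⟩, ?_, rfl⟩
    let β : Q →* Q := MonoidHom.mk' (fun q => ⟨b * q * b⁻¹,
      (mem_normalizer_iff.mp (h.normQ hb) _).mp q.2⟩) fun q q' => Subtype.ext (by push_cast; group)
    let βb : Q ⧸ E.subgroupOf Q →* Q ⧸ E.subgroupOf Q := QuotientGroup.map (E.subgroupOf Q) (E.subgroupOf Q) β fun q hq => mem_subgroupOf.mpr
      ((mem_normalizer_iff.mp (h.normE hb) _).mp (mem_subgroupOf.mp hq))
    show ∏ a : A, cl (w a _) = 1
    have h1 : βb (π k) = 1 := by rw [show π k = 1 from hk, _root_.map_one]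
    rw [← h1]
    show _ = βb (∏ a : A, cl (w a k))
    rw [map_prod]
    refine Fintype.prod_equiv (Equiv.mulLeft (⟨b, hb⟩ : A)⁻¹) _ _ fun a => ?_
    refine (hcl _ (β (w _ k))).mpr ?_
    have e : (⟨_, hAK a ⟨_, hbk⟩⟩ : K) = ⟨_, hAK ((⟨b, hb⟩ : A)⁻¹ * a) k⟩ := Subtype.ext (by
      push_cast; group)
    simp only [w, β, Equiv.coe_mulLeft, MonoidHom.mk'_apply]
    rw [e]
    push_cast
    convert E.one_mem using 1
    group
  · obtain ⟨k, hk, rfl⟩ := hq'
    have h1 := (hπQ _ hq).symm.trans (show π ⟨_, hQK hq⟩ = 1 from hk)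
    exact mem_subgroupOf.mp ((QuotientGroup.eq_one_iff (⟨_, hq⟩ : Q)).mp h1)
  · obtain ⟨k, hk, hke⟩ := layer_onto h hs hlayer hmove he
    obtain ⟨q, hq⟩ := QuotientGroup.mk_surjective (π ⟨k, hk⟩)
    refine ⟨(q : G)⁻¹ * k, ⟨⟨_, K.mul_mem (K.inv_mem (hQK q.2)) hk⟩, ?_, rfl⟩, ?_⟩
    · show π (⟨(q : G), hQK q.2⟩⁻¹ * ⟨k, hk⟩) = 1
      rw [_root_.map_mul, _root_.map_inv, hπQ _ q.2, show cl ⟨(q : G), q.2⟩ = π ⟨k, hk⟩ from hq,
        inv_mul_cancel]
    · have hqu : Commute (q : G)⁻¹ u := (h.commute q q.2).inv_left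
      rw [h.comm_mul_left (R.inv_mem (h.le q.2)) (hlayer.2 k (hKR hk)),
        commutatorElement_eq_one_iff_commute.mpr hqu, mul_one, hke]

variable (hQE : ¬ Q ≤ E)
include hQE

/-- The complement is abelian; it is centralised by `Q` or the pairing is non-degenerate. -/
theorem exists_layerCompl : ∃ C : Subgroup G, LayerCompl R Q E A u C ∧
    ((∀ q ∈ Q, ∀ x ∈ C, Commute q x) ∨
      ∀ q ∈ Q, q ∉ E → ∀ x ∈ C, x ∉ E → ¬ Commute q x) := by
  classical
  obtain ⟨C, hEC, hCK, hAC, hCQ, honto⟩ := exists_compl_weak h hs hlayer hmove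
  have hu := h.u_notMem_commutator (Or.inl hs)
  have hCR : C ≤ R := hCK.trans h.commutator_le
  have hC := layer_comm h hs hlayer
  choose sc hscC hsce using fun e : E => honto e e.2
  have hdiff : ∀ x ∈ C, ∀ y ∈ C, ⁅x, u⁆ = ⁅y, u⁆ → y⁻¹ * x ∈ E := fun x hx y hy e =>
    hCQ _ (inv_mul_mem_Q h hu (hCK hx) (hCK hy) e) (C.mul_mem (C.inv_mem hy) hx)
  have hsmul : ∀ (e e' : E), (sc (e * e'))⁻¹ * (sc e * sc e') ∈ E := fun e e' => by
    refine hdiff _ (C.mul_mem (hscC e) (hscC e')) _ (hscC _) ?_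
    rw [h.comm_mul_left (hCR (hscC e)) (hlayer.2 _ (hCR (hscC e'))), hsce, hsce, hsce]
    exact (h.central e e.2 _ (h.le_M e'.2)).symm.eq
  have hcongr : ∀ {g x y : G}, g ∈ R → x ∈ R → y ∈ R → x⁻¹ * y ∈ E → ⁅g, y⁆ = ⁅g, x⁆ := by
    intro g x y hg hx hy hxy
    conv_lhs => rw [show y = x * (x⁻¹ * y) by group]
    exact comm_E_mul h hg hx hxy
  letI : CommGroup E := { (inferInstance : Group E) with
    mul_comm := fun a b => Subtype.ext (h.central a a.2 b (h.le_M b.2)).eq }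
  letI : DistribMulAction A (Additive E) :=
    { smul := fun a e => Additive.ofMul (⟨(a : G) * (Additive.toMul e : E) * (a : G)⁻¹,
        (mem_normalizer_iff.mp (h.normE a.2) _).mp (Additive.toMul e).2⟩ : E)
      one_smul := fun e => congrArg Additive.ofMul (Subtype.ext (by
        show ((1 : A) : G) * (Additive.toMul e : E) * ((1 : A) : G)⁻¹ = (Additive.toMul e : E)
        simp))
      mul_smul := fun a b e => congrArg Additive.ofMul (Subtype.ext (by
        show ((a * b : A) : G) * (Additive.toMul e : E) * ((a * b : A) : G)⁻¹ =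
          (a : G) * ((b : G) * (Additive.toMul e : E) * (b : G)⁻¹) * (a : G)⁻¹
        push_cast; group))
      smul_zero := fun a => congrArg Additive.ofMul (Subtype.ext (by simp))
      smul_add := fun a e e' => congrArg Additive.ofMul (Subtype.ext (by
        show (a : G) * ((Additive.toMul e : E) * (Additive.toMul e' : E)) * (a : G)⁻¹ =
          (a : G) * (Additive.toMul e : E) * (a : G)⁻¹ *
            ((a : G) * (Additive.toMul e' : E) * (a : G)⁻¹)
        group)) }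
  have hsval : ∀ (a : A) (e : Additive E), ((Additive.toMul (a • e) : E) : G) =
      (a : G) * (Additive.toMul e : E) * (a : G)⁻¹ := fun _ _ => rfl
  have hscA : ∀ (a : A) (e : Additive E),
      ((a : G) * sc e.toMul * (a : G)⁻¹)⁻¹ * sc (a • e).toMul ∈ E := fun a e => by
    refine hdiff _ (hscC _) _ ((mem_normalizer_iff.mp (hAC a.2) _).mp (hscC _)) ?_
    rw [← h.conj_comm_u a.2, hsce, hsce, hsval]
  have htorus : H26.Asch.Torus (⊤ : Subgroup A) (Additive E) := by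
    refine ⟨fun e => congrArg Additive.ofMul (Subtype.ext (h.sq _ (Additive.toMul e).2)), h.four_le,
      fun a _ b _ e => ?_, fun e e' he he' => ?_⟩
    · rw [← mul_smul, ← mul_smul, h.comm a b]
    · obtain ⟨a, ha, hae⟩ := h.trans _ (Additive.toMul e).2
        (fun h1 => he (congrArg Additive.ofMul (Subtype.ext h1)))
        _ (Additive.toMul e').2 fun h1 => he' (congrArg Additive.ofMul (Subtype.ext h1))
      exact ⟨⟨a, ha⟩, mem_top _, congrArg Additive.ofMul (Subtype.ext hae)⟩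
  -- the pairing with an element of `R`
  let γ : R → Additive E →+ Additive E := fun g => AddMonoidHom.mk'
    (fun e => Additive.ofMul (⟨⁅(g : G), sc e.toMul⁆, hC _ g.2 _ (hCR (hscC _))⟩ : E)) fun e e' => by
      refine congrArg Additive.ofMul (Subtype.ext ?_)
      show ⁅(g : G), sc (e.toMul * e'.toMul)⁆ = ⁅(g : G), sc e.toMul⁆ * ⁅(g : G), sc e'.toMul⁆
      rw [← h.comm_mul_right (hCR (hscC _)) (hC _ g.2 _ (hCR (hscC _)))]
      exact (hcongr g.2 (hCR (hscC _)) (R.mul_mem (hCR (hscC _)) (hCR (hscC _))) (hsmul _ _)).symm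
  have hγmul : ∀ g g' : R, γ (g * g') = γ g + γ g' := fun g g' => AddMonoidHom.ext fun e =>
    congrArg Additive.ofMul (Subtype.ext (by
      show ⁅(g : G) * g', sc e.toMul⁆ = ⁅(g : G), sc e.toMul⁆ * ⁅(g' : G), sc e.toMul⁆
      rw [h.comm_mul_left g.2 (hC _ g'.2 _ (hCR (hscC _)))]
      exact ((h.central _ (hC _ g.2 _ (hCR (hscC _))) _
        (h.le_M (hC _ g'.2 _ (hCR (hscC _))))).eq).symm))
  have hγA : ∀ (a : A) (g : R) (e : Additive E),
      γ ⟨_, h.conj_mem_M a.2 g.2⟩ (a • e) = a • γ g e := fun a g e => by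
    refine congrArg Additive.ofMul (Subtype.ext ?_)
    show ⁅(a : G) * g * (a : G)⁻¹, sc (a • e).toMul⁆ = (a : G) * ⁅(g : G), sc e.toMul⁆ * (a : G)⁻¹
    rw [h.conj_comm]
    exact hcongr (h.conj_mem_M a.2 g.2) (h.conj_mem_M a.2 (hCR (hscC _))) (hCR (hscC _)) (hscA a e)
  have hγzero : ∀ g : R, γ g = 0 ↔ ∀ x ∈ C, Commute (g : G) x := by
    refine fun g => ⟨fun h0 x hx => ?_, fun hc => AddMonoidHom.ext fun e => ?_⟩
    · have hxe : ⁅x, u⁆ ∈ E := hlayer.2 x (hCR hx)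
      have h1 : ⁅(g : G), sc ⟨_, hxe⟩⁆ = 1 :=
        congrArg Subtype.val (DFunLike.congr_fun h0 (Additive.ofMul (⟨_, hxe⟩ : E)))
      rw [← hcongr g.2 (hCR (hscC _)) (hCR hx) (hdiff x hx _ (hscC _) (hsce ⟨_, hxe⟩).symm)] at h1
      exact commutatorElement_eq_one_iff_commute.mp h1
    · refine congrArg Additive.ofMul (Subtype.ext ?_)
      exact commutatorElement_eq_one_iff_commute.mpr (hc _ (hscC _))
  -- the complement is abelian
  have habel : ∀ x ∈ C, ∀ y ∈ C, Commute x y := by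
    let f : Additive E →+ Additive E →+ Additive E := AddMonoidHom.mk'
      (fun e => γ ⟨_, hCR (hscC e.toMul)⟩) fun e e' => by
        rw [← hγmul]
        refine AddMonoidHom.ext fun z => congrArg Additive.ofMul (Subtype.ext ?_)
        show ⁅sc (e + e').toMul, sc z.toMul⁆ = ⁅sc e.toMul * sc e'.toMul, sc z.toMul⁆
        conv_rhs => rw [show sc e.toMul * sc e'.toMul = sc (e + e').toMul *
          ((sc (e + e').toMul)⁻¹ * (sc e.toMul * sc e'.toMul)) by group]
        exact (comm_E_mul_left h (hCR (hscC _)) (hCR (hscC _)) (hsmul _ _)).symm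
    have hf : ∀ a ∈ (⊤ : Subgroup A), ∀ e e' : Additive E, f (a • e) (a • e') = a • f e e' := by
      intro a _ e e'
      show γ ⟨_, hCR (hscC (a • e).toMul)⟩ (a • e') = a • γ ⟨_, hCR (hscC e.toMul)⟩ e'
      rw [← hγA a]
      refine congrArg Additive.ofMul (Subtype.ext ?_)
      show ⁅sc (a • e).toMul, sc (a • e').toMul⁆ =
        ⁅(a : G) * sc e.toMul * (a : G)⁻¹, sc (a • e').toMul⁆
      conv_lhs => rw [show sc (a • e).toMul = (a : G) * sc e.toMul * (a : G)⁻¹ *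
        (((a : G) * sc e.toMul * (a : G)⁻¹)⁻¹ * sc (a • e).toMul) by group]
      exact comm_E_mul_left h (hCR (hscC _)) (h.conj_mem_M a.2 (hCR (hscC _))) (hscA a e)
    have h0 := alternating_eq_zero htorus (fun a _ => by
        rw [← orderOf_coe]; exact h.odd_orderOf a.2) f hf
      fun e => congrArg Additive.ofMul (Subtype.ext (commutatorElement_self _))
    intro x hx
    refine (hγzero ⟨x, hCR hx⟩).mp ?_
    have hxe : ⁅x, u⁆ ∈ E := hlayer.2 x (hCR hx)
    refine AddMonoidHom.ext fun z => ?_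
    refine Eq.trans ?_ (h0 (Additive.ofMul (⟨_, hxe⟩ : E)) z)
    refine congrArg Additive.ofMul (Subtype.ext ?_)
    show ⁅x, sc z.toMul⁆ = ⁅sc ⟨_, hxe⟩, sc z.toMul⁆
    conv_lhs => rw [show x = sc ⟨_, hxe⟩ * ((sc ⟨_, hxe⟩)⁻¹ * x) by group]
    exact comm_E_mul_left h (hCR (hscC _)) (hCR (hscC _)) (hdiff x hx _ (hscC _) (hsce ⟨_, hxe⟩).symm)
  refine ⟨C, ⟨hC, layer_sq h hs hlayer, hEC, hCK, hAC, hCQ, honto, habel⟩, ?_⟩
  -- the pairing with `Q`
  by_cases hcen : ∀ q ∈ Q, ∀ x ∈ C, Commute q x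
  · exact Or.inl hcen
  right
  have hker : ∀ q ∈ Q, (∀ x ∈ C, Commute q x) → q ∈ E := by
    intro q hq hqC
    by_contra hqE
    refine hcen fun k hk x hx => ?_
    have hn : A ≤ normalizer ((centralizer (C : Set G) : Subgroup G) : Set G) :=
      le_normalizer_iff.mpr fun a ha c hc => mem_centralizer_iff.mpr fun y hy => by
        have h1 := mem_centralizer_iff.mp hc _
          ((mem_normalizer_iff.mp (hAC (inv_mem ha)) y).mp hy)
        have h2 := commute_conj (show Commute _ c from h1) a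
        rwa [show a * (a⁻¹ * y * a⁻¹⁻¹) * a⁻¹ = y by group] at h2
    exact (mem_centralizer_iff.mp (h.Q_le_of_mem hs hn
      (fun e he => mem_centralizer_iff.mpr fun y hy => (h.central e he y (hCR hy)).symm.eq)
      (mem_centralizer_iff.mpr fun y hy => (hqC y hy).symm.eq) hq hqE hk) x hx).symm
  let T : AddSubgroup (Additive E →+ Additive E) :=
    { carrier := {P | ∃ q : Q, P = γ ⟨q, h.le q.2⟩}
      zero_mem' := ⟨1, ((hγzero _).mpr fun x _ => Commute.one_left x).symm⟩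
      add_mem' := by
        rintro _ _ ⟨q, rfl⟩ ⟨q', rfl⟩
        exact ⟨q * q', (hγmul _ _).symm⟩
      neg_mem' := by
        rintro _ ⟨q, rfl⟩
        refine ⟨q, AddMonoidHom.ext fun e => neg_eq_iff_add_eq_zero.mpr ?_⟩
        exact htorus.two _ }
  choose r hrQ hr using fun e : E => h.exists_sq hQE e.2
  have hγcongr : ∀ q q' : Q, (q : G)⁻¹ * q' ∈ E → γ ⟨q, h.le q.2⟩ = γ ⟨q', h.le q'.2⟩ := by
    intro q q' hqq
    refine AddMonoidHom.ext fun e => congrArg Additive.ofMul (Subtype.ext ?_)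
    show ⁅(q : G), sc e.toMul⁆ = ⁅(q' : G), sc e.toMul⁆
    conv_rhs => rw [show (q' : G) = q * ((q : G)⁻¹ * q') by group]
    exact (comm_E_mul_left h (hCR (hscC _)) (h.le q.2) hqq).symm
  have hcard : Nat.card T = Nat.card (Additive E) := by
    refine (Nat.card_eq_of_bijective
      (fun e : Additive E => (⟨γ ⟨r e.toMul, h.le (hrQ _)⟩, ⟨r e.toMul, hrQ _⟩, rfl⟩ : T))
      ⟨fun e e' he => ?_, fun P => ?_⟩).symm
    · have h1 : γ ⟨r e.toMul, h.le (hrQ _)⟩ = γ ⟨r e'.toMul, h.le (hrQ _)⟩ :=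
        congrArg Subtype.val he
      set q := (r e.toMul)⁻¹ * r e'.toMul with hq
      have hqQ : q ∈ Q := Q.mul_mem (Q.inv_mem (hrQ _)) (hrQ _)
      have h2 := hγmul ⟨r e.toMul, h.le (hrQ _)⟩ ⟨q, h.le hqQ⟩
      rw [show (⟨r e.toMul, h.le (hrQ _)⟩ * ⟨q, h.le hqQ⟩ : R) = ⟨r e'.toMul, h.le (hrQ _)⟩ from
        Subtype.ext (by show r e.toMul * q = _; rw [hq, mul_inv_cancel_left]), h1,
        left_eq_add] at h2
      have hqE := hker q hqQ ((hγzero _).mp h2)
      refine Additive.toMul.injective (Subtype.ext ?_)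
      rw [← hr e.toMul, ← hr e'.toMul,
        show r e'.toMul = r e.toMul * q by rw [hq, mul_inv_cancel_left],
        (h.central q hqE _ (h.le (hrQ _))).mul_mul_mul_comm, h.sq q hqE, mul_one]
    · obtain ⟨P, q, rfl⟩ := P
      refine ⟨Additive.ofMul (⟨(q : G) * q, h.sq_mem q q.2⟩ : E), Subtype.ext ?_⟩
      refine hγcongr ⟨_, hrQ _⟩ q ?_
      show (r ⟨(q : G) * q, h.sq_mem q q.2⟩)⁻¹ * (q : G) ∈ E
      have h1 := hs.inj _ (hrQ ⟨(q : G) * q, h.sq_mem q q.2⟩) q q.2 (hr _)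
      have h2 := h.conj_E (R.inv_mem (h.le (hrQ ⟨(q : G) * q, h.sq_mem q q.2⟩))) (E.inv_mem h1)
      rw [mul_inv_rev, inv_inv, inv_inv] at h2
      rw [show (r ⟨(q : G) * q, h.sq_mem q q.2⟩)⁻¹ * (q : G) =
        (r ⟨(q : G) * q, h.sq_mem q q.2⟩)⁻¹ * ((q : G) * (r ⟨(q : G) * q, h.sq_mem q q.2⟩)⁻¹) *
          r ⟨(q : G) * q, h.sq_mem q q.2⟩ by group, h2]
      have h3 := E.inv_mem h1
      rwa [mul_inv_rev, inv_inv] at h3
  intro q hq hqE x hx hxE hqx
  have hγ0 : γ ⟨q, h.le hq⟩ ≠ 0 := fun h0 => hqE (hker q hq ((hγzero _).mp h0))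
  have hinj := injective_of_orbit_torus htorus T hcard ?_ (P := γ ⟨q, h.le hq⟩) ⟨⟨q, hq⟩, rfl⟩ hγ0
  · have hxe : ⁅x, u⁆ ∈ E := hlayer.2 x (hCR hx)
    have h1 : γ ⟨q, h.le hq⟩ (Additive.ofMul (⟨_, hxe⟩ : E)) = γ ⟨q, h.le hq⟩ 0 := by
      rw [map_zero]
      refine congrArg Additive.ofMul (Subtype.ext ?_)
      show ⁅q, sc ⟨_, hxe⟩⁆ = 1
      rw [← hcongr (h.le hq) (hCR (hscC _)) (hCR hx) (hdiff x hx _ (hscC _) (hsce ⟨_, hxe⟩).symm)]
      exact commutatorElement_eq_one_iff_commute.mpr hqx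
    have h2 : ⁅x, u⁆ = 1 := congrArg (fun z : Additive E => ((z.toMul : E) : G)) (hinj h1)
    exact hxE (hCQ x (h.mem_Q_of_commute hu (hCK hx)
      (commutatorElement_eq_one_iff_commute.mp h2)) hx)
  · rintro _ ⟨k, rfl⟩ _ ⟨l, rfl⟩ hk0 hl0
    have hne : ∀ {k : Q}, γ ⟨k, h.le k.2⟩ ≠ 0 → (k : G) ∉ E := fun {k} hk hkE =>
      hk ((hγzero _).mpr fun x hx => h.central _ hkE x (hCR hx))
    obtain ⟨a, ha, hal⟩ := h.trans_Q hs k.2 (hne hk0) l.2 (hne hl0)
    refine ⟨⟨a, ha⟩, mem_top _, fun e => ?_⟩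
    rw [← hγA ⟨a, ha⟩]
    exact DFunLike.congr_fun
      (hγcongr ⟨_, (mem_normalizer_iff.mp (h.normQ ha) _).mp k.2⟩ l hal).symm _

end Cfsg.Agent.H72.Asch
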