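import Cfsg.Agent.H72.Asch.ShapeLemmas
import Cfsg.Agent.H36.RankOneU3.System
import Cfsg.Agent.H48.RankOne.Distinguished
import Cfsg.Agent.H99.RankOne.Main
import Mathlib.RingTheory.IntegralDomain

/-!
The shape of a line of unitary type.  In a faithful rank-one set-up generated by `Q` and `t` in which
some non-trivial element of the two-point stabiliser `D` centralises `t`: `D` is cyclic, the subgroup
`W` of `D` centralising the involutions of `Q` is non-trivial, acts on `Q / E` by scalars of norm one,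
and an automorphism fixing these involutions fixes or inverts `W`.
-/

set_option autoImplicit false
set_option linter.unusedSectionVars false
set_option linter.style.haveILetI false

namespace Cfsg.Agent.H72.Asch

open MulAction
open Cfsg.Agent.H36.RankOneU3
open scoped commutatorElement

universe u v

/-- The subgroup of the two-point stabiliser centralising the involutions of the point stabiliser. -/
def fixI {G : Type u} {Ω : Type v} [Group G] [MulAction G Ω] (a : Ω) (t : G) : Subgroup G :=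
  (stabilizer G a ⊓ stabilizer G (t • a)) ⊓
    Subgroup.centralizer (Cfsg.involutionsIn (stabilizer G a : Set G))

variable {G : Type u} {Ω : Type v} [Group G] [Finite G] [MulAction G Ω] [FaithfulSMul G Ω] {a : Ω}
  {t : G} {Q : Subgroup G}

theorem mem_fixI {d : G} : d ∈ fixI a t ↔ d ∈ stabilizer G a ⊓ stabilizer G (t • a) ∧
    ∀ s ∈ Cfsg.involutionsIn (stabilizer G a : Set G), Commute d s := by
  refine ⟨fun h => ⟨h.1, fun s hs => (Subgroup.mem_centralizer_iff.mp h.2 s hs).symm⟩,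
    fun h => ⟨h.1, Subgroup.mem_centralizer_iff.mpr fun s hs => (h.2 s hs).eq.symm⟩⟩

section Setup

variable (hS : Cfsg.IsRankOneSetup G Ω a t Q) {F : Type} [Field F] [Fintype F] [CharP F 2]
  {K : Type} [Field K] [Fintype K] [CharP K 2]

/-- Coordinates of unitary type on `Q`. -/
structure Coords (T : Torus a t Q F) (c : Q → K × K) : Prop where
  cardK : Fintype.card K = Fintype.card F ^ 2
  add_pow : ∀ x y : K, (x + y) ^ Fintype.card F = x ^ Fintype.card F + y ^ Fintype.card F
  four_le : 4 ≤ Fintype.card F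
  card_Q : Nat.card Q = Fintype.card F ^ 3
  inj : Function.Injective c
  ok : ∀ x, (c x).2 + (c x).2 ^ Fintype.card F + (c x).1 * (c x).1 ^ Fintype.card F = 0
  surj : ∀ p : K × K, p.2 + p.2 ^ Fintype.card F + p.1 * p.1 ^ Fintype.card F = 0 → ∃ x, c x = p
  mul : ∀ x y, c (x * y) = ((c x).1 + (c y).1,
    (c x).2 + (c y).2 - (c y).1 * (c x).1 ^ Fintype.card F)
  map : ∀ x, x ≠ 1 → c (fQ hS x) = (-((c x).1 / (c x).2), ((c x).2)⁻¹)

variable {hS} {T : Torus a t Q F} {c : Q → K × K} (hc : Coords hS T c)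
include hc

theorem pow_pow' (x : K) : (x ^ Fintype.card F) ^ Fintype.card F = x := by
  rw [← pow_mul, ← pow_two, ← hc.cardK, FiniteField.pow_card]

theorem c_one : c 1 = 0 := by
  have h := hc.mul 1 1
  rw [one_mul, Prod.ext_iff] at h
  have h1 : (c 1).1 = 0 := by simpa using h.1
  have h2 := h.2
  rw [h1] at h2
  refine Prod.ext h1 ?_
  simpa using h2

theorem fst_mul (x y : Q) : (c (x * y)).1 = (c x).1 + (c y).1 := by rw [hc.mul]

theorem fst_inv (x : Q) : (c x⁻¹).1 = (c x).1 := by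
  have h := fst_mul hc x x⁻¹
  rw [mul_inv_cancel, c_one hc, Prod.fst_zero] at h
  exact (CharTwo.add_eq_zero.mp h.symm).symm

theorem c_sq (x : Q) : c (x * x) = (0, (c x).1 * (c x).1 ^ Fintype.card F) := by
  rw [hc.mul, CharTwo.add_self_eq_zero, CharTwo.add_self_eq_zero, zero_sub, CharTwo.neg_eq]

theorem fst_eq_zero_iff (x : Q) : (c x).1 = 0 ↔ x * x = 1 := by
  constructor
  · intro h
    exact hc.inj (by rw [c_sq hc, h, zero_mul, c_one hc]; rfl)
  · intro h
    have h' := congrArg Prod.snd (c_sq hc x)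
    rw [h, c_one hc, Prod.snd_zero] at h'
    rcases mul_eq_zero.mp h'.symm with h0 | h0
    · exact h0
    · exact eq_zero_of_pow_eq_zero h0

/-- The coordinate of the central elements. -/
noncomputable def om (T : Torus a t Q F) (c : Q → K × K) (r : F) : K := (c (zQ T r)).2

theorem c_z (r : F) : c (zQ T r) = (0, om T c r) :=
  Prod.ext ((fst_eq_zero_iff hc _).mpr ((mem_zSub T).mp ⟨r, rfl⟩)) rfl

theorem om_add (r s : F) : om T c (r + s) = om T c r + om T c s := by
  have h : zQ T (r + s) = zQ T r * zQ T s := Subtype.ext (T.ι_add r s)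
  rw [om, h, hc.mul, c_z hc, c_z hc]
  simp

theorem zQ_injective : Function.Injective (zQ T) := fun r s h => T.ι_inj (congrArg Subtype.val h)

theorem om_injective : Function.Injective (om T c) := fun r s h =>
  zQ_injective hc (hc.inj (by rw [c_z hc, c_z hc, h]))

theorem om_zero : om T c 0 = 0 := by simpa using om_add hc 0 0

theorem om_ne {r : F} (hr : r ≠ 0) : om T c r ≠ 0 := fun h =>
  hr (om_injective hc (h.trans (om_zero hc).symm))

theorem zQ_ne {r : F} (hr : r ≠ 0) : zQ T r ≠ 1 := fun h => om_ne hc hr (by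
  rw [om, h, c_one hc]; rfl)

/-- The canonical form of a central element. -/
theorem form_z (u : Fˣ) :
    IsForm a t Q (T.ι u) (T.ι (u⁻¹ : Fˣ)) (T.κ (u⁻¹ * u⁻¹)) (T.ι (u⁻¹ : Fˣ)) := by
  have hbase : IsForm a t Q (T.ι 1) (T.ι 1) 1 (T.ι 1) :=
    ⟨T.ι_mem 1, one_mem _, T.ι_mem 1, by rw [mul_one]; exact T.base⟩
  have h := hbase.conj hS (T.κ_mem u)
  rw [T.κ_conj, mul_one, T.κ_inv u, ← map_inv, T.κ_conj, mul_one, mul_one, ← map_mul] at h
  exact h

theorem fQ_z {r : F} (hr : r ≠ 0) : fQ hS (zQ T r) = zQ T r⁻¹ :=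
  Subtype.ext (form_eq hS (zQ_ne hc hr) (form_z hc (Units.mk0 r hr))).1

theorem om_inv {r : F} (hr : r ≠ 0) : om T c r⁻¹ = (om T c r)⁻¹ := by
  rw [om, ← fQ_z hc hr, hc.map _ (zQ_ne hc hr)]
  rfl

theorem om_map_one : om T c 1 = 1 :=
  (map_mul_of_inv _ (om_add hc) (om_injective hc) fun _ h => om_inv hc h).1

theorem om_mul (r s : F) : om T c (r * s) = om T c r * om T c s :=
  (map_mul_of_inv _ (om_add hc) (om_injective hc) fun _ h => om_inv hc h).2 r s

theorem exists_om {β : K} (hβ : β ^ Fintype.card F = β) : ∃ r, om T c r = β := by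
  obtain ⟨x, hx⟩ := hc.surj (0, β) (by simp [hβ, CharTwo.add_self_eq_zero])
  obtain ⟨r, hr⟩ := (mem_zSub T).mpr ((fst_eq_zero_iff hc x).mp (congrArg Prod.fst hx))
  exact ⟨r, by rw [om, hr, hx]⟩

/-- A homomorphism of `Q` fixing the elements of order at most two preserves the norm. -/
theorem norm_of_fix (δ : Q →* Q) (hfix : ∀ x : Q, x * x = 1 → δ x = x) (x : Q) :
    (c (δ x)).1 * (c (δ x)).1 ^ Fintype.card F = (c x).1 * (c x).1 ^ Fintype.card F := by
  have h1 : (c (x * x)).1 = 0 := by rw [c_sq hc]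
  have h2 := congrArg c (hfix _ ((fst_eq_zero_iff hc _).mp h1))
  rw [map_mul, c_sq hc, c_sq hc] at h2
  exact congrArg Prod.snd h2

theorem isometry_cases (δ : Q →* Q) (hfix : ∀ x : Q, x * x = 1 → δ x = x) :
    ∃ m : K, m * m ^ Fintype.card F = 1 ∧ ((∀ x, (c (δ x)).1 = m * (c x).1) ∨
      ∀ x, (c (δ x)).1 = m * (c x).1 ^ Fintype.card F) :=
  norm_cases hc.add_pow (pow_pow' hc) (fun x => (c x).1) (fun x => (c (δ x)).1) (fst_mul hc)
    (fun x y => by rw [map_mul, fst_mul hc]) (norm_of_fix hc δ hfix)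

/-- An element of the two-point stabiliser trivial on `E` and on `Q / E` is trivial. -/
theorem eq_one_of_trivial {d : G} (hd : d ∈ stabilizer G a ⊓ stabilizer G (t • a))
    (hfix : ∀ r, d * T.ι r * d⁻¹ = T.ι r)
    (hcls : ∀ x, (c (cQ hS ⟨d, hd.1⟩ x)).1 = (c x).1) : d = 1 := by
  set dd : stabilizer G a := ⟨d, hd.1⟩ with hdd
  have hcomm : ∀ x : Q, cQ hS dd x = x := by
    intro x
    set z := x⁻¹ * cQ hS dd x with hz
    have hz1 : z * z = 1 := (fst_eq_zero_iff hc z).mp (by
      rw [hz, fst_mul hc, fst_inv hc, hcls, CharTwo.add_self_eq_zero])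
    have hzfix : cQ hS dd z = z := by
      obtain ⟨r, hr⟩ := (mem_zSub T).mpr hz1
      rw [← hr]; exact Subtype.ext (hfix r)
    have hit : ∀ i : ℕ, cQ hS (dd ^ i) x = x * z ^ i := by
      intro i
      induction i with
      | zero => simp
      | succ i ih =>
        rw [pow_succ' dd, map_mul, MulAut.mul_apply, ih, map_mul, map_pow, hzfix, pow_succ',
          ← mul_assoc, hz, mul_inv_cancel_left]
    obtain ⟨j, hj⟩ : Odd (orderOf dd) := by
      have h := hS.odd_card.of_dvd_nat (Subgroup.orderOf_dvd_natCard _ hd)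
      rwa [← Subgroup.orderOf_coe]
    have h1 := hit (2 * j + 1)
    rw [← hj, pow_orderOf_eq_one, map_one, MulAut.one_apply, hj, pow_succ, pow_mul, pow_two, hz1,
      one_pow, one_mul, left_eq_mul] at h1
    rw [← mul_inv_cancel_left x (cQ hS dd x), ← hz, h1, mul_one]
  refine FaithfulSMul.eq_of_smul_eq_smul (α := Ω) fun p => ?_
  rw [one_smul]
  by_cases hp : p = a
  · rw [hp]; exact hd.1
  obtain ⟨x, hx, rfl⟩ := H38.exists_Q hS hp
  have h : d * x * d⁻¹ = x := congrArg Subtype.val (hcomm ⟨x, hx⟩)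
  have h' : d * x = x * d := mul_inv_eq_iff_eq_mul.mp h
  rw [← mul_smul, h', mul_smul, (H38.mem_D_iff.mp hd).2]

theorem commute_ι {d : G} (hd : d ∈ fixI a t) (r : F) : Commute d (T.ι r) := by
  by_cases hr : r = 0
  · subst hr
    have h := T.ι_add 0 0
    rw [add_zero, left_eq_mul] at h
    rw [h]; exact Commute.one_right d
  refine (mem_fixI.mp hd).2 _ ⟨hS.le (T.ι_mem r), fun e => zQ_ne hc hr (Subtype.ext e), ?_⟩
  exact congrArg Subtype.val ((mem_zSub T).mp ⟨r, rfl⟩)

/-- The elements of `W` are scalars of norm one on `Q / E`. -/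
theorem exists_mult {d : G} (hd : d ∈ fixI a t) :
    ∃ m : K, m * m ^ Fintype.card F = 1 ∧
      ∀ x, (c (cQ hS ⟨d, hd.1.1⟩ x)).1 = m * (c x).1 := by
  set dd : stabilizer G a := ⟨d, hd.1.1⟩ with hdd
  have hfix : ∀ x : Q, x * x = 1 → cQ hS dd x = x := by
    intro x hx
    obtain ⟨r, rfl⟩ := (mem_zSub T).mpr hx
    exact Subtype.ext (mul_inv_eq_iff_eq_mul.mpr (commute_ι hc hd r).eq)
  obtain ⟨m, hm, h | h⟩ := isometry_cases hc (cQ hS dd).toMonoidHom hfix
  · exact ⟨m, hm, h⟩
  refine ⟨1, by rw [one_pow, one_mul], fun x => ?_⟩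
  have h2 : d * d = 1 := eq_one_of_trivial hc (mul_mem hd.1 hd.1)
    (fun r => mul_inv_eq_iff_eq_mul.mpr ((commute_ι hc hd r).mul_left (commute_ι hc hd r)).eq)
    fun y => by
      rw [show (⟨d * d, (mul_mem hd.1 hd.1).1⟩ : stabilizer G a) = dd * dd from rfl, map_mul,
        MulAut.mul_apply]
      have e1 := h (cQ hS dd y)
      have e2 := h y
      simp only [MulEquiv.coe_toMonoidHom] at e1 e2
      rw [e1, e2, mul_pow, pow_pow' hc, ← mul_assoc, hm, one_mul]
  have hd1 : d = 1 := by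
    obtain ⟨j, hj⟩ := hS.odd_card.of_dvd_nat (Subgroup.orderOf_dvd_natCard _ hd.1)
    have h1 := pow_orderOf_eq_one d
    rwa [hj, pow_succ, pow_mul, pow_two, h2, one_pow, one_mul] at h1
  rw [show dd = 1 from Subtype.ext hd1, map_one, MulAut.one_apply, one_mul]

theorem exists_fst_ne : ∃ x : Q, (c x).1 ≠ 0 := by
  by_contra h
  push Not at h
  have hsurj : Function.Surjective (zQ T) := fun x =>
    (mem_zSub T).mpr ((fst_eq_zero_iff hc x).mp (h x))
  have h1 := Nat.card_le_card_of_surjective _ hsurj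
  rw [hc.card_Q, Nat.card_eq_fintype_card] at h1
  have h4 := hc.four_le
  nlinarith [Nat.mul_le_mul h4 h4]

/-- `W` is cyclic of order dividing `q + 1`. -/
theorem isCyclic_fixI :
    IsCyclic ↥(fixI a t) ∧ Nat.card ↥(fixI a t) ∣ Fintype.card F + 1 := by
  classical
  obtain ⟨x₀, hx₀⟩ := exists_fst_ne hc
  let μ : ↥(fixI a t) → K := fun w => Classical.choose (exists_mult hc w.2)
  have hμ : ∀ (w : ↥(fixI a t)) (x : Q), (c (cQ hS ⟨(w : G), w.2.1.1⟩ x)).1 = μ w * (c x).1 := fun w =>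
    (Classical.choose_spec (exists_mult hc w.2)).2
  have hμN : ∀ w, μ w ^ (Fintype.card F + 1) = 1 := fun w => by
    rw [pow_succ']; exact (Classical.choose_spec (exists_mult hc w.2)).1
  have hμmul : ∀ v w : ↥(fixI a t), μ (v * w) = μ v * μ w := fun v w => by
    refine mul_right_cancel₀ hx₀ ?_
    rw [← hμ, show (⟨((v * w : ↥(fixI a t)) : G), (v * w).2.1.1⟩ : stabilizer G a) =
      ⟨v, v.2.1.1⟩ * ⟨w, w.2.1.1⟩ from rfl, map_mul, MulAut.mul_apply, hμ, hμ, mul_assoc]
  have hμ1 : μ 1 = 1 := by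
    refine mul_right_cancel₀ hx₀ ?_
    rw [← hμ, show (⟨((1 : ↥(fixI a t)) : G), (1 : ↥(fixI a t)).2.1.1⟩ : stabilizer G a) = 1 from rfl,
      map_one, MulAut.one_apply, one_mul]
  let φ : ↥(fixI a t) →* K := { toFun := μ, map_one' := hμ1, map_mul' := hμmul }
  have hinj : Function.Injective φ := by
    refine (injective_iff_map_eq_one φ).mpr fun w (hw : μ w = 1) => Subtype.ext ?_
    refine eq_one_of_trivial hc w.2.1
      (fun r => mul_inv_eq_iff_eq_mul.mpr (commute_ι hc w.2 r).eq) fun x => ?_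
    rw [hμ, hw, one_mul]
  haveI := isCyclic_of_subgroup_isDomain φ hinj
  refine ⟨this, ?_⟩
  obtain ⟨g, hg⟩ := IsCyclic.exists_ofOrder_eq_natCard (α := ↥(fixI a t))
  rw [← hg]
  exact orderOf_dvd_of_pow_eq_one (hinj (by rw [map_pow, map_one]; exact hμN g))

/-- The middle components commute with the inverted subgroup. -/
theorem form_commute {x : Q} (hx1 : x ≠ 1) (u : Fˣ) :
    Commute ((form hS x).2.1 : G) (T.κ u) := by
  by_cases hX : (c x).1 = 0
  · obtain ⟨r, hr⟩ := (mem_zSub T).mpr ((fst_eq_zero_iff hc x).mp hX)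
    have hr0 : r ≠ 0 := fun e => hx1 (by
      rw [← hr, e]
      exact hc.inj (by rw [c_z hc, c_one hc, om_zero hc]; rfl))
    subst hr
    rw [(form_eq hS hx1 (form_z hc (Units.mk0 r hr0))).2.1]
    exact (Commute.all _ _).map T.κ
  set X := (c x).1 with hXdef
  set β := (c x).2 with hβdef
  have hok : β + β ^ Fintype.card F + X * X ^ Fintype.card F = 0 := hc.ok x
  have hNX : X * X ^ Fintype.card F ≠ 0 := mul_ne_zero hX (pow_ne_zero _ hX)
  have hβ0 : β ≠ 0 := fun e => hNX (by
    have hq0 : Fintype.card F ≠ 0 := by have := hc.four_le; omega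
    rw [e, zero_pow hq0, zero_add, zero_add] at hok
    exact hok)
  have hβq : β ^ Fintype.card F ≠ 0 := pow_ne_zero _ hβ0
  set k : stabilizer G a := ⟨((form hS x).2.1 : G), (form hS x).2.1.2.1⟩ with hk
  have hkD : (k : G) ∈ stabilizer G a ⊓ stabilizer G (t • a) := (form hS x).2.1.2
  obtain ⟨s, hs⟩ := exists_om hc (β := X * X ^ Fintype.card F) (by
    rw [mul_pow, pow_pow' hc, mul_comm])
  obtain ⟨n, hn⟩ := exists_om hc (β := β * β ^ Fintype.card F) (by rw [mul_pow, pow_pow' hc, mul_comm])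
  have hs0 : s ≠ 0 := fun e => hNX (by rw [← hs, e]; simpa using (om_zero hc))
  have hn0 : n ≠ 0 := fun e => mul_ne_zero hβ0 hβq (by rw [← hn, e]; simpa using (om_zero hc))
  -- the action on the central elements
  have hact : ∀ r, ∃ r', cQ hS k (zQ T r) = zQ T r' := fun r => by
    obtain ⟨r', hr'⟩ := (mem_zSub T).mpr (show cQ hS k (zQ T r) * cQ hS k (zQ T r) = 1 by
      rw [← map_mul, (mem_zSub T).mp ⟨r, rfl⟩, map_one])
    exact ⟨r', hr'.symm⟩
  choose τ hτ using hact
  have hτadd : ∀ r r', τ (r + r') = τ r + τ r' := fun r r' => zQ_injective hc (by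
    rw [← hτ, show zQ T (r + r') = zQ T r * zQ T r' from Subtype.ext (T.ι_add r r'), map_mul, hτ, hτ]
    exact (Subtype.ext (T.ι_add _ _)).symm)
  have hτ0 : τ 0 = 0 := by simpa using hτadd 0 0
  choose σu hσu using fun v : Fˣ => T.κ_normal k hkD v
  have hτmul : ∀ (v : Fˣ) (r : F), τ ((v : F) * r) = (σu v : F) * τ r := by
    intro v r
    refine zQ_injective hc ?_
    rw [← hτ, ← cQ_kap hS T v r, ← MulAut.mul_apply, ← map_mul,
      show k * kap T v = kap T (σu v) * k from Subtype.ext (mul_inv_eq_iff_eq_mul.mp (hσu v)),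
      map_mul, MulAut.mul_apply, hτ, cQ_kap]
  have hτ1 : τ 1 ≠ 0 := fun e => one_ne_zero (α := F) (zQ_injective hc ((cQ hS k).injective (by
    rw [hτ, e, show zQ T (0 : F) = 1 from hc.inj (by
      rw [c_z hc, c_one hc, om_zero hc]; rfl), map_one])))
  have hσval : ∀ v : Fˣ, (σu v : F) = τ v / τ 1 := fun v => by
    rw [eq_div_iff hτ1, ← hτmul v 1, mul_one]
  let σ : F →+* F :=
    { toFun := fun r => τ r / τ 1
      map_one' := div_self hτ1
      map_mul' := fun r r' => by
        by_cases hr : r = 0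
        · simp [hr, hτ0]
        have h := hτmul (Units.mk0 r hr) r'
        rw [hσval] at h
        simp only [Units.val_mk0] at h
        rw [h]; ring
      map_zero' := by rw [hτ0, zero_div]
      map_add' := fun r r' => by rw [hτadd, add_div] }
  -- the identity
  have key : ∀ r : F, r ≠ 0 →
      τ (s * r * r / (r * r + s * r + n)) = s * r * r / (n * (r * r + s * r + n)) ∧
        r * r + s * r + n ≠ 0 := by
    intro r hr
    set w := om T c r with hw
    have hw0 : w ≠ 0 := om_ne hc hr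
    have hwq : w ^ Fintype.card F = w := by
      have h := hc.ok (zQ T r)
      rw [c_z hc] at h
      simp only [zero_mul, add_zero] at h
      exact (CharTwo.add_eq_zero.mp h).symm
    have hbw : β + w ≠ 0 := fun e => hNX (by
      rw [CharTwo.add_eq_zero.mp e, hwq, CharTwo.add_self_eq_zero, zero_add] at hok
      exact hok)
    have hbwq : β ^ Fintype.card F + w ≠ 0 := fun e => hbw (by
      have h2 := congrArg (· ^ Fintype.card F) e
      simp only [hc.add_pow, pow_pow' hc, hwq, zero_pow (show Fintype.card F ≠ 0 by have := hc.four_le; omega)] at h2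
      exact h2)
    have hxz : x * zQ T r ≠ 1 := fun e => hX (by
      have h2 := fst_mul hc x (zQ T r)
      rw [e, c_one hc, c_z hc, add_zero] at h2
      exact h2.symm)
    obtain ⟨hgne, hf⟩ := fQ_mul hS hx1 (zQ_ne hc hr) hxz
    rw [fQ_z hc hr] at hgne hf
    have hcx' : c x⁻¹ = (X, β ^ Fintype.card F) := by
      refine Prod.ext (fst_inv hc x) ?_
      have h := hc.mul x x⁻¹
      rw [mul_inv_cancel, c_one hc, fst_inv hc] at h
      have h' := congrArg Prod.snd h
      simp only [Prod.snd_zero] at h'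
      show (c x⁻¹).2 = β ^ Fintype.card F
      linear_combination -h' - hok + (X * X ^ Fintype.card F) * CharTwo.two_eq_zero (R := K)
    set g := (fQ hS x⁻¹)⁻¹ with hg
    have hcf : c (fQ hS x⁻¹) = (-(X / β ^ Fintype.card F), (β ^ Fintype.card F)⁻¹) := by
      rw [hc.map _ (inv_ne_one.mpr hx1), hcx']
    have hcg1 : (c g).1 = X / β ^ Fintype.card F := by rw [hg, fst_inv hc, hcf, CharTwo.neg_eq]
    have hcg2 : (c g).2 = β⁻¹ := by
      have h := hc.mul (fQ hS x⁻¹) g
      rw [hg, mul_inv_cancel, c_one hc, hcf, fst_inv hc, hcf] at h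
      have h' := congrArg Prod.snd h
      simp only [Prod.snd_zero, CharTwo.neg_eq, div_pow, pow_pow' hc] at h'
      rw [hg]
      have hok' : (β ^ Fintype.card F)⁻¹ + β⁻¹ + X / β ^ Fintype.card F * (X ^ Fintype.card F / β) = 0 := by
        field_simp
        linear_combination hok
      linear_combination -h' - hok' + (β⁻¹ * β⁻¹ ^ Fintype.card F * X * X ^ Fintype.card F) * CharTwo.two_eq_zero (R := K)
    set y := fQ hS (g * zQ T r⁻¹) with hy
    have hy1 : (c y).1 = X / β ^ Fintype.card F / (β⁻¹ + w⁻¹) := by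
      rw [hy, hc.map _ hgne, hc.mul, c_z hc, hcg1, hcg2, om_inv hc hr]
      simp only [add_zero, zero_mul, sub_zero, CharTwo.neg_eq, hw]
    have hk1 : (c (cQ hS k y)).1 = X / (β + w) + X / β := by
      have h := congrArg (fun z => (c z).1) hf
      simp only [fst_mul hc, hc.map _ hx1, hc.map _ hxz] at h
      rw [hc.mul, c_z hc] at h
      simp only [add_zero, zero_mul, sub_zero, CharTwo.neg_eq, ← hXdef, ← hβdef, ← hw] at h
      show (c (cQ hS k y)).1 = _
      linear_combination -h - (X / β) * CharTwo.two_eq_zero (R := K)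
    -- squares
    set den := r * r + s * r + n with hden
    have hden' : om T c den = (β + w) * (β ^ Fintype.card F + w) := by
      rw [hden, om_add hc, om_add hc, om_mul hc, om_mul hc, hs, hn, ← hw]
      linear_combination (-w) * hok + (w * X * X ^ Fintype.card F) * CharTwo.two_eq_zero (R := K)
    have hden0 : den ≠ 0 := fun e => mul_ne_zero hbw hbwq (by
      rw [← hden', e]; simpa using (om_zero hc))
    refine ⟨?_, hden0⟩
    have hA : y * y = zQ T (s * r * r / den) := hc.inj (by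
      rw [c_sq hc, c_z hc, div_eq_mul_inv (s * r * r), om_mul hc, om_mul hc, om_mul hc,
        om_inv hc hden0, hden', hs, ← hw, hy1]
      refine Prod.ext rfl ?_
      simp only [div_pow, hc.add_pow, inv_pow, pow_pow' hc, hwq]
      rw [show β⁻¹ + w⁻¹ = (β + w) / (β * w) by field_simp; ring,
        show (β ^ Fintype.card F)⁻¹ + w⁻¹ =
          (β ^ Fintype.card F + w) / (β ^ Fintype.card F * w) by field_simp; ring]
      field_simp)
    have hB : cQ hS k y * cQ hS k y = zQ T (s * r * r / (n * den)) := hc.inj (by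
      rw [c_sq hc, c_z hc, div_eq_mul_inv (s * r * r), om_mul hc, om_mul hc, om_mul hc,
        om_inv hc (mul_ne_zero hn0 hden0), om_mul hc, hden', hs, hn, ← hw, hk1]
      refine Prod.ext rfl ?_
      have e : X / (β + w) + X / β = X * w / (β * (β + w)) := by
        field_simp
        linear_combination (β) * CharTwo.two_eq_zero (R := K)
      simp only [e, div_pow, mul_pow, hc.add_pow, hwq]
      field_simp)
    rw [← map_mul, hA, hτ] at hB
    exact zQ_injective hc hB
  have hlam : ∀ b : F, b ≠ 0 →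
      σ (1 + s * b + n * b * b) = τ 1 * n * σ s / s * (1 + s * b + n * b * b) := by
    intro b hb
    obtain ⟨h, h0⟩ := key b⁻¹ (inv_ne_zero hb)
    have hP : b⁻¹ * b⁻¹ + s * b⁻¹ + n = (1 + s * b + n * b * b) * (b⁻¹ * b⁻¹) := by field_simp
    set P := 1 + s * b + n * b * b with hPd
    rw [hP] at h h0
    have hP0 : P ≠ 0 := left_ne_zero_of_mul h0
    have e1 : s * b⁻¹ * b⁻¹ / (P * (b⁻¹ * b⁻¹)) = s / P := by field_simp
    have e2 : s * b⁻¹ * b⁻¹ / (n * (P * (b⁻¹ * b⁻¹))) = s / (n * P) := by field_simp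
    rw [e1, e2] at h
    have h' : σ (s / P) = τ (s / P) / τ 1 := rfl
    rw [h, map_div₀] at h'
    have hσP : σ P ≠ 0 := (map_ne_zero σ).mpr hP0
    field_simp at h' ⊢
    linear_combination -h'
  have hσσ := apply_apply_of_quadratic hc.four_le σ hn0 hlam
  -- hence the square of `k` commutes
  have hkv : ∀ v : Fˣ, (k : G) * T.κ v * (k : G)⁻¹ = T.κ (σu v) := hσu
  have hk2 : ∀ v : Fˣ, Commute ((k : G) * k) (T.κ v) := by
    intro v
    have e : σu (σu v) = v := Units.ext (by
      rw [hσval, show τ ((σu v : F)) / τ 1 = σ (σu v : F) from rfl, hσval]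
      exact hσσ _)
    refine mul_inv_eq_iff_eq_mul.mp ?_
    calc (k : G) * k * T.κ v * ((k : G) * k)⁻¹ = k * (k * T.κ v * (k : G)⁻¹) * (k : G)⁻¹ := by group
      _ = T.κ v := by rw [hkv, hkv, e]
  obtain ⟨j, hj⟩ := hS.odd_card.of_dvd_nat (Subgroup.orderOf_dvd_natCard _ hkD)
  have hkk : (k : G) = ((k : G) * k) ^ (j + 1) := by
    rw [← pow_two, ← pow_mul, show 2 * (j + 1) = orderOf (k : G) + 1 by omega, pow_succ,
      pow_orderOf_eq_one, one_mul]
  show Commute (k : G) _
  rw [hkk]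
  exact (hk2 u).pow_left _

/-- The inverted subgroup is central in the two-point stabiliser of a generated set-up. -/
theorem commute_κ (hgen : Subgroup.closure ((Q : Set G) ∪ {t}) = ⊤) {d : G}
    (hd : d ∈ stabilizer G a ⊓ stabilizer G (t • a)) (u : Fˣ) : Commute d (T.κ u) := by
  let P : G → Prop := fun d => d ∈ stabilizer G a ⊓ stabilizer G (t • a) ∧ ∀ v, Commute d (T.κ v)
  let M : G → Prop := fun g => (∃ x ∈ Q, ∃ d, P d ∧ g = x * d) ∨
    ∃ x ∈ Q, ∃ d, P d ∧ ∃ y ∈ Q, g = x * d * t * y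
  have hPt : ∀ d, P d → P (t * d * t) := fun d hd => by
    refine ⟨conj_t_mem hS hd.1, fun v => ?_⟩
    have h2 := hd.2 v⁻¹
    show t * d * t * T.κ v = T.κ v * (t * d * t)
    have e : T.κ v = t * T.κ v⁻¹ * t := by rw [T.κ_inv, map_inv, inv_inv]
    rw [e]
    simp only [mul_assoc, ← mul_assoc t t, hS.mul_self, one_mul]
    rw [← mul_assoc d, h2.eq, mul_assoc]
  have hPk : ∀ x : Q, x ≠ 1 → P ((form hS x).2.1 : G) := fun x hx =>
    ⟨(form hS x).2.1.2, form_commute hc hx⟩
  have hPmul : ∀ d e, P d → P e → P (d * e) := fun d e hd he =>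
    ⟨mul_mem hd.1 he.1, fun v => (hd.2 v).mul_left (he.2 v)⟩
  have hQM : ∀ x ∈ Q, ∀ g, M g → M (x * g) := by
    rintro x hx g (⟨y, hy, d, hd, rfl⟩ | ⟨y, hy, d, hd, z, hz, rfl⟩)
    · exact Or.inl ⟨x * y, mul_mem hx hy, d, hd, by group⟩
    · exact Or.inr ⟨x * y, mul_mem hx hy, d, hd, z, hz, by group⟩
  have htM : ∀ g, M g → M (t * g) := by
    rintro g (⟨x, hx, d, hd, rfl⟩ | ⟨x, hx, d, hd, y, hy, rfl⟩)
    · refine Or.inr ⟨1, one_mem _, t * d * t, hPt d hd, d⁻¹ * x * d, ?_, ?_⟩
      · simpa using hS.conj_mem _ (inv_mem hd.1.1) x hx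
      · simp [mul_assoc, ← mul_assoc t t, hS.mul_self]
    · by_cases hx1 : x = 1
      · subst hx1
        refine Or.inl ⟨t * d * t * y * (t * d * t)⁻¹, hS.conj_mem _ (hPt d hd).1.1 y hy,
          t * d * t, hPt d hd, ?_⟩
        simp [mul_assoc]
      · obtain ⟨hf, hk, hg, e⟩ := form_spec hS (x := (⟨x, hx⟩ : Q))
          fun h => hx1 (congrArg Subtype.val h)
        set f := ((form hS (⟨x, hx⟩ : Q)).1 : G)
        set k := ((form hS (⟨x, hx⟩ : Q)).2.1 : G)
        set g := ((form hS (⟨x, hx⟩ : Q)).2.2 : G)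
        set d' := t * d * t with hd'
        refine Or.inr ⟨f, hf, k * (t * d' * t),
          hPmul _ _ (hPk _ fun h => hx1 (congrArg Subtype.val h)) (hPt _ (hPt d hd)),
          d'⁻¹ * g * d' * y, mul_mem ?_ hy, ?_⟩
        · have h := hS.conj_mem _ (inv_mem (hPt d hd).1.1) g hg
          rwa [inv_inv] at h
        · calc t * (x * d * t * y) = t * x * t * d' * y := by
                rw [hd']; simp [mul_assoc, ← mul_assoc t t, hS.mul_self]
            _ = f * k * t * g * d' * y := by rw [show t * x * t = f * k * t * g from e]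
            _ = _ := by
                simp [mul_assoc, ← mul_assoc t t, hS.mul_self]
  have hall : ∀ g, M g := by
    intro g
    have hg : g ∈ Subgroup.closure ((Q : Set G) ∪ {t}) := hgen ▸ Subgroup.mem_top g
    induction hg using Subgroup.closure_induction_left with
    | one => exact Or.inl ⟨1, one_mem _, 1, ⟨one_mem _, fun v => Commute.one_left _⟩, by group⟩
    | mul_left x hx y _ ih =>
      rcases hx with hx | hx
      · exact hQM x hx y ih
      · rw [Set.mem_singleton_iff.mp hx]; exact htM y ih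
    | inv_mul_cancel x hx y _ ih =>
      rcases hx with hx | hx
      · exact hQM _ (inv_mem hx) y ih
      · rw [Set.mem_singleton_iff.mp hx, H38.t_inv hS]; exact htM y ih
  rcases hall d with ⟨x, hx, d', hd', e⟩ | ⟨x, hx, d', hd', y, hy, e⟩
  · have hxD : x ∈ stabilizer G (t • a) := by
      rw [eq_mul_inv_of_mul_eq e.symm]; exact mul_mem hd.2 (inv_mem hd'.1.2)
    have hx1 : x = 1 := Subgroup.mem_bot.mp (hS.inf_eq_bot ▸ ⟨hx, hxD⟩)
    rw [e, hx1, one_mul]; exact hd'.2 u
  · exfalso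
    have h : d • a = a := hd.1
    rw [e, mul_smul, mul_smul, mul_smul, H38.Q_fix hS hy, (H38.mem_D_iff.mp hd'.1).2] at h
    exact H38.t_smul_ne hS (smul_left_cancel x (h.trans (H38.Q_fix hS hx).symm))

/-- The two-point stabiliser is cyclic, and `W` is not trivial when `t` centralises one of its
non-trivial elements. -/
theorem unitary_torus (hgen : Subgroup.closure ((Q : Set G) ∪ {t}) = ⊤)
    (hV : (stabilizer G a ⊓ stabilizer G (t • a)) ⊓ Subgroup.centralizer {t} ≠ ⊥) :
    IsCyclic ↥(stabilizer G a ⊓ stabilizer G (t • a)) ∧ fixI a t ≠ ⊥ := by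
  classical
  set D := stabilizer G a ⊓ stabilizer G (t • a) with hD
  have hscal : ∀ d ∈ D, ∃ u : Fˣ, d * (T.κ u)⁻¹ ∈ fixI a t ∧ d * T.ι 1 * d⁻¹ = T.ι u := by
    intro d hd
    obtain ⟨l, hl⟩ := (mem_zSub T).mpr (show cQ hS ⟨d, hd.1⟩ (zQ T 1) * cQ hS ⟨d, hd.1⟩ (zQ T 1) = 1 by
      rw [← map_mul, (mem_zSub T).mp ⟨1, rfl⟩, map_one])
    have hl' : d * T.ι 1 * d⁻¹ = T.ι l := (congrArg Subtype.val hl).symm
    have hl0 : l ≠ 0 := fun e => by
      subst e
      have h0 := T.ι_add 0 0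
      rw [add_zero, left_eq_mul] at h0
      rw [h0, conj_eq_one_iff, ← h0] at hl'
      exact one_ne_zero (T.ι_inj hl')
    refine ⟨Units.mk0 l hl0, mem_fixI.mpr ⟨mul_mem hd (inv_mem (T.κ_mem _)), fun z hz => ?_⟩, hl'⟩
    obtain ⟨v, rfl⟩ := T.ι_range z (H38.invol_mem_Q hS hz.1 hz.2.2) hz.2.2
    have hv : v ≠ 0 := fun e => hz.2.1 (by
      have h0 := T.ι_add 0 0
      rw [add_zero, left_eq_mul] at h0
      rw [e, h0])
    set w := (Units.mk0 l hl0)⁻¹ * Units.mk0 v hv
    refine mul_inv_eq_iff_eq_mul.mp ?_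
    calc d * (T.κ (Units.mk0 l hl0))⁻¹ * T.ι v * (d * (T.κ (Units.mk0 l hl0))⁻¹)⁻¹
        = d * (T.κ (Units.mk0 l hl0)⁻¹ * T.ι v * (T.κ (Units.mk0 l hl0)⁻¹)⁻¹) * d⁻¹ := by
          rw [map_inv]; group
      _ = d * (T.κ w * T.ι 1 * (T.κ w)⁻¹) * d⁻¹ := by
          rw [T.κ_conj, T.κ_conj, mul_one]
          simp [w]
      _ = T.κ w * (d * T.ι 1 * d⁻¹) * (T.κ w)⁻¹ := by
          have hc1 := (commute_κ hc hgen hd w).eq
          have hc2 := (commute_κ hc hgen hd w).inv_right.eq
          calc d * (T.κ w * T.ι 1 * (T.κ w)⁻¹) * d⁻¹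
              = d * T.κ w * T.ι 1 * ((T.κ w)⁻¹ * d⁻¹) := by group
            _ = T.κ w * d * T.ι 1 * (d⁻¹ * (T.κ w)⁻¹) := by
              rw [hc1, show (T.κ w)⁻¹ * d⁻¹ = d⁻¹ * (T.κ w)⁻¹ by
                rw [← mul_inv_rev, ← mul_inv_rev, hc1]]
            _ = _ := by group
      _ = T.ι v := by
          rw [hl', T.κ_conj]
          congr 1
          simp only [w, Units.val_mul, Units.val_inv_eq_inv_val, Units.val_mk0]
          field_simp
  refine ⟨?_, ?_⟩
  · obtain ⟨hWc, hWd⟩ := isCyclic_fixI hc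
    obtain ⟨w, hw⟩ := IsCyclic.exists_ofOrder_eq_natCard (α := ↥(fixI a t))
    obtain ⟨g, hg⟩ := IsCyclic.exists_ofOrder_eq_natCard (α := Fˣ)
    let cg : D := ⟨T.κ g, T.κ_mem g⟩
    let wg : D := ⟨w, w.2.1⟩
    have hgo : orderOf cg = Fintype.card F - 1 := by
      rw [← Subgroup.orderOf_coe, orderOf_injective T.κ T.κ_inj g, hg, Nat.card_eq_fintype_card,
        Fintype.card_units]
    have hwo : orderOf wg = Nat.card ↥(fixI a t) := by
      rw [← Subgroup.orderOf_coe, ← hw]; exact Subgroup.orderOf_coe w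
    have hcop : (orderOf cg).Coprime (orderOf wg) := by
      rw [hgo, hwo]
      refine Nat.Coprime.coprime_dvd_right hWd ?_
      have h4 := hc.four_le
      obtain ⟨n, -, hn⟩ := FiniteField.card F 2
      have heven : Even (Fintype.card F) := hn ▸ Nat.even_pow.mpr ⟨even_two, n.pos.ne'⟩
      have h1 : (Fintype.card F - 1).Coprime 2 := Nat.coprime_two_right.mpr
        (Nat.Even.sub_odd (by omega) heven odd_one)
      rw [show Fintype.card F + 1 = (Fintype.card F - 1) + 2 by omega]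
      exact Nat.coprime_self_add_right.mpr h1
    have hcomm : Commute cg wg := Subtype.ext ((commute_κ hc hgen w.2.1 g).eq.symm)
    refine isCyclic_of_orderOf_eq_card (cg * wg) (le_antisymm (Nat.le_of_dvd Nat.card_pos
      (orderOf_dvd_natCard _)) ?_)
    rw [hcomm.orderOf_mul_eq_mul_orderOf_of_coprime hcop, hgo, hwo,
      ← Fintype.card_units, ← Nat.card_eq_fintype_card, ← Nat.card_prod]
    refine Nat.card_le_card_of_injective
      (fun d : D => (Classical.choose (hscal d d.2),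
        (⟨(d : G) * (T.κ (Classical.choose (hscal d d.2)))⁻¹,
          (Classical.choose_spec (hscal d d.2)).1⟩ : ↥(fixI a t)))) fun d e h => ?_
    obtain ⟨h1, h2⟩ := Prod.ext_iff.mp h
    simp only at h1
    have h2' := congrArg Subtype.val h2
    simp only [h1] at h2'
    exact Subtype.ext (mul_right_cancel h2')
  · intro hbot
    refine hV ?_
    rw [eq_bot_iff]
    rintro v ⟨hv, hvt⟩
    obtain ⟨l, hl, hl'⟩ := hscal v hv
    have hvt' : Commute t v := (Subgroup.mem_centralizer_singleton_iff.mp hvt).symm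
    have hl1 : (l : F) = 1 := by
      -- `v` fixes `t`, hence the distinguished involution
      have h1 : IsForm a t Q (T.ι l) (T.ι l) 1 (T.ι l) := by
        refine ⟨T.ι_mem _, one_mem _, T.ι_mem _, ?_⟩
        have hi : v * t * v⁻¹ = t := by rw [hvt'.eq.symm, mul_inv_cancel_right]
        have hb := congrArg (fun g => v * g * v⁻¹) T.base
        rw [mul_one, ← hl']
        calc t * (v * T.ι 1 * v⁻¹) * t = v * t * v⁻¹ * (v * T.ι 1 * v⁻¹) * (v * t * v⁻¹) := by
              rw [hi]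
          _ = v * (t * T.ι 1 * t) * v⁻¹ := by group
          _ = v * T.ι 1 * v⁻¹ * (v * t * v⁻¹) * (v * T.ι 1 * v⁻¹) := by rw [hb]; group
          _ = _ := by rw [hi]
      have e := T.ι_inj (form_unique hS h1 (form_z hc l)).1
      have e2 : ((l : F) + 1) ^ 2 = 0 := by
        rw [CharTwo.add_sq, one_pow, sq]
        nth_rewrite 2 [e]
        rw [Units.mul_inv, CharTwo.add_self_eq_zero]
      exact CharTwo.add_eq_zero.mp (pow_eq_zero_iff two_ne_zero |>.mp e2)
    rw [hbot, Subgroup.mem_bot, show l = 1 from Units.ext hl1, map_one, inv_one, mul_one] at hl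
    rw [hl]; exact one_mem _

/-- An automorphism fixing the involutions of `Q` fixes or inverts `W`. -/
theorem aut_fixI (φ : MulAut G) (hQ : ∀ x ∈ Q, φ x ∈ Q) (hZ : ∀ z ∈ Q, z * z = 1 → φ z = z)
    (hD : ∀ d ∈ stabilizer G a ⊓ stabilizer G (t • a),
      φ d ∈ stabilizer G a ⊓ stabilizer G (t • a)) :
    (∀ w ∈ fixI a t, φ w = w) ∨ ∀ w ∈ fixI a t, φ w = w⁻¹ := by
  let δ : Q →* Q := (φ.toMonoidHom.comp Q.subtype).codRestrict Q fun x => hQ x x.2
  have hδfix : ∀ x : Q, x * x = 1 → δ x = x := fun x hx =>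
    Subtype.ext (hZ x x.2 (congrArg Subtype.val hx))
  have hW : ∀ w ∈ fixI a t, φ w ∈ fixI a t := by
    intro w hw
    refine mem_fixI.mpr ⟨hD w hw.1, fun z hz => ?_⟩
    have hzQ := H38.invol_mem_Q hS hz.1 hz.2.2
    have h := ((mem_fixI.mp hw).2 z hz).map φ.toMonoidHom
    simp only [MulEquiv.coe_toMonoidHom] at h
    rwa [hZ z hzQ hz.2.2] at h
  obtain ⟨x₀, hx₀⟩ := exists_fst_ne hc
  have hsemi : ∀ (w : G) (hw : w ∈ fixI a t) (x : Q),
      δ (cQ hS ⟨w, hw.1.1⟩ x) = cQ hS ⟨φ w, (hW w hw).1.1⟩ (δ x) := fun w hw x => Subtype.ext (by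
    show φ (w * x * w⁻¹) = φ w * φ x * (φ w)⁻¹
    rw [map_mul, map_mul, map_inv])
  have heq : ∀ {v w : G} (hv : v ∈ fixI a t) (hw : w ∈ fixI a t),
      (∀ x, (c (cQ hS ⟨v, hv.1.1⟩ x)).1 = (c (cQ hS ⟨w, hw.1.1⟩ x)).1) → v = w := by
    intro v w hv hw h
    refine inv_mul_eq_one.mp (eq_one_of_trivial hc
      (Subgroup.mul_mem _ (Subgroup.inv_mem _ hw.1) hv.1) (fun r => ?_)
      fun x => ?_) |>.symm
    · exact mul_inv_eq_iff_eq_mul.mpr (((commute_ι hc hw r).inv_left).mul_left (commute_ι hc hv r)).eq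
    · obtain ⟨m, -, hm⟩ := exists_mult hc hw
      obtain ⟨m', -, hm'⟩ := exists_mult hc (inv_mem hw)
      rw [show (⟨w⁻¹ * v, (Subgroup.mul_mem _ (Subgroup.inv_mem _ hw.1) hv.1).1⟩ : stabilizer G a) =
        ⟨w⁻¹, (inv_mem hw).1.1⟩ * ⟨v, hv.1.1⟩ from rfl, map_mul, MulAut.mul_apply, hm', h, ← hm',
        ← MulAut.mul_apply, ← map_mul,
        show (⟨w⁻¹, (inv_mem hw).1.1⟩ * ⟨w, hw.1.1⟩ : stabilizer G a) = 1 from
          Subtype.ext (inv_mul_cancel w), map_one, MulAut.one_apply]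
  obtain ⟨m, hm, h | h⟩ := isometry_cases hc δ hδfix
  · left
    intro w hw
    obtain ⟨l, -, hl⟩ := exists_mult hc hw
    obtain ⟨l', -, hl'⟩ := exists_mult hc (hW w hw)
    have hll : l' = l := by
      have h1 := congrArg (fun z => (c z).1) (hsemi w hw x₀)
      simp only [h, hl, hl'] at h1
      refine mul_right_cancel₀ (mul_ne_zero (left_ne_zero_of_mul (hm.trans_ne one_ne_zero)) hx₀) ?_
      linear_combination -h1
    exact heq (hW w hw) hw fun x => by rw [hl', hl, hll]
  · right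
    intro w hw
    obtain ⟨l, hlN, hl⟩ := exists_mult hc hw
    obtain ⟨l', -, hl'⟩ := exists_mult hc (hW w hw)
    obtain ⟨l'', -, hl''⟩ := exists_mult hc (inv_mem hw)
    have hll : l' = l ^ Fintype.card F := by
      have h1 := congrArg (fun z => (c z).1) (hsemi w hw x₀)
      simp only [h, hl, hl', mul_pow] at h1
      refine mul_right_cancel₀ (mul_ne_zero (left_ne_zero_of_mul (hm.trans_ne one_ne_zero))
        (pow_ne_zero (Fintype.card F) hx₀)) ?_
      linear_combination -h1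
    have hinv : l'' = l ^ Fintype.card F := by
      have h1 := hl'' (cQ hS ⟨w, hw.1.1⟩ x₀)
      rw [← MulAut.mul_apply, ← map_mul, show (⟨w⁻¹, (inv_mem hw).1.1⟩ * ⟨w, hw.1.1⟩ :
        stabilizer G a) = 1 from Subtype.ext (inv_mul_cancel w), map_one, MulAut.one_apply, hl] at h1
      refine mul_right_cancel₀ (mul_ne_zero (left_ne_zero_of_mul (hlN.trans_ne one_ne_zero)) hx₀) ?_
      linear_combination -h1 - (c x₀).1 * hlN
    exact heq (hW w hw) (inv_mem hw) fun x => by rw [hl', hl'', hll, hinv]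

end Setup

/-- The unitary shape. -/
theorem exists_coords (hS : Cfsg.IsRankOneSetup G Ω a t Q)
    (h2 : ∃ x y : G, x ≠ 1 ∧ y ≠ 1 ∧ x ≠ y ∧ x * x = 1 ∧ y * y = 1 ∧ x * y = y * x)
    (hgen : Subgroup.closure ((Q : Set G) ∪ {t}) = ⊤)
    (hV : (stabilizer G a ⊓ stabilizer G (t • a)) ⊓ Subgroup.centralizer {t} ≠ ⊥) :
    ∃ (F K : Type) (_ : Field F) (_ : Fintype F) (_ : CharP F 2) (_ : Field K) (_ : Fintype K)
      (_ : CharP K 2) (T : Torus a t Q F) (c : Q → K × K),
      Fintype.card F = Nat.card (Cfsg.involutionsIn (stabilizer G a : Set G)) + 1 ∧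
        Coords hS T c := by
  classical
  cases nonempty_fintype G
  obtain ⟨-, hsq, hcard⟩ := H99.RankOne.structure_Q hS h2 hgen hV
  obtain ⟨ω, hω, hne⟩ := H99.RankOne.Hecke.exists_goodHom hS h2 hV
  obtain ⟨F, iF, iFt, hchar, hq, hqI, ⟨T⟩⟩ := exists_torus hS h2 fun s hs r hr he =>
    H48.RankOne.eq_invol hS hω hs hr he hcard (Nat.succ_pos _)
      (H99.RankOne.coef_eq hS h2 hgen hω hne) h2 rfl hsq
  obtain ⟨K, iK, iKt, hK, c, hinj, hok, hsurj, hmul, hmap⟩ :=
    exists_coords_setup hS T hsq hq (by rw [hqI]; exact hcard)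
  obtain ⟨n, -, hn⟩ := FiniteField.card F 2
  haveI : Fact (Nat.Prime 2) := ⟨Nat.prime_two⟩
  haveI hK2 : CharP K 2 := charP_of_card_eq_prime_pow (f := (n : ℕ) * 2) (by rw [hK, hn, pow_mul])
  exact ⟨F, K, iF, iFt, hchar, iK, iKt, hK2, T, c, hqI, hK,
    fun x y => by rw [hn]; exact add_pow_char_pow x y 2 n, hq, by rw [hqI]; exact hcard,
    hinj, hok, hsurj, hmul, hmap⟩

end Cfsg.Agent.H72.Asch
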